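import Cfsg.Agent.Lib.AschSp.Rational
import Cfsg.Agent.Lib.Aschbacher.Main
import Cfsg.Agent.Lib.Aschbacher.SympForms

/-!
The almost simple case: the residual class, a subfield member, or class 8.
-/

set_option autoImplicit false
set_option linter.unusedSectionVars false
set_option linter.style.haveILetI false

namespace CfsgLib.AschSp

open Matrix Cfsg.Geo CfsgLib.Aschbacher
open scoped MatrixGroups

variable {m : ℕ} {F : Type*} [Field F]

local notation "ιS" => (Fin m ⊕ Fin m)
local notation "𝕄" => Matrix (Fin m ⊕ Fin m) (Fin m ⊕ Fin m) F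
local notation "sf" => Cfsg.sympForm m F

/-- An absolutely irreducible group of isometries fixing a hermitian form is realisable over the fixed
field. -/
theorem realisable_of_unitary [Fintype F] (hm : 0 < m) {P : Subgroup (GL ιS F)}
    (hP : P ≤ Cfsg.spGL m F) (halg : alg P = ⊤) {σ : F ≃+* F} {f : (ιS → F) → (ιS → F) → F}
    (hf : IsUnitaryForm σ f) (hfix : FixesForm (matrixSet P) f) :
    ∃ F₀ : Subfield F, F₀ ≠ ⊤ ∧ RealisableOver F₀ (matrixSet P) := by
  classical
  haveI : Nonempty ιS := ⟨Sum.inl ⟨0, hm⟩⟩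
  have hs := isSesqForm_of_unitary hf
  let bl : (ιS → F) →ₗ[F] (ιS → F) →ₗ[F] F :=
    LinearMap.mk₂ F (fun u v => f u fun i => σ.symm (v i))
      (fun x y v => hs.add_left x y _)
      (fun c x v => hs.smul_left c x _)
      (fun v x y => by
        rw [show (fun i => σ.symm ((x + y) i)) = (fun i => σ.symm (x i)) + fun i => σ.symm (y i) from
          funext fun i => map_add σ.symm _ _]
        exact hs.add_right _ _ _)
      (fun c v x => by
        rw [show (fun i => σ.symm ((c • x) i)) = σ.symm c • fun i => σ.symm (x i) from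
          funext fun i => map_mul σ.symm _ _, hs.smul_right, RingEquiv.apply_symm_apply]
        rfl)
  obtain ⟨A, hA⟩ : ∃ A, A = LinearMap.toMatrix₂' F bl := ⟨_, rfl⟩
  have hval : ∀ u v, f u v = u ⬝ᵥ (A *ᵥ fun i => σ (v i)) := by
    intro u v
    rw [← Matrix.toLinearMap₂'_apply', hA, Matrix.toLinearMap₂'_toMatrix']
    show f u v = f u _
    simp
  have hAu : IsUnit A := by
    rw [Matrix.isUnit_iff_isUnit_det, isUnit_iff_ne_zero, Ne, ← Matrix.exists_mulVec_eq_zero_iff]
    rintro ⟨v, hv, h0⟩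
    have hw : (fun i => σ.symm (v i)) ≠ 0 := fun h => hv (funext fun i => by simpa using congrFun h i)
    obtain ⟨x, hx⟩ := (hf.nondegenerate _ hw).1
    refine hx ?_
    rw [hval]
    simp [h0]
  obtain ⟨Au, hAu'⟩ := hAu
  obtain ⟨Ju, hJu⟩ := (Matrix.isUnit_iff_isUnit_det _).2 (Matrix.isUnit_det_J (Fin m) F)
  have hmap : ∀ x ∈ P, (x : 𝕄).map σ = (↑(Au⁻¹ * Ju) : 𝕄) * (x : 𝕄) * (↑(Au⁻¹ * Ju)⁻¹ : 𝕄) := by
    intro x hx
    have hu : IsUnit ((x : 𝕄)ᵀ) := (Matrix.isUnit_transpose (x : 𝕄)).2 x.isUnit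
    have h1 : (x : 𝕄)ᵀ * A * (x : 𝕄).map σ = A := by
      ext i j
      have h := hfix _ ⟨x, hx, rfl⟩ (Pi.single i 1) (Pi.single j 1)
      rw [hval, hval] at h
      have e1 : (fun l => σ (((x : 𝕄) *ᵥ Pi.single j 1) l)) = fun l => ((x : 𝕄).map σ) l j := by
        funext l; simp
      have e2 : (fun l => σ ((Pi.single j (1 : F) : ιS → F) l)) = Pi.single j 1 := by
        funext l
        rcases eq_or_ne l j with rfl | hl
        · simp
        · simp [hl]
      simp only [Units.coeHom_apply] at h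
      rw [e1, e2] at h
      simp only [Matrix.mulVec_single_one, single_dotProduct, one_mul, Matrix.col_apply] at h
      rw [← h, mul_assoc]
      simp only [Matrix.mul_apply, transpose_apply, dotProduct, mulVec, Matrix.col_apply]
    refine (hu.mul Au.isUnit).mul_left_cancel ?_
    rw [hAu', h1, Units.val_mul, _root_.mul_inv_rev, inv_inv, Units.val_mul]
    calc A = ((x : 𝕄)ᵀ * (Ju : 𝕄) * (x : 𝕄)) * (↑Ju⁻¹ : 𝕄) * (Au : 𝕄) := by
          rw [hJu, transpose_J_of_mem (hP hx), ← hJu, Units.mul_inv, one_mul, hAu']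
      _ = _ := by
          rw [← hAu']
          simp only [mul_assoc, Units.mul_inv_cancel_left]
  obtain ⟨M, hM⟩ : ∃ M, M = Au⁻¹ * Ju := ⟨_, rfl⟩
  rw [← hM] at hmap
  let T : 𝕄 →+ 𝕄 :=
    { toFun := fun z => (↑M⁻¹ : 𝕄) * z.map σ * (M : 𝕄)
      map_zero' := by simp
      map_add' := fun a b => by rw [Matrix.map_add _ (map_add σ), mul_add, add_mul] }
  have hTP : ∀ x ∈ P, T (x : 𝕄) = (x : 𝕄) := fun x hx => by
    show (↑M⁻¹ : 𝕄) * (x : 𝕄).map σ * (M : 𝕄) = _
    rw [hmap x hx]
    simp [mul_assoc]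
  have hTs : ∀ (c : F) z, T (c • z) = σ c • T z := fun c z => by
    show (↑M⁻¹ : 𝕄) * (c • z).map σ * (M : 𝕄) = σ c • ((↑M⁻¹ : 𝕄) * z.map σ * (M : 𝕄))
    rw [show (c • z).map σ = σ c • z.map σ by ext i j; simp, Matrix.mul_smul, Matrix.smul_mul]
  have hspan : ⊤ ≤ Submodule.span F (Set.range fun x : P => ((x : GL ιS F) : 𝕄)) := by
    intro y _
    have hy : y ∈ Subalgebra.toSubmodule (alg P) := by rw [halg]; exact Algebra.mem_top (R := F)
    rw [alg, Algebra.adjoin_eq_span] at hy
    refine Submodule.span_mono ?_ hy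
    intro z hz
    induction hz using Submonoid.closure_induction with
    | mem z hz => obtain ⟨g, hg, rfl⟩ := hz; exact ⟨⟨g, hg⟩, rfl⟩
    | one => exact ⟨1, by simp⟩
    | mul a b _ _ ha hb =>
      obtain ⟨g, rfl⟩ := ha
      obtain ⟨h, rfl⟩ := hb
      exact ⟨g * h, by simp⟩
  obtain ⟨s, hsS, hsspan, hsind⟩ := exists_linearIndependent F (Set.range fun x : P => ((x : GL ιS F) : 𝕄))
  haveI : Fintype s := Fintype.ofFinite _
  have hstop : ⊤ ≤ Submodule.span F (Set.range ((↑) : s → 𝕄)) := by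
    rw [Subtype.range_coe, hsspan]; exact hspan
  let b : Module.Basis s F 𝕄 := Module.Basis.mk hsind hstop
  have hTb : ∀ i, T (b i) = b i := fun i => by
    obtain ⟨x, hx⟩ := hsS i.2
    have hx' : ((x : GL ιS F) : 𝕄) = (i : 𝕄) := hx
    rw [Module.Basis.mk_apply, ← hx']
    exact hTP x x.2
  let F₀ : Subfield F := RingHom.eqLocusField (σ : F →+* F) (RingHom.id F)
  have h₀ : F₀ ≠ ⊤ := fun h => hf.ne_refl (RingEquiv.ext fun a => by
    have : a ∈ F₀ := by rw [h]; exact Subfield.mem_top a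
    exact this)
  refine ⟨F₀, h₀, realisable_of_span halg F₀ ?_ (fun i => b i) fun x hx => ?_⟩
  · rw [← Module.finrank_eq_card_basis b, Module.finrank_matrix, Module.finrank_self, mul_one]
  · have h1 := b.sum_repr (x : 𝕄)
    have h2 := congrArg T h1
    rw [map_sum, hTP x hx] at h2
    simp only [hTs, hTb] at h2
    have hfixed : ∀ i, σ (b.repr (x : 𝕄) i) = b.repr (x : 𝕄) i := fun i => by
      have h3 := congrFun (congrArg (fun z => (b.repr z : s → F)) h2) i
      simpa [b.repr_sum_self, Finsupp.single_apply] using h3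
    rw [← h1]
    refine Submodule.sum_mem _ fun i _ => ?_
    exact Submodule.smul_mem _ (⟨b.repr (x : 𝕄) i, hfixed i⟩ : F₀) (Submodule.subset_span ⟨i, rfl⟩)

/-- The almost simple case of the core theorem. -/
theorem case_almostSimple [Fintype F] {H P : Subgroup (GL ιS F)} (hH : H ≤ Cfsg.spGL m F) (hm : 0 < m)
    (hP : IsSimpleData (H ⊔ scalars ιS F) P) : Case H := by
  classical
  haveI : Nonempty ιS := ⟨Sum.inl ⟨0, hm⟩⟩
  have hPH : P ≤ H := by
    calc P = ⁅P, P⁆ := hP.perfect.symm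
      _ ≤ ⁅H ⊔ scalars ιS F, H ⊔ scalars ιS F⁆ := Subgroup.commutator_mono hP.le hP.le
      _ ≤ H := (commutator_sup_scalars H).le.trans (Subgroup.commutator_le_self H)
  by_cases hreal : ∃ F₀ : Subfield F, F₀ ≠ ⊤ ∧ RealisableOver F₀ (matrixSet P)
  · obtain ⟨F₀, h₀, hr⟩ := hreal
    exact case_subfield le_sup_left hm hP.normal (hPH.trans hH) hP.alg_top h₀ hr
  by_cases hQ : ∃ Q : (ιS → F) → F, IsNondegenerateQuadraticForm Q ∧ FixesQuadForm (matrixSet P) Q
  · obtain ⟨Q, hQ, hfix⟩ := hQ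
    have hsf : FixesForm (matrixSet P) (Cfsg.sympForm m F) := by
      rintro _ ⟨x, hx, rfl⟩ u v
      exact hH (hPH hx) u v
    obtain ⟨c, hc⟩ := fixed_form_unique hP.alg_top (isSesqForm_of_bilinear isSymplecticForm.bilinear)
      isSymplecticForm.nondegenerate (isSesqForm_of_bilinear hQ.polar_bilinear) hsf (fixesForm_polar hfix)
    obtain ⟨u, v, huv⟩ := isNondegenerateForm_ne_zero hQ.nondegenerate
    have hc0 : c ≠ 0 := fun h => huv (by rw [hc, h, zero_mul])
    have h2 : (2 : F) = 0 := by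
      have h1 := hc u v
      have h1' := hc v u
      rw [QuadraticMap.polar_comm, MaxSub.sympForm_swap] at h1'
      have h3 : (2 : F) * QuadraticMap.polar Q u v = 0 := by linear_combination h1 + h1'
      exact (mul_eq_zero.1 h3).resolve_right huv
    have heven : ¬ Odd (Fintype.card F) := fun h => two_ne_zero_of_odd h h2
    have hQ' : IsNondegenerateQuadraticForm (fun w => c⁻¹ * Q w) := by
      have hpol : QuadraticMap.polar (fun w => c⁻¹ * Q w) = Cfsg.sympForm m F := by
        funext u v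
        have h1 : QuadraticMap.polar (fun w => c⁻¹ * Q w) u v = c⁻¹ * QuadraticMap.polar Q u v := by
          simp only [QuadraticMap.polar]; ring
        rw [h1, hc, ← mul_assoc, inv_mul_cancel₀ hc0, one_mul]
      exact ⟨fun a w => by rw [hQ.smul]; ring, hpol ▸ isSymplecticForm.bilinear,
        hpol ▸ isSymplecticForm.nondegenerate⟩
    refine .quad (fun w => c⁻¹ * Q w) heven hQ' (fun u v => ?_) (le_sup_left.trans
      (le_quadSimilarityGroup_of_fixes hP.normal hP.alg_top
        (by rw [Fintype.card_sum, Fintype.card_fin]; omega) hQ' fun s hs v => by rw [hfix s hs]))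
    have h1 : QuadraticMap.polar (fun w => c⁻¹ * Q w) u v = c⁻¹ * QuadraticMap.polar Q u v := by
      simp only [QuadraticMap.polar]; ring
    rw [h1, hc, ← mul_assoc, inv_mul_cancel₀ hc0, one_mul]
  refine .residual ⟨P, hP.residualCore fun F₀ h₀ hr => hreal ⟨F₀, h₀, hr⟩, hQ, ?_⟩
  rintro ⟨σ, f, hf, hfix⟩
  exact hreal (realisable_of_unitary hm (hPH.trans hH) hP.alg_top hf hfix)

end CfsgLib.AschSp
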