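import Cfsg.Agent.Lib.AschSp.Form

/-!
The possible conclusions of Aschbacher's theorem for the symplectic groups, the reducible case and the
cases coming from families of orthogonal idempotents.
-/

set_option autoImplicit false
set_option linter.unusedSectionVars false

namespace CfsgLib.AschSp

open Matrix Cfsg.Geo CfsgLib.Aschbacher
open scoped MatrixGroups

variable {m : ℕ} {F : Type*} [Field F]

local notation "ιS" => (Fin m ⊕ Fin m)
local notation "𝕄" => Matrix (Fin m ⊕ Fin m) (Fin m ⊕ Fin m) F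
local notation "sf" => Cfsg.sympForm m F

/-- The conclusions of the classification, with the data of the member containing `H`. -/
inductive Case [Fintype F] (H : Subgroup (GL ιS F)) : Prop
  | totSing (W : Submodule F (ιS → F)) (h0 : W ≠ ⊥) (hts : IsTotallySingularFor (Cfsg.sympForm m F) W)
      (hle : H ≤ subspaceStabilizer W)
  | nondeg (W : Submodule F (ιS → F)) (h0 : W ≠ ⊥) (hnd : IsNondegenerateOn (Cfsg.sympForm m F) W)
      (hdim : Module.finrank F W < m) (hle : H ≤ subspaceStabilizer W)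
  | decomp (t k : ℕ) (D : Fin t → Submodule F (ιS → F))
      (hD : IsNondegenerateMDecomposition (Cfsg.sympForm m F) k D) (hle : H ≤ decompositionStabilizer D)
  | tsPair (D : Fin 2 → Submodule F (ιS → F)) (hodd : Odd (Fintype.card F)) (hD : IsMDecomposition m D)
      (hts : ∀ i, IsTotallySingularFor (Cfsg.sympForm m F) (D i)) (hle : H ≤ decompositionStabilizer D)
  | field (r : ℕ) (K : Subalgebra F 𝕄) (hr : r.Prime) (hK : IsFieldSubalgebra r K)
      (hsa : IsSelfAdjointFor (Cfsg.sympForm m F) K) (halt : ∀ k ∈ K, ∀ v, sf (k *ᵥ v) v = 0)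
      (hle : H ≤ subalgebraNormalizer K)
  | unitary (K : Subalgebra F 𝕄) (hodd : Odd (Fintype.card F)) (hK : IsFieldSubalgebra 2 K)
      (hac : IsAdjointClosedFor (Cfsg.sympForm m F) K) (hns : ¬ IsSelfAdjointFor (Cfsg.sympForm m F) K)
      (hle : H ≤ subalgebraNormalizer K)
  | tensor (n₁ n₂ : ℕ) (e : ιS ≃ Fin n₁ × Fin n₂) (P : GL ιS F)
      (f₁ : (Fin n₁ → F) → (Fin n₁ → F) → F) (f₂ : (Fin n₂ → F) → (Fin n₂ → F) → F)
      (hodd : Odd (Fintype.card F)) (h3 : 3 ≤ n₂) (hf₁ : IsSymplecticForm f₁) (hf₂ : IsSymmetricForm f₂)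
      (hfs : IsTensorFormStructure id (Cfsg.sympForm m F) f₁ f₂ e P)
      (hle : H ≤ tensorProductSubgroup n₁ n₂ e P)
  | subfield (F₀ : Subfield F) (r : ℕ) (P : GL ιS F) (ζ : F) (hr : r.Prime)
      (hcard : Fintype.card F = Nat.card F₀ ^ r) (hζ : ζ ≠ 0)
      (hrat : IsFormRationalStructure (Cfsg.sympForm m F) F₀ ζ P) (hle : H ≤ subfieldSubgroup F₀ P)
  | symp (R : Subgroup (GL ιS F)) (p k : ℕ) (hR : IsSymplecticTypeGroup 2 R)
      (habs : ActsAbsolutelyIrreducibly (matrixSet R))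
      (hsim : R ≤ similarityGroup (Cfsg.sympForm m F)) (hp : p.Prime) (hodd : Odd p)
      (hF : Fintype.card F = p) (hcard : Nat.card R = 2 ^ (1 + 2 * k))
      (hcent : Nat.card (Subgroup.center R) = 2) (hminus : IsOfMinusType k R) (hk : 2 ^ k = 2 * m)
      (hpm : ∀ x ∈ R, ∀ y ∈ R, (x : 𝕄) * (y : 𝕄) = (y : 𝕄) * (x : 𝕄) ∨
        (x : 𝕄) * (y : 𝕄) = -((y : 𝕄) * (x : 𝕄)))
      (hsp : R ≤ Cfsg.spGL m F) (hle : H ≤ subgroupNormalizer R)
  | wreath (k t : ℕ) (e : ιS ≃ (Fin t → Fin k)) (P : GL ιS F) (f₁ : (Fin k → F) → (Fin k → F) → F)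
      (hodd : Odd (Fintype.card F)) (htodd : Odd t) (ht : 3 ≤ t)
      (h32 : ¬ (Fintype.card F = 3 ∧ k = 2)) (hf₁ : IsSymplecticForm f₁)
      (hfs : IsTensorPowerFormStructure id (Cfsg.sympForm m F) f₁ e P)
      (hle : H ≤ tensorWreathSubgroup k t e P)
  | quad (Q : (ιS → F) → F) (heven : ¬ Odd (Fintype.card F)) (hQ : IsNondegenerateQuadraticForm Q)
      (hpol : ∀ u v, QuadraticMap.polar Q u v = sf u v) (hle : H ≤ quadSimilarityGroup Q)
  | residual (hres : InSymplecticResidualClass H)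

theorem Case.classify [Fintype F] {H : Subgroup (GL ιS F)} (hH : H ≤ Cfsg.spGL m F) (h : Case H) :
    (∃ M : Subgroup (GL ιS F), InSymplecticClass m F M ∧ H ≤ M) ∨ InSymplecticResidualClass H := by
  cases h with
  | totSing W h0 hts hle =>
    exact Or.inl ⟨_, Or.inl (Or.inl ⟨W, h0, hts, rfl⟩), le_inf hle hH⟩
  | nondeg W h0 hnd hdim hle =>
    exact Or.inl ⟨_, Or.inl (Or.inr (Or.inl ⟨W, h0, hnd, hdim, rfl⟩)), le_inf hle hH⟩
  | decomp t k D hD hle =>
    exact Or.inl ⟨_, Or.inl (Or.inr (Or.inr (Or.inl ⟨t, k, D, hD, rfl⟩))), le_inf hle hH⟩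
  | tsPair D hodd hD hts hle =>
    exact Or.inl ⟨_, Or.inl (Or.inr (Or.inr (Or.inr (Or.inl ⟨D, hodd, hD, hts, rfl⟩)))), le_inf hle hH⟩
  | field r K hr hK hsa halt hle =>
    exact Or.inl ⟨_, Or.inr (Or.inl ⟨r, K, hr, hK, hsa, halt, rfl⟩), le_inf hle hH⟩
  | unitary K hodd hK hac hns hle =>
    exact Or.inl ⟨_, Or.inr (Or.inr (Or.inl ⟨K, hodd, hK, hac, hns, rfl⟩)), le_inf hle hH⟩
  | tensor n₁ n₂ e P f₁ f₂ hodd h3 hf₁ hf₂ hfs hle =>
    exact Or.inl ⟨_, Or.inr (Or.inr (Or.inr (Or.inl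
      ⟨n₁, n₂, e, P, f₁, f₂, hodd, h3, hf₁, hf₂, hfs, rfl⟩))), le_inf hle hH⟩
  | subfield F₀ r P ζ hr hcard hζ hrat hle =>
    exact Or.inl ⟨_, Or.inl (Or.inr (Or.inr (Or.inr (Or.inr (Or.inl
      ⟨F₀, r, P, ζ, hr, hcard, hζ, hrat, rfl⟩))))), le_inf hle hH⟩
  | symp R p k hR habs hsim hp hodd hF hcard hcent hminus hk hpm hsp hle =>
    exact Or.inl ⟨_, Or.inl (Or.inr (Or.inr (Or.inr (Or.inr (Or.inr (Or.inl
      ⟨R, p, k, hR, habs, hsim, hp, hodd, hF, hcard, hcent, hminus, rfl⟩)))))), le_inf hle hH⟩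
  | wreath k t e P f₁ hodd htodd ht h32 hf₁ hfs hle =>
    exact Or.inl ⟨_, Or.inr (Or.inr (Or.inr (Or.inr
      ⟨k, t, e, P, f₁, hodd, htodd, ht, h32, hf₁, hfs, rfl⟩))), le_inf hle hH⟩
  | quad Q heven hQ hpol hle =>
    exact Or.inl ⟨_, Or.inl (Or.inr (Or.inr (Or.inr (Or.inr (Or.inr (Or.inr
      ⟨Q, heven, hQ, hpol, rfl⟩)))))), le_inf hle hH⟩
  | residual hres => exact Or.inr hres

theorem map_le_of_mem {W : Submodule F (ιS → F)} {g : GL ιS F}
    (h : ∀ x ∈ W, (g : 𝕄) *ᵥ x ∈ W) : W.map (Matrix.toLin' (g : 𝕄)) ≤ W := by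
  rintro _ ⟨x, hx, rfl⟩; exact h x hx

/-- The reducible case. -/
theorem case_reducible [Fintype F] {H : Subgroup (GL ιS F)} (hH : H ≤ Cfsg.spGL m F)
    (hred : ¬ ActsIrreducibly (matrixSet H)) : Case H := by
  obtain ⟨W, hW, h0, h1⟩ : ∃ W : Submodule F (ιS → F),
      (∀ s ∈ matrixSet H, W.map (Matrix.toLin' s) ≤ W) ∧ W ≠ ⊥ ∧ W ≠ ⊤ := by
    simpa [ActsIrreducibly] using hred
  have hWi : ∀ g ∈ H, ∀ x ∈ W, (g : 𝕄) *ᵥ x ∈ W := fun g hg x hx =>
    hW (g : 𝕄) ⟨g, hg, rfl⟩ ⟨x, hx, rfl⟩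
  have hPi : ∀ g ∈ H, ∀ x ∈ MaxSub.spPerp W, (g : 𝕄) *ᵥ x ∈ MaxSub.spPerp W := by
    intro g hg x hx w hw
    have h := hH hg x (((g⁻¹ : GL ιS F) : 𝕄) *ᵥ w)
    simp only [Units.coeHom_apply, mulVec_mulVec, ← Units.val_mul, mul_inv_cancel, Units.val_one,
      one_mulVec] at h
    rw [h]
    exact hx _ (hWi _ (H.inv_mem hg) w hw)
  have hle : ∀ U : Submodule F (ιS → F), (∀ g ∈ H, ∀ x ∈ U, (g : 𝕄) *ᵥ x ∈ U) →
      H ≤ subspaceStabilizer U := fun U hU g hg =>
    MaxSub.mem_subspaceStabilizer_of_maps (hU g hg)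
  by_cases hR : W ⊓ MaxSub.spPerp W = ⊥
  swap
  · refine .totSing (W ⊓ MaxSub.spPerp W) hR (fun u hu v hv => hu.2 v hv.1) (hle _ ?_)
    exact fun g hg x hx => ⟨hWi g hg x hx.1, hPi g hg x hx.2⟩
  have hsum : Module.finrank F W + Module.finrank F (MaxSub.spPerp W) = 2 * m := by
    have h2 := MaxSub.finrank_le_finrank_spPerp_add W
    have h3 := Submodule.finrank_sup_add_finrank_inf_eq W (MaxSub.spPerp W)
    rw [hR, finrank_bot, add_zero] at h3
    have h4 := Submodule.finrank_le (W ⊔ MaxSub.spPerp W)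
    rw [Module.finrank_pi, Fintype.card_sum, Fintype.card_fin] at h4
    omega
  have hsup : W ⊔ MaxSub.spPerp W = ⊤ := by
    refine Submodule.eq_top_of_finrank_eq ?_
    have h3 := Submodule.finrank_sup_add_finrank_inf_eq W (MaxSub.spPerp W)
    rw [hR, finrank_bot, add_zero] at h3
    rw [Module.finrank_pi, Fintype.card_sum, Fintype.card_fin]
    omega
  have hndW : IsNondegenerateOn (Cfsg.sympForm m F) W := by
    intro w hw hw0
    have h : ∃ x ∈ W, sf w x ≠ 0 := by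
      by_contra h; push Not at h
      exact hw0 ((Submodule.mem_bot F).1 (hR ▸ ⟨hw, h⟩))
    obtain ⟨x, hx, hwx⟩ := h
    exact ⟨⟨x, hx, by rw [MaxSub.sympForm_swap]; exact neg_ne_zero.2 hwx⟩, x, hx, hwx⟩
  have hndP : IsNondegenerateOn (Cfsg.sympForm m F) (MaxSub.spPerp W) := by
    intro w hw hw0
    have h : ∃ x ∈ MaxSub.spPerp W, sf w x ≠ 0 := by
      by_contra h; push Not at h
      refine hw0 (form_sep_left fun u => ?_)
      obtain ⟨a, ha, b, hb, rfl⟩ := Submodule.mem_sup.1 (hsup ▸ (Submodule.mem_top : u ∈ ⊤))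
      rw [MaxSub.sympForm_add_right, hw a ha, h b hb, add_zero]
    obtain ⟨x, hx, hwx⟩ := h
    exact ⟨⟨x, hx, by rw [MaxSub.sympForm_swap]; exact neg_ne_zero.2 hwx⟩, x, hx, hwx⟩
  have hW0 : 0 < Module.finrank F W :=
    Nat.pos_of_ne_zero fun h => h0 (Submodule.finrank_eq_zero.1 h)
  rcases lt_trichotomy (Module.finrank F W) m with hlt | heq | hgt
  · exact .nondeg W h0 hndW hlt (hle W hWi)
  · refine .decomp 2 m ![W, MaxSub.spPerp W]
      { decomp := ⟨le_rfl, by omega, ?_, ?_, ?_⟩, nondegenerate := ?_, orthogonal := ?_ } ?_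
    · rw [Fin.forall_fin_two]; exact ⟨heq, show Module.finrank F (MaxSub.spPerp W) = m by omega⟩
    · refine iSupIndep_pair (i := (0 : Fin 2)) (j := 1) (by decide) ?_ |>.2 (disjoint_iff.2 hR)
      intro i; fin_cases i <;> simp
    · rw [← hsup]
      refine le_antisymm (iSup_le fun i => ?_) (sup_le ?_ ?_)
      · fin_cases i <;> simp
      · exact le_iSup_of_le 0 le_rfl
      · exact le_iSup_of_le 1 le_rfl
    · rw [Fin.forall_fin_two]; exact ⟨hndW, hndP⟩
    · intro i j hij u hu v hv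
      fin_cases i <;> fin_cases j
      · exact absurd rfl hij
      · exact MaxSub.spPerp_comm hv hu
      · exact hu v hv
      · exact absurd rfl hij
    · intro g hg
      refine ⟨1, Fin.forall_fin_two.2 ⟨?_, ?_⟩⟩ <;>
      · refine Submodule.eq_of_le_of_finrank_eq (map_le_of_mem ?_) ?_
        · first | exact hWi g hg | exact hPi g hg
        · exact (Submodule.equivMapOfInjective _ (mulVec_injective_of_isUnit g.isUnit) _).symm.finrank_eq
  · refine .nondeg (MaxSub.spPerp W) (fun h => h1 ?_) hndP (by omega) (hle _ hPi)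
    rw [h, sup_bot_eq] at hsup; exact hsup

variable {κ : Type*} [Fintype κ]

/-- A permuted family of self-adjoint orthogonal idempotents gives an orthogonal decomposition. -/
theorem decomp_of_idem [Fintype F] {H : Subgroup (GL ιS F)} (E : κ → 𝕄) (h2 : 2 ≤ Fintype.card κ) (hidem : ∀ i, E i * E i = E i)
    (h0 : ∀ i, E i ≠ 0) (horth : ∀ i j, i ≠ j → E i * E j = 0) (hsum : ∑ i, E i = 1)
    (hadj : ∀ i, adj (E i) = E i) (hperm : ∀ g ∈ H, ∀ i, ∃ j, cj g (E i) = E j)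
    (htrans : ∀ i j, ∃ g : GL ιS F, cj g (E i) = E j) :
    ∃ (k : ℕ) (D : Fin (Fintype.card κ) → Submodule F (ιS → F)),
      IsNondegenerateMDecomposition (Cfsg.sympForm m F) k D ∧ H ≤ decompositionStabilizer D := by
  classical
  let e := (Fintype.equivFin κ).symm
  let D : Fin (Fintype.card κ) → Submodule F (ιS → F) := fun i => LinearMap.range (Matrix.toLin' (E (e i)))
  have hmem : ∀ i x, x ∈ D i ↔ E (e i) *ᵥ x = x := by
    intro i x
    constructor
    · rintro ⟨y, rfl⟩; rw [Matrix.toLin'_apply, mulVec_mulVec, hidem]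
    · exact fun h => ⟨x, h⟩
  have hmap : ∀ (g : GL ιS F) i j, cj g (E (e i)) = E (e j) →
      (D i).map (Matrix.toLin' (g : 𝕄)) = D j := by
    intro g i j h
    have hgE : (g : 𝕄) * E (e i) = E (e j) * (g : 𝕄) := by
      rw [← h, cj_apply, mul_assoc, ← Units.val_mul, inv_mul_cancel, Units.val_one, mul_one]
    ext x
    constructor
    · rintro ⟨y, hy, rfl⟩
      rw [hmem, Matrix.toLin'_apply, mulVec_mulVec, ← hgE, ← mulVec_mulVec, (hmem i y).1 hy]
    · intro hx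
      refine ⟨((g⁻¹ : GL ιS F) : 𝕄) *ᵥ x, (hmem i _).2 ?_, ?_⟩
      · rw [mulVec_mulVec]
        have h' : E (e i) * ((g⁻¹ : GL ιS F) : 𝕄) = ((g⁻¹ : GL ιS F) : 𝕄) * E (e j) := by
          rw [← h, cj_apply, ← mul_assoc, ← mul_assoc, ← Units.val_mul, inv_mul_cancel, Units.val_one,
            one_mul]
        rw [h', ← mulVec_mulVec, (hmem j x).1 hx]
      · rw [Matrix.toLin'_apply, mulVec_mulVec, ← Units.val_mul, mul_inv_cancel, Units.val_one, one_mulVec]
  have hdim : ∀ i j, Module.finrank F (D i) = Module.finrank F (D j) := by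
    intro i j
    obtain ⟨g, hg⟩ := htrans (e i) (e j)
    rw [← hmap g i j hg]
    exact (Submodule.equivMapOfInjective _ (mulVec_injective_of_isUnit g.isUnit) _).finrank_eq
  have hz : 0 < Fintype.card κ := by omega
  refine ⟨Module.finrank F (D ⟨0, hz⟩), D,
    { decomp := ⟨h2, ?_, fun i => hdim i _, ?_, ?_⟩, nondegenerate := ?_, orthogonal := ?_ }, ?_⟩
  · refine Nat.pos_of_ne_zero fun h => h0 (e ⟨0, hz⟩) ?_
    have hb := Submodule.finrank_eq_zero.1 h
    exact Matrix.toLin'.injective (by rw [map_zero]; exact LinearMap.range_eq_bot.1 hb)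
  · rw [iSupIndep_def]
    intro i
    rw [Submodule.disjoint_def]
    intro x hx hx'
    have hk : (⨆ j, ⨆ (_ : j ≠ i), D j) ≤ LinearMap.ker (Matrix.toLin' (E (e i))) := by
      refine iSup₂_le fun j hj => ?_
      intro y hy
      rw [LinearMap.mem_ker, Matrix.toLin'_apply, ← (hmem j y).1 hy, mulVec_mulVec,
        horth _ _ (fun h => hj (e.injective h).symm), zero_mulVec]
    have := hk hx'
    rw [LinearMap.mem_ker, Matrix.toLin'_apply, (hmem i x).1 hx] at this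
    exact this
  · rw [eq_top_iff]
    intro x _
    have h : (∑ i, E i) *ᵥ x = x := by rw [hsum, one_mulVec]
    rw [← h, sum_mulVec]
    refine Submodule.sum_mem _ fun i _ => Submodule.mem_iSup_of_mem (e.symm i) ?_
    exact ⟨x, by simp [e]⟩
  · intro i w hw hw0
    have h : ∃ x, sf w x ≠ 0 := by
      by_contra h; push Not at h; exact hw0 (form_sep_left h)
    obtain ⟨x, hx⟩ := h
    have hx' : sf w (E (e i) *ᵥ x) ≠ 0 := by rw [adj_spec', hadj, (hmem i w).1 hw]; exact hx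
    have hm : E (e i) *ᵥ x ∈ D i := ⟨x, rfl⟩
    exact ⟨⟨_, hm, by rw [MaxSub.sympForm_swap]; exact neg_ne_zero.2 hx'⟩, _, hm, hx'⟩
  · intro i j hij u hu v hv
    rw [← (hmem i u).1 hu, ← (hmem j v).1 hv, adj_spec, hadj, mulVec_mulVec,
      horth _ _ (fun h => hij (e.injective h)), zero_mulVec, form_zero_right]
  · intro g hg
    choose π hπ using hperm g hg
    have hinj : Function.Injective π := fun a b h => by
      by_contra hab
      have h' : cj g (E a) = cj g (E b) := by rw [hπ, hπ, h]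
      have := horth a b hab
      rw [(cj g).injective h', hidem] at this
      exact h0 b this
    refine ⟨(e.trans (Equiv.ofBijective π (Finite.injective_iff_bijective.1 hinj))).trans e.symm,
      fun i => hmap g i _ ?_⟩
    simp [hπ]

theorem case_of_idem [Fintype F] {H : Subgroup (GL ιS F)} (E : κ → 𝕄) (h2 : 2 ≤ Fintype.card κ) (hidem : ∀ i, E i * E i = E i)
    (h0 : ∀ i, E i ≠ 0) (horth : ∀ i j, i ≠ j → E i * E j = 0) (hsum : ∑ i, E i = 1)
    (hadj : ∀ i, adj (E i) = E i) (hperm : ∀ g ∈ H, ∀ i, ∃ j, cj g (E i) = E j)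
    (htrans : ∀ i j, ∃ g : GL ιS F, cj g (E i) = E j) : Case H :=
  let ⟨k, D, hD, hle⟩ := decomp_of_idem E h2 hidem h0 horth hsum hadj hperm htrans
  .decomp _ k D hD hle

/-- An element `k` with `k + adj k = 1` whose quadratic form is invariant gives class 8. -/
theorem case_of_qOf [Fintype F] {H : Subgroup (GL ιS F)} (hH : H ≤ Cfsg.spGL m F) (heven : ¬ Odd (Fintype.card F)) (k : 𝕄)
    (hk : k + adj k = 1) (hinv : ∀ g ∈ H, ∀ v, qOf (cj g k) v = qOf k v) : Case H :=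
  .quad (qOf k) heven (qOf_nondeg (two_eq_zero_of_not_odd heven) hk)
    (polar_qOf (two_eq_zero_of_not_odd heven) hk)
    fun g hg => ⟨1, fun v => by
      rw [qOf_mulVec (hH hg), hinv _ (H.inv_mem hg), Units.val_one, one_mul]⟩

theorem qOf_adj (h2 : (2 : F) = 0) (k : 𝕄) (v : ιS → F) : qOf (adj k) v = qOf k v := by
  rw [qOf, qOf, adj_spec, adj_adj, form_comm_of_two h2]

end CfsgLib.AschSp
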