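import Cfsg.Agent.Lib.AschSp.Cases
import Cfsg.Agent.Lib.Aschbacher.Centre

/-!
A normalised subgroup whose enveloping algebra has non-scalar centre: decompositions and extension
fields compatible with the symplectic form.
-/

set_option autoImplicit false
set_option linter.unusedSectionVars false

namespace CfsgLib.AschSp

open Matrix Cfsg.Geo CfsgLib.Aschbacher
open scoped MatrixGroups

variable {m : ℕ} {F : Type*} [Field F]

local notation "ιS" => (Fin m ⊕ Fin m)
local notation "𝕄" => Matrix (Fin m ⊕ Fin m) (Fin m ⊕ Fin m) F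
local notation "sf" => Cfsg.sympForm m F

/-- The decomposition case. -/
theorem case_idemSystem [Fintype F] {H G L : Subgroup (GL ιS F)} (hH : H ≤ Cfsg.spGL m F) (hHG : H ≤ G)
    (hG : G ≤ similarityGroup (Cfsg.sympForm m F)) (hLG : L ≤ G) {t : ℕ} {E : Fin t → 𝕄}
    (hE : IsIdemSystem G (alg L) E) : Case H := by
  have hA : ∀ x ∈ alg L, adj x ∈ alg L := fun x hx => adj_mem_alg (hLG.trans hG) hx
  have hsurj : ∀ i, ∃ j, adj (E i) = E j := by
    intro i
    refine hE.eq_of_minimal (hA _ (hE.mem i)) ?_ ?_ ?_ ?_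
    · intro y hy
      apply adj_injective
      rw [adj_mul, adj_mul, adj_adj, hE.central i _ (hA y hy)]
    · rw [← adj_mul, hE.idem]
    · intro h; exact hE.ne_zero i (adj_injective (h.trans adj_zero.symm))
    · intro h hh hc hi
      have h1 := hE.minimal i (adj h) (hA h hh)
        (fun y hy => adj_injective (by rw [adj_mul, adj_mul, adj_adj, hc _ (hA y hy)]))
        (by rw [← adj_mul, hi])
      have hcm : adj (E i) * h = h * adj (E i) := (hc _ (hA _ (hE.mem i))).symm
      rcases h1 with h1 | h1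
      · left; rw [← hcm]; exact adj_injective (by rw [adj_mul, adj_adj, h1, adj_zero])
      · right; rw [← hcm]; exact adj_injective (by rw [adj_mul, adj_adj, h1])
  choose π hπ using hsurj
  have hEinj : Function.Injective E := fun i j h => by
    by_contra hij
    have := hE.orth i j hij
    rw [← h, hE.idem] at this
    exact hE.ne_zero i this
  have hinvol : ∀ i, π (π i) = i := fun i => hEinj (by rw [← hπ, ← hπ, adj_adj])
  have htau : ∀ g ∈ G, ∀ i j, cj g (E i) = E j → cj g (E (π i)) = E (π j) := by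
    intro g hg i j h; rw [← hπ, ← hπ, ← adj_cj (hG hg), h]
  by_cases hfix : ∃ i, π i = i
  · obtain ⟨i, hi⟩ := hfix
    refine case_of_idem E (by simpa using hE.two_le) hE.idem hE.ne_zero hE.orth hE.sum_one
      (fun j => ?_) (fun g hg i => ?_) (fun i j => ?_)
    · obtain ⟨g, hg, hgj⟩ := hE.trans i j
      rw [← hgj, adj_cj (hG hg), hπ, hi]
    · obtain ⟨σ, hσ⟩ := hE.perm g (hHG hg); exact ⟨σ i, hσ i⟩
    · obtain ⟨g, -, hg⟩ := hE.trans i j; exact ⟨g, hg⟩
  push Not at hfix
  obtain ht2 | ht2 := Nat.lt_or_ge 2 t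
  · classical
    let pair : Fin t → Finset (Fin t) := fun i => {i, π i}
    let κ := {s : Finset (Fin t) // s ∈ Finset.univ.image pair}
    have hmk : ∀ i, pair i ∈ Finset.univ.image pair := fun i => Finset.mem_image_of_mem _ (Finset.mem_univ i)
    have hpair : ∀ s : κ, ∃ i, s.1 = pair i := fun s => by
      obtain ⟨i, -, hi⟩ := Finset.mem_image.1 s.2; exact ⟨i, hi.symm⟩
    have hmem_pair : ∀ i j, j ∈ pair i → pair j = pair i := by
      intro i j hj
      rcases Finset.mem_insert.1 hj with rfl | hj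
      · rfl
      · rw [Finset.mem_singleton.1 hj]
        simp only [pair, hinvol, Finset.pair_comm]
    let F' : κ → 𝕄 := fun s => ∑ i ∈ s.1, E i
    have hFmul : ∀ s : κ, ∀ j, F' s * E j = if j ∈ s.1 then E j else 0 := by
      intro s j
      simp only [F', Finset.sum_mul]
      split_ifs with hj
      · rw [Finset.sum_eq_single j (fun i _ hi => hE.orth i j hi) (fun h => absurd hj h), hE.idem]
      · exact Finset.sum_eq_zero fun i hi => hE.orth i j fun h => hj (h ▸ hi)
    have hdis : ∀ s s' : κ, ∀ j, j ∈ s.1 → j ∈ s'.1 → s = s' := by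
      intro s s' j hj hj'
      obtain ⟨a, ha⟩ := hpair s
      obtain ⟨b, hb⟩ := hpair s'
      rw [ha] at hj; rw [hb] at hj'
      exact Subtype.ext (by rw [ha, hb, ← hmem_pair a j hj, ← hmem_pair b j hj'])
    have hFcj : ∀ g : GL ιS F, g ∈ G → ∀ i j, cj g (E i) = E j →
        cj g (F' ⟨pair i, hmk i⟩) = F' ⟨pair j, hmk j⟩ := by
      intro g hg i j h
      simp only [F', pair, map_sum]
      rw [Finset.sum_pair (hfix i).symm, Finset.sum_pair (hfix j).symm, h, htau g hg i j h]
    refine case_of_idem F' ?_ (fun s => ?_) (fun s => ?_) (fun s s' h => ?_) ?_ (fun s => ?_)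
      (fun g hg s => ?_) (fun s s' => ?_)
    · obtain ⟨i⟩ : Nonempty (Fin t) := ⟨⟨0, by omega⟩⟩
      obtain ⟨j, hj⟩ : ∃ j, j ∉ pair i := by
        by_contra h; push Not at h
        have := Finset.card_le_card (fun j (_ : j ∈ (Finset.univ : Finset (Fin t))) => h j)
        have := (Finset.card_insert_le i {π i})
        simp [pair] at *
        omega
      exact Fintype.one_lt_card_iff.2 ⟨⟨pair i, hmk i⟩, ⟨pair j, hmk j⟩,
        fun h => hj (by
          have h' : pair i = pair j := congrArg Subtype.val h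
          rw [h']; exact Finset.mem_insert_self _ _)⟩
    · show F' s * ∑ i ∈ s.1, E i = _
      rw [Finset.mul_sum]
      exact Finset.sum_congr rfl fun j hj => by rw [hFmul, if_pos hj]
    · obtain ⟨i, hi⟩ := hpair s
      intro h
      have := hFmul s i
      rw [if_pos (by rw [hi]; exact Finset.mem_insert_self _ _), h, zero_mul] at this
      exact hE.ne_zero i this.symm
    · show F' s * ∑ i ∈ s'.1, E i = _
      rw [Finset.mul_sum]
      exact Finset.sum_eq_zero fun j hj => by rw [hFmul, if_neg fun hj' => h (hdis s s' j hj' hj)]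
    · rw [← mul_one (∑ s, F' s), ← hE.sum_one, Finset.mul_sum]
      refine Finset.sum_congr rfl fun j _ => ?_
      rw [Finset.sum_mul, Finset.sum_eq_single (⟨pair j, hmk j⟩ : κ)]
      · rw [hFmul, if_pos (Finset.mem_insert_self _ _)]
      · intro s _ hs
        rw [hFmul, if_neg fun hj => hs (hdis _ _ j hj (Finset.mem_insert_self _ _))]
      · simp
    · obtain ⟨i, hi⟩ := hpair s
      simp only [F', hi, pair, Finset.sum_pair (hfix i).symm, adj_add, hπ, hinvol, add_comm]
    · obtain ⟨i, hi⟩ := hpair s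
      obtain ⟨σ, hσ⟩ := hE.perm g (hHG hg)
      obtain rfl : s = ⟨pair i, hmk i⟩ := Subtype.ext hi
      exact ⟨_, hFcj g (hHG hg) i _ (hσ i)⟩
    · obtain ⟨i, hi⟩ := hpair s
      obtain ⟨j, hj⟩ := hpair s'
      obtain rfl : s = ⟨pair i, hmk i⟩ := Subtype.ext hi
      obtain rfl : s' = ⟨pair j, hmk j⟩ := Subtype.ext hj
      obtain ⟨g, hg, h⟩ := hE.trans i j
      exact ⟨g, hFcj g hg i j h⟩
  obtain rfl : t = 2 := le_antisymm ht2 hE.two_le
  have h10 : π 0 = 1 := by
    have := hfix 0
    revert this; generalize π 0 = a; fin_cases a <;> simp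
  have h01 : π 1 = 0 := by rw [← h10, hinvol]
  obtain ⟨k, hk⟩ := hE.isMDecomposition
  have hle : H ≤ decompositionStabilizer (idemSpace E) := hHG.trans hE.le_stabilizer
  by_cases hodd : Odd (Fintype.card F)
  · have hkm : k = m := by
      have h := hk.finrank_eq
      have hsum : Module.finrank F (idemSpace E 0) + Module.finrank F (idemSpace E 1) = 2 * m := by
        have h1 := Submodule.finrank_sup_add_finrank_inf_eq (idemSpace E 0) (idemSpace E 1)
        have h2 : idemSpace E 0 ⊔ idemSpace E 1 = ⊤ := by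
          rw [← hk.iSup_eq_top, eq_comm]
          refine le_antisymm (iSup_le fun i => ?_) (sup_le (le_iSup _ 0) (le_iSup _ 1))
          fin_cases i <;> simp
        have h3 : idemSpace E 0 ⊓ idemSpace E 1 = ⊥ :=
          disjoint_iff.1 (hk.indep.pairwiseDisjoint (by decide : (0 : Fin 2) ≠ 1))
        rw [h2, h3, finrank_bot, finrank_top, add_zero, Module.finrank_pi, Fintype.card_sum,
          Fintype.card_fin] at h1
        omega
      rw [h 0, h 1] at hsum; omega
    refine .tsPair (idemSpace E) hodd (hkm ▸ hk) (fun i => ?_) hle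
    rintro _ ⟨u, rfl⟩ _ ⟨v, rfl⟩
    rw [Matrix.toLin'_apply, Matrix.toLin'_apply, adj_spec, mulVec_mulVec, hπ,
      hE.orth _ _ (hfix i), zero_mulVec, form_zero_right]
  · refine case_of_qOf hH hodd (E 0) ?_ fun g hg v => ?_
    · rw [hπ, h10, ← hE.sum_one, Fin.sum_univ_two]
    · obtain ⟨σ, hσ⟩ := hE.perm g (hHG hg)
      rw [hσ]
      generalize σ 0 = a
      fin_cases a
      · rfl
      · show qOf (E 1) v = _
        rw [← h10, ← hπ, qOf_adj (two_eq_zero_of_not_odd hodd)]

/-- The extension-field case. -/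
theorem case_field [Fintype F] {H G L : Subgroup (GL ιS F)} (hH : H ≤ Cfsg.spGL m F) (hHG : H ≤ G)
    (hG : G ≤ similarityGroup (Cfsg.sympForm m F)) (hLG : L ≤ G) (hL : Normalized G L)
    (hinv : ∀ x ∈ centreOf (alg L), x ≠ 0 → ∃ y ∈ centreOf (alg L), x * y = 1)
    (hdim : 1 < Module.finrank F (centreOf (alg L))) : Case H := by
  have hcomm : ∀ x ∈ centreOf (alg L), ∀ y ∈ centreOf (alg L), x * y = y * x := fun x hx y hy =>
    (commute_centreOf hx hy.1)
  obtain ⟨r, hr, hre⟩ := Nat.exists_prime_and_dvd (show Module.finrank F (centreOf (alg L)) ≠ 1 by omega)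
  obtain ⟨K, hKset, hK, hle⟩ :=
    exists_prime_subfield hcomm hinv (inv_centreOf (inv_alg hL)) hdim hr hre
  have hmem : ∀ x, x ∈ K ↔ x ∈ centreOf (alg L) ∧ x ^ (Fintype.card F ^ r) = x := fun x => by
    rw [← SetLike.mem_coe, hKset]; rfl
  have hadjpow : ∀ (x : 𝕄) (n : ℕ), adj (x ^ n) = adj x ^ n := by
    intro x n
    induction n with
    | zero => rw [pow_zero, pow_zero, adj_one]
    | succ n ih => rw [pow_succ, adj_mul, ih, pow_succ']
  have hadjK : ∀ x ∈ K, adj x ∈ K := by
    intro x hx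
    rw [hmem] at hx ⊢
    exact ⟨adj_mem_centreOf (fun y hy => adj_mem_alg (hLG.trans hG) hy) hx.1, by rw [← hadjpow, hx.2]⟩
  by_cases hsa : ∀ x ∈ K, adj x = x
  · refine .field r K hr hK (fun k hk u v => by rw [adj_spec, hsa k hk]) (fun k hk v => ?_) (hHG.trans hle)
    have h0 : sf (k *ᵥ v) v + sf (k *ᵥ v) v = 0 := by
      nth_rewrite 1 [adj_spec, hsa k hk, MaxSub.sympForm_swap]
      exact neg_add_cancel _
    by_cases h2 : (2 : F) = 0
    swap
    · exact (mul_eq_zero.1 (show (2 : F) * sf (k *ᵥ v) v = 0 by rw [two_mul, h0])).resolve_left h2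
    have hsq : Function.Bijective (fun x : K => x * x) := by
      haveI : Finite K := Finite.of_injective _ Subtype.val_injective
      refine Finite.injective_iff_bijective.1 fun x y hxy => ?_
      by_contra hne
      have h1 : ((x : 𝕄) - y) * ((x : 𝕄) - y) = 0 := by
        have hxy' : (x : 𝕄) * x = y * y := congrArg Subtype.val hxy
        rw [sub_mul, mul_sub, mul_sub, hxy', hK.comm y y.2 x x.2]
        calc (y : 𝕄) * y - x * y - (x * y - y * y) = (2 : F) • ((y : 𝕄) * y - x * y) := by
              rw [two_smul]; abel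
          _ = 0 := by rw [h2, zero_smul]
      obtain ⟨z, -, hz⟩ := hK.inv _ (sub_mem x.2 y.2) (sub_ne_zero.2 fun h => hne (Subtype.ext h))
      have h3 := congrArg (· * z) h1
      simp only [mul_assoc, hz, mul_one, zero_mul] at h3
      exact hne (Subtype.ext (sub_eq_zero.1 h3))
    obtain ⟨l, hl⟩ := hsq.surjective ⟨k, hk⟩
    have hl' : (l : 𝕄) * l = k := congrArg Subtype.val hl
    rw [← hl', ← mulVec_mulVec, adj_spec, hsa l l.2, MaxSub.sympForm_self]
  push Not at hsa
  obtain ⟨x, hxK, hx⟩ := hsa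
  obtain ⟨z, hzK, hz⟩ := hK.inv (x - adj x) (sub_mem hxK (hadjK x hxK)) (sub_ne_zero.2 (Ne.symm hx))
  have hz' : z * (x - adj x) = 1 := mul_eq_one_comm.1 hz
  let Kf : Subalgebra F K :=
    { carrier := {w | adj (w : 𝕄) = w}
      one_mem' := adj_one
      mul_mem' := fun {a b} ha hb => by
        show adj ((a : 𝕄) * (b : 𝕄)) = (a : 𝕄) * (b : 𝕄)
        rw [adj_mul, ha, hb, hK.comm (b : 𝕄) b.2 (a : 𝕄) a.2]
      zero_mem' := adj_zero
      add_mem' := fun {a b} ha hb => by
        show adj ((a : 𝕄) + (b : 𝕄)) = (a : 𝕄) + (b : 𝕄)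
        rw [adj_add, ha, hb]
      algebraMap_mem' := fun c => by
        show adj (algebraMap F 𝕄 c) = algebraMap F 𝕄 c
        rw [Algebra.algebraMap_eq_smul_one, adj_smul, adj_one] }
  haveI : Nontrivial K := ⟨⟨0, ⟨x - adj x, sub_mem hxK (hadjK x hxK)⟩, fun h =>
    hx (sub_eq_zero.1 (congrArg Subtype.val h).symm).symm⟩⟩
  have hfield : IsField K :=
    { exists_pair_ne := exists_pair_ne K
      mul_comm := fun a b => Subtype.ext (hK.comm a a.2 b b.2)
      mul_inv_cancel := fun {a} ha => by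
        obtain ⟨b, hbK, hb⟩ := hK.inv a a.2 fun h => ha (Subtype.ext h)
        exact ⟨⟨b, hbK⟩, Subtype.ext hb⟩ }
  haveI : IsDomain K := hfield.isDomain
  have hsimple : Kf = ⊥ := by
    haveI := Subalgebra.isSimpleOrder_of_finrank_prime F K (hK.finrank_eq.symm ▸ hr)
    refine (IsSimpleOrder.eq_bot_or_eq_top Kf).resolve_right fun h => hx ?_
    have : (⟨x, hxK⟩ : K) ∈ Kf := h ▸ Algebra.mem_top
    exact this
  have hfixF : ∀ y ∈ K, adj y = y → ∃ c : F, y = c • (1 : 𝕄) := by
    intro y hyK hy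
    have : (⟨y, hyK⟩ : K) ∈ (⊥ : Subalgebra F K) := hsimple ▸ (show (⟨y, hyK⟩ : K) ∈ Kf from hy)
    obtain ⟨c, hc⟩ := Algebra.mem_bot.1 this
    refine ⟨c, ?_⟩
    rw [← Algebra.algebraMap_eq_smul_one]
    exact (congrArg Subtype.val hc).symm
  have hadjz : adj z = -z := by
    have h2 : adj z * (x - adj x) = -1 := by
      have h3 := congrArg adj hz
      rw [adj_one, adj_mul, adj_sub, adj_adj] at h3
      rw [← neg_sub (adj x) x, mul_neg, h3]
    calc adj z = adj z * ((x - adj x) * z) := by rw [hz, mul_one]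
      _ = -z := by rw [← mul_assoc, h2, neg_one_mul]
  have hspan : Subalgebra.toSubmodule K ≤ Submodule.span F ({1, x} : Set 𝕄) := by
    intro w hw
    have hw' : w ∈ K := hw
    let b := (w - adj w) * z
    have hbK : b ∈ K := K.mul_mem (sub_mem hw' (hadjK w hw')) hzK
    have hb : adj b = b := by
      show adj ((w - adj w) * z) = _
      rw [adj_mul, adj_sub, adj_adj, hadjz,
        hK.comm _ (K.neg_mem hzK) _ (sub_mem (hadjK w hw') hw'), mul_neg, ← neg_mul, neg_sub]
    have hkey : b * x - b * adj x = w - adj w := by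
      rw [← mul_sub, mul_assoc, hz', mul_one]
    have ha : adj (w - b * x) = w - b * x := by
      rw [adj_sub, adj_mul, hb, hK.comm _ (hadjK x hxK) b hbK, sub_eq_sub_iff_sub_eq_sub]
      rw [show b * adj x - b * x = -(b * x - b * adj x) by abel, hkey]; abel
    obtain ⟨c, hc⟩ := hfixF b hbK hb
    obtain ⟨d, hd⟩ := hfixF _ (sub_mem hw' (K.mul_mem hbK hxK)) ha
    refine Submodule.mem_span_pair.2 ⟨d, c, ?_⟩
    rw [← hd, hc, Matrix.smul_mul, one_mul, sub_add_cancel]
  have hr2 : r = 2 := by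
    have h1 : r ≤ 2 := by
      rw [← hK.finrank_eq]
      refine (Submodule.finrank_mono hspan).trans ?_
      classical
      have h := finrank_span_finset_le_card (R := F) ({1, x} : Finset 𝕄)
      rw [Finset.coe_pair] at h
      exact h.trans Finset.card_le_two
    exact le_antisymm h1 hr.two_le
  subst hr2
  by_cases hodd : Odd (Fintype.card F)
  · refine .unitary K hodd hK (fun k hk => ⟨adj k, hadjK k hk, adj_spec k⟩) (fun hsa' => hx ?_) (hHG.trans hle)
    exact mat_ext fun u v => by rw [← adj_spec, hsa' x hxK]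
  have h2 := two_eq_zero_of_not_odd hodd
  obtain ⟨c, hc⟩ := hfixF (x + adj x) (add_mem hxK (hadjK x hxK)) (by rw [adj_add, adj_adj, add_comm])
  have hc0 : c ≠ 0 := by
    intro h
    rw [h, zero_smul, add_eq_zero_iff_eq_neg] at hc
    refine hx ?_
    rw [← neg_eq_iff_eq_neg] at hc
    rw [← hc, ← one_smul F x, ← neg_smul, show (-1 : F) = 1 by linear_combination (-1 : F) * h2]
  have hkK : c⁻¹ • x ∈ K := Subalgebra.smul_mem _ hxK _
  have hk : c⁻¹ • x + adj (c⁻¹ • x) = 1 := by
    rw [adj_smul, ← smul_add, hc, smul_smul, inv_mul_cancel₀ hc0, one_smul]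
  refine case_of_qOf hH hodd _ hk fun g hg v => ?_
  have hgK : cj g (c⁻¹ • x) ∈ K := ((hle (hHG hg)) _).1 hkK
  have hk' : cj g (c⁻¹ • x) + adj (cj g (c⁻¹ • x)) = 1 := by
    rw [adj_cj (hG (hHG hg)), ← map_add, hk, map_one]
  exact qOf_eq_of_commute h2 hk' hk (hK.comm _ (hadjK _ hgK) _ hkK) v

end CfsgLib.AschSp
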