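import Cfsg.Agent.Lib.Aschbacher.Defs
import Cfsg.Agent.Lib.MaxSub.SympFull
import Cfsg.Agent.Lib.MaxSub.OmegaElem
import Cfsg.Agent.Lib.Classical.StdQuad

/-!
The adjoint of the standard symplectic form and the quadratic forms `v ↦ f(kv, v)` in even
characteristic.
-/

set_option autoImplicit false
set_option linter.unusedSectionVars false

namespace CfsgLib.AschSp

open Matrix Cfsg.Geo CfsgLib.Aschbacher
open scoped MatrixGroups

variable {m : ℕ} {F : Type*} [Field F]

local notation "ιS" => (Fin m ⊕ Fin m)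
local notation "𝕄" => Matrix (Fin m ⊕ Fin m) (Fin m ⊕ Fin m) F
local notation "sf" => Cfsg.sympForm m F

/-- The adjoint for the standard symplectic form. -/
def adj (a : 𝕄) : 𝕄 := -(Matrix.J (Fin m) F * aᵀ * Matrix.J (Fin m) F)

theorem J_mul_J : Matrix.J (Fin m) F * Matrix.J (Fin m) F = -1 := Matrix.J_squared _ _

theorem J_adj (a : 𝕄) : Matrix.J (Fin m) F * adj a = aᵀ * Matrix.J (Fin m) F := by
  rw [adj, mul_neg, ← mul_assoc, ← mul_assoc, J_mul_J, neg_mul, neg_mul, one_mul, neg_neg]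

theorem J_left_cancel {a b : 𝕄} (h : Matrix.J (Fin m) F * a = Matrix.J (Fin m) F * b) : a = b := by
  have := congrArg (Matrix.J (Fin m) F * ·) h
  simp only [← mul_assoc, J_mul_J, neg_mul, one_mul, neg_inj] at this
  exact this

/-- The defining property of the adjoint. -/
theorem adj_spec (a : 𝕄) (u v : ιS → F) : sf (a *ᵥ u) v = sf u (adj a *ᵥ v) := by
  simp only [Cfsg.sympForm]
  rw [mulVec_mulVec, J_adj, ← mulVec_mulVec, dotProduct_mulVec _ aᵀ, vecMul_transpose]

theorem form_sep_right {v : ιS → F} (h : ∀ u, sf u v = 0) : v = 0 := by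
  by_contra hv
  obtain ⟨i, hi⟩ := Function.ne_iff.1 (MaxSub.spDual_ne_zero hv)
  exact hi (by simpa [Cfsg.sympForm] using h (Pi.single i 1))

theorem form_sep_left {v : ιS → F} (h : ∀ u, sf v u = 0) : v = 0 :=
  form_sep_right fun u => by rw [MaxSub.sympForm_swap, h u, neg_zero]

theorem form_sub_right (u v w : ιS → F) : sf w (u - v) = sf w u - sf w v := by
  simp [Cfsg.sympForm, mulVec_sub]

theorem form_sub_left (u v w : ιS → F) : sf (u - v) w = sf u w - sf v w := sub_dotProduct _ _ _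

theorem form_zero_left (w : ιS → F) : sf 0 w = 0 := zero_dotProduct _

theorem form_zero_right (w : ιS → F) : sf w 0 = 0 := by simp [Cfsg.sympForm]

theorem form_comm_of_two (h2 : (2 : F) = 0) (u v : ιS → F) : sf u v = sf v u := by
  rw [MaxSub.sympForm_swap u v, neg_eq_iff_add_eq_zero.2]
  linear_combination (sf u v) * h2

/-- Matrices are determined by the pairing. -/
theorem mat_ext {a b : 𝕄} (h : ∀ u v, sf u (a *ᵥ v) = sf u (b *ᵥ v)) : a = b := by
  refine Matrix.ext_of_mulVec_single fun i => sub_eq_zero.1 (form_sep_right fun u => ?_)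
  rw [form_sub_right, h, sub_self]

theorem adj_spec' (a : 𝕄) (u v : ιS → F) : sf u (a *ᵥ v) = sf (adj a *ᵥ u) v := by
  rw [MaxSub.sympForm_swap (a *ᵥ v), adj_spec, ← MaxSub.sympForm_swap]

theorem adj_adj (a : 𝕄) : adj (adj a) = a :=
  mat_ext fun u v => by rw [adj_spec' a, adj_spec]

theorem adj_one : adj (1 : 𝕄) = 1 :=
  mat_ext fun u v => by rw [← adj_spec, one_mulVec, one_mulVec]

theorem adj_mul (a b : 𝕄) : adj (a * b) = adj b * adj a :=
  mat_ext fun u v => by
    rw [← adj_spec, ← mulVec_mulVec, ← mulVec_mulVec, adj_spec, adj_spec]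

theorem adj_add (a b : 𝕄) : adj (a + b) = adj a + adj b := by
  simp [adj, mul_add, add_mul]; abel

theorem adj_smul (c : F) (a : 𝕄) : adj (c • a) = c • adj a := by
  simp [adj, smul_neg]

theorem adj_zero : adj (0 : 𝕄) = 0 := by simp [adj]

theorem adj_sub (a b : 𝕄) : adj (a - b) = adj a - adj b := by
  simp [adj, mul_sub, sub_mul]; abel

theorem adj_injective : Function.Injective (adj : 𝕄 → 𝕄) := fun a b h => by
  rw [← adj_adj a, h, adj_adj]

theorem adj_sum {κ : Type*} (s : Finset κ) (a : κ → 𝕄) :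
    adj (∑ i ∈ s, a i) = ∑ i ∈ s, adj (a i) :=
  map_sum (AddMonoidHom.mk' (adj (m := m) (F := F)) adj_add) a s

theorem isSymplecticForm : IsSymplecticForm (Cfsg.sympForm m F) where
  bilinear := ⟨fun x y v => MaxSub.sympForm_add_left x y v, fun c x v => MaxSub.sympForm_smul_left c x v,
    fun v x y => MaxSub.sympForm_add_right x y v, fun c v x => MaxSub.sympForm_smul_right c x v⟩
  skew v w := MaxSub.sympForm_swap w v
  alternating := MaxSub.sympForm_self
  nondegenerate v hv := ⟨by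
      by_contra h; push Not at h; exact hv (form_sep_right h), by
      by_contra h; push Not at h; exact hv (form_sep_left h)⟩

/-- The adjoint of a similitude is a multiple of its inverse. -/
theorem adj_similitude {g : GL ιS F} (hg : g ∈ similarityGroup (Cfsg.sympForm m F)) :
    ∃ c : F, c ≠ 0 ∧ adj (g : 𝕄) = c • ((g⁻¹ : GL ιS F) : 𝕄) := by
  obtain ⟨c, hc⟩ := hg
  refine ⟨c, c.ne_zero, mat_ext fun u v => ?_⟩
  rw [← adj_spec, smul_mulVec, MaxSub.sympForm_smul_right, ← hc, mulVec_mulVec, ← Units.val_mul,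
    mul_inv_cancel, Units.val_one, one_mulVec]

theorem adj_cj {g : GL ιS F} (hg : g ∈ similarityGroup (Cfsg.sympForm m F)) (x : 𝕄) :
    adj (cj g x) = cj g (adj x) := by
  obtain ⟨c, hc0, hc⟩ := adj_similitude hg
  have hc' : adj ((g⁻¹ : GL ιS F) : 𝕄) = c⁻¹ • (g : 𝕄) := by
    apply adj_injective
    rw [adj_adj, adj_smul, hc, smul_smul, inv_mul_cancel₀ hc0, one_smul]
  rw [cj_apply, cj_apply, adj_mul, adj_mul, hc, hc', Matrix.smul_mul, Matrix.mul_smul,
    Matrix.mul_smul, smul_smul, inv_mul_cancel₀ hc0, one_smul, mul_assoc]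

theorem spGL_le_similarityGroup : Cfsg.spGL m F ≤ similarityGroup (Cfsg.sympForm m F) :=
  fun g hg => ⟨1, fun u v => by rw [Units.val_one, one_mul]; exact hg u v⟩

theorem scalars_le_similarityGroup : scalars ιS F ≤ similarityGroup (Cfsg.sympForm m F) := by
  intro g hg
  obtain ⟨c, hc⟩ := (mem_scalars_iff g).1 hg
  refine ⟨c * c, fun u v => ?_⟩
  rw [hc, smul_mulVec, smul_mulVec, one_mulVec, one_mulVec, MaxSub.sympForm_smul_left,
    MaxSub.sympForm_smul_right, Units.val_mul, mul_assoc]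

/-- The algebra of a group of similitudes is closed under the adjoint. -/
theorem adj_mem_alg {L : Subgroup (GL ιS F)} (hL : L ≤ similarityGroup (Cfsg.sympForm m F))
    {x : 𝕄} (hx : x ∈ alg L) : adj x ∈ alg L := by
  rw [alg] at hx ⊢
  induction hx using Algebra.adjoin_induction with
  | mem x hx =>
    obtain ⟨g, hg, rfl⟩ := hx
    obtain ⟨c, -, hc⟩ := adj_similitude (hL hg)
    rw [hc]
    exact Subalgebra.smul_mem _ (Algebra.subset_adjoin (show ((g⁻¹ : GL ιS F) : 𝕄) ∈ matrixSet L from ⟨g⁻¹, L.inv_mem hg, rfl⟩)) c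
  | algebraMap r =>
    rw [Algebra.algebraMap_eq_smul_one, adj_smul, adj_one, ← Algebra.algebraMap_eq_smul_one]
    exact Subalgebra.algebraMap_mem _ r
  | add x y _ _ ihx ihy => rw [adj_add]; exact add_mem ihx ihy
  | mul x y _ _ ihx ihy => rw [adj_mul]; exact mul_mem ihy ihx

theorem adj_mem_centreOf {A : Subalgebra F 𝕄} (hA : ∀ x ∈ A, adj x ∈ A) {x : 𝕄}
    (hx : x ∈ centreOf A) : adj x ∈ centreOf A := by
  refine ⟨hA x hx.1, (Subalgebra.mem_centralizer_iff F).2 fun y hy => ?_⟩
  have := (Subalgebra.mem_centralizer_iff F).1 hx.2 (adj y) (hA y hy)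
  have h' := congrArg adj this
  rw [adj_mul, adj_mul, adj_adj] at h'
  exact h'.symm

/-- The quadratic form attached to a matrix `k`. -/
def qOf (k : 𝕄) (v : ιS → F) : F := sf (k *ᵥ v) v

theorem qOf_smul (k : 𝕄) (c : F) (v : ιS → F) : qOf k (c • v) = c ^ 2 * qOf k v := by
  simp only [qOf, mulVec_smul, MaxSub.sympForm_smul_left, MaxSub.sympForm_smul_right]; ring

theorem polar_qOf (h2 : (2 : F) = 0) {k : 𝕄} (hk : k + adj k = 1) (u v : ιS → F) :
    QuadraticMap.polar (qOf k) u v = sf u v := by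
  have h : qOf k (u + v) - qOf k u - qOf k v = sf (k *ᵥ u) v + sf (k *ᵥ v) u := by
    simp only [qOf, mulVec_add, MaxSub.sympForm_add_left, MaxSub.sympForm_add_right]; ring
  rw [QuadraticMap.polar, h, adj_spec k u v, form_comm_of_two h2 (k *ᵥ v) u,
    ← MaxSub.sympForm_add_right, ← add_mulVec, add_comm, hk, one_mulVec]

theorem qOf_nondeg (h2 : (2 : F) = 0) {k : 𝕄} (hk : k + adj k = 1) :
    IsNondegenerateQuadraticForm (qOf k) := by
  have hp : QuadraticMap.polar (qOf k) = Cfsg.sympForm m F :=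
    funext fun u => funext fun v => polar_qOf h2 hk u v
  exact ⟨qOf_smul k, hp ▸ isSymplecticForm.bilinear, hp ▸ isSymplecticForm.nondegenerate⟩

theorem qOf_mulVec {h : GL ιS F} (hh : h ∈ Cfsg.spGL m F) (k : 𝕄) (v : ιS → F) :
    qOf k ((h : 𝕄) *ᵥ v) = qOf (cj h⁻¹ k) v := by
  have := hh (cj h⁻¹ k *ᵥ v) v
  simp only [Units.coeHom_apply, mulVec_mulVec] at this
  rw [qOf, qOf, mulVec_mulVec, ← this, cj_apply, inv_inv, ← mul_assoc, ← mul_assoc, ← Units.val_mul,
    mul_inv_cancel, Units.val_one, one_mul]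

theorem qOf_symd_eq_zero (h2 : (2 : F) = 0) (x : 𝕄) (v : ιS → F) : qOf (x + adj x) v = 0 := by
  rw [qOf, add_mulVec, MaxSub.sympForm_add_left, adj_spec (adj x) v v, adj_adj,
    form_comm_of_two h2 v]
  linear_combination (sf (x *ᵥ v) v) * h2

theorem qOf_add (a b : 𝕄) (v : ιS → F) : qOf (a + b) v = qOf a v + qOf b v := by
  rw [qOf, qOf, qOf, add_mulVec, MaxSub.sympForm_add_left]

/-- Two commuting elements with symmetrisation `1` define the same quadratic form. -/
theorem qOf_eq_of_commute (h2 : (2 : F) = 0) {a c : 𝕄} (ha : a + adj a = 1) (hc : c + adj c = 1)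
    (hcomm : Commute (adj a) c) (v : ιS → F) : qOf a v = qOf c v := by
  have hx : a + c = a * adj c + adj (a * adj c) := by
    rw [adj_mul, adj_adj, ← hcomm.eq]
    calc a + c = a * (c + adj c) + (a + adj a) * c := by rw [hc, ha, mul_one, one_mul]
      _ = a * adj c + adj a * c + (2 : F) • (a * c) := by
          rw [mul_add, add_mul, two_smul]; abel
      _ = a * adj c + adj a * c := by rw [h2, zero_smul, add_zero]
  have h0 : qOf a v + qOf c v = 0 := by rw [← qOf_add, hx, qOf_symd_eq_zero h2]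
  linear_combination h0 - (qOf c v) * h2

theorem two_eq_zero_of_not_odd [Fintype F] (h : ¬ Odd (Fintype.card F)) : (2 : F) = 0 := by
  by_contra h2
  refine h (Nat.odd_iff.2 (FiniteField.odd_card_of_char_ne_two fun h' => h2 ?_))
  have : CharP F 2 := ringChar.of_eq h'
  exact CharTwo.two_eq_zero

theorem two_ne_zero_of_odd [Fintype F] (h : Odd (Fintype.card F)) : (2 : F) ≠ 0 :=
  CfsgLib.Classical.two_ne_zero_of_odd h

end CfsgLib.AschSp
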