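import Cfsg.Agent.Lib.AschSp.Lists
import Cfsg.Agent.Lib.MaxSub.TensorFrameOdd

/-!
Over three elements a tensor member with a three-dimensional orthogonal factor fixes an orthogonal
decomposition into three parts.
-/

set_option autoImplicit false
set_option linter.unusedSectionVars false

namespace CfsgLib.AschSp

open Matrix Cfsg.Geo CfsgLib.Aschbacher CfsgLib.MaxSub
open scoped MatrixGroups Kronecker

variable {m : ℕ} {F : Type*} [Field F]

local notation "ιS" => (Fin m ⊕ Fin m)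
local notation "𝕄" => Matrix (Fin m ⊕ Fin m) (Fin m ⊕ Fin m) F
local notation "sf" => Cfsg.sympForm m F

theorem decomp_of_tensor_three [Fintype F] (hm : 0 < m) (hq : Fintype.card F = 3) {n₁ : ℕ}
    (e : ιS ≃ Fin n₁ × Fin 3) (P : GL ιS F) {f₁ : (Fin n₁ → F) → (Fin n₁ → F) → F}
    {f₂ : (Fin 3 → F) → (Fin 3 → F) → F} (hf₁ : IsSymplecticForm f₁) (hf₂ : IsSymmetricForm f₂)
    (hfs : IsTensorFormStructure id (Cfsg.sympForm m F) f₁ f₂ e P) :
    ∃ D : Fin 3 → Submodule F (ιS → F), IsNondegenerateMDecomposition (Cfsg.sympForm m F) n₁ D ∧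
      tensorProductSubgroup n₁ 3 e P ⊓ Cfsg.spGL m F ≤ decompositionStabilizer D := by
  classical
  obtain ⟨hn, -, hn1⟩ := tensor_arith e hm hf₁
  obtain ⟨v, d, hd, hv, hli, hperm⟩ := TensorFrame.exists_frame_three hq hf₂
  obtain ⟨c, hc, hform⟩ := TensorFrame.form_pure (σ := id) (fun _ _ => rfl) hfs
    (TensorFrame.formOfGram_gram id f₁ hf₁.bilinear.add_left hf₁.bilinear.smul_left hf₁.bilinear.add_right
      hf₁.bilinear.smul_right)
    (TensorFrame.formOfGram_gram id f₂ hf₂.bilinear.add_left hf₂.bilinear.smul_left hf₂.bilinear.add_right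
      hf₂.bilinear.smul_right)
  let bv := basisOfLinearIndependentOfCardEqFinrank hli (by rw [Module.finrank_fin_fun, Fintype.card_fin])
  have hbv : ∀ l, bv l = v l := fun l => by simp [bv]
  let T := TensorFrame.pure e P
  let D : Fin 3 → Submodule F (ιS → F) := fun l => LinearMap.range (T.flip (v l))
  have hmem : ∀ l x, T x (v l) ∈ D l := fun l x => ⟨x, rfl⟩
  have hC : ∀ l, ∃ C : (ιS → F) →ₗ[F] (Fin n₁ → F), ∀ j x, C (T x (v j)) = if j = l then x else 0 := by
    intro l
    obtain ⟨C, hC⟩ := TensorFrame.pure_contract e P (bv.coord l)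
    refine ⟨C, fun j x => ?_⟩
    rw [hC, ← hbv, Module.Basis.coord_apply, Module.Basis.repr_self, Finsupp.single_apply]
    split <;> simp
  have hdim : ∀ l, Module.finrank F (D l) = n₁ := by
    intro l
    obtain ⟨C, hC⟩ := hC l
    refine (LinearMap.finrank_range_of_inj ?_).trans (Module.finrank_fin_fun F)
    intro x y h
    have h' := congrArg C (show T x (v l) = T y (v l) from h)
    rwa [hC, hC, if_pos rfl, if_pos rfl] at h'
  refine ⟨D, { decomp := ⟨by norm_num, by omega, hdim, ?_, ?_⟩, nondegenerate := ?_, orthogonal := ?_ }, ?_⟩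
  · rw [iSupIndep_def]
    intro l
    obtain ⟨C, hC⟩ := hC l
    rw [Submodule.disjoint_def]
    rintro _ ⟨x, rfl⟩ hx'
    have hk : (⨆ j, ⨆ (_ : j ≠ l), D j) ≤ LinearMap.ker C := by
      refine iSup₂_le fun j hj => ?_
      rintro _ ⟨y, rfl⟩
      show C (T y (v j)) = 0
      rw [hC, if_neg hj]
    have h : C (T x (v l)) = 0 := hk hx'
    rw [hC, if_pos rfl] at h
    rw [h, map_zero]
  · rw [eq_top_iff]
    intro u _
    obtain ⟨x, rfl⟩ := coords_surj e P u
    have hT : ∀ z y, T z y ∈ iSup D := by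
      intro z y
      rw [← bv.sum_repr y, map_sum]
      refine Submodule.sum_mem _ fun l _ => ?_
      rw [map_smul, hbv]
      exact Submodule.smul_mem _ _ (Submodule.mem_iSup_of_mem l (hmem l z))
    have hx : (P : 𝕄) *ᵥ (x ∘ e) = ∑ p : Fin n₁ × Fin 3, x p • T (Pi.single p.1 1) (Pi.single p.2 1) := by
      simp only [T, TensorFrame.pure_def, ← mulVec_smul, ← mulVec_sum]
      congr 1
      funext i
      simp only [Finset.sum_apply, Pi.smul_apply, Function.comp_apply, smul_eq_mul]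
      rw [Finset.sum_eq_single (e i)]
      · simp
      · intro p _ hp
        rcases eq_or_ne (e i).1 p.1 with h | h
        · rw [Pi.single_eq_of_ne (fun h' => hp (Prod.ext h h').symm), mul_zero, mul_zero]
        · rw [Pi.single_eq_of_ne h, zero_mul, mul_zero]
      · simp
    rw [hx]
    exact Submodule.sum_mem _ fun p _ => Submodule.smul_mem _ _ (hT _ _)
  · rintro l _ ⟨x, rfl⟩ hx0
    have hx : x ≠ 0 := fun h => hx0 (by rw [h, map_zero])
    obtain ⟨⟨y, hy⟩, z, hz⟩ := hf₁.nondegenerate x hx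
    refine ⟨⟨_, hmem l y, ?_⟩, _, hmem l z, ?_⟩
    · show sf (T y (v l)) (T x (v l)) ≠ 0
      rw [hform, hv, if_pos rfl]; exact mul_ne_zero hc (mul_ne_zero hy hd)
    · show sf (T x (v l)) (T z (v l)) ≠ 0
      rw [hform, hv, if_pos rfl]; exact mul_ne_zero hc (mul_ne_zero hz hd)
  · rintro i j hij _ ⟨x, rfl⟩ _ ⟨y, rfl⟩
    show sf (T x (v i)) (T y (v j)) = 0
    rw [hform, hv, if_neg hij, mul_zero, mul_zero]
  · rintro g ⟨hgT, hgS⟩
    obtain ⟨a, b, hab⟩ := TensorFrame.tensor_mem hgT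
    obtain ⟨x, hx⟩ : ∃ x : Fin n₁ → F, x ≠ 0 := ⟨Pi.single ⟨0, by omega⟩ 1, by simp⟩
    obtain ⟨-, z, hz⟩ := hf₁.nondegenerate x hx
    have hpres : ∀ y y', f₁ x z * f₂ y y' =
        f₁ ((a : Matrix (Fin n₁) (Fin n₁) F) *ᵥ x) ((a : Matrix (Fin n₁) (Fin n₁) F) *ᵥ z) *
          f₂ ((b : Matrix (Fin 3) (Fin 3) F) *ᵥ y) ((b : Matrix (Fin 3) (Fin 3) F) *ᵥ y') := fun y y' => by
      have h : sf ((g : 𝕄) *ᵥ T x y) ((g : 𝕄) *ᵥ T z y') = sf (T x y) (T z y') := hgS _ _
      rw [hab, hab, hform, hform] at h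
      exact (mul_left_cancel₀ hc h).symm
    obtain ⟨α, hα⟩ : ∃ α, α = f₁ ((a : Matrix (Fin n₁) (Fin n₁) F) *ᵥ x)
      ((a : Matrix (Fin n₁) (Fin n₁) F) *ᵥ z) := ⟨_, rfl⟩
    rw [← hα] at hpres
    have hα0 : α ≠ 0 := fun h => by
      have h' := hpres (v 0) (v 0)
      rw [h, hv, if_pos rfl, zero_mul] at h'
      exact mul_ne_zero hz hd h'
    have hsim : ∀ y y', f₂ ((b : Matrix (Fin 3) (Fin 3) F) *ᵥ y) ((b : Matrix (Fin 3) (Fin 3) F) *ᵥ y') =
        α⁻¹ * f₁ x z * f₂ y y' := fun y y' => by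
      rw [mul_assoc, hpres, inv_mul_cancel_left₀ hα0]
    choose σ r hσ using hperm _ _ (mul_ne_zero (inv_ne_zero hα0) hz) hsim
    have hr : ∀ j, r j ≠ 0 := fun j h => by
      have h' := hσ j
      rw [h, zero_smul] at h'
      exact hli.ne_zero j (mulVec_injective_of_isUnit b.isUnit (h'.trans (mulVec_zero _).symm))
    have hinj : Function.Injective σ := fun i j hij => by
      by_contra hne
      have h : (b : Matrix (Fin 3) (Fin 3) F) *ᵥ ((r j) • v i - (r i) • v j) = 0 := by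
        rw [mulVec_sub, mulVec_smul, mulVec_smul, hσ, hσ, hij, smul_smul, smul_smul, mul_comm, sub_self]
      have h' := mulVec_injective_of_isUnit b.isUnit (h.trans (mulVec_zero _).symm)
      have h'' := congrArg (fun z => bv.repr z i) h'
      simp only [← hbv, map_sub, map_smul, Finsupp.sub_apply, Finsupp.smul_apply, Module.Basis.repr_self,
        Finsupp.single_apply, smul_eq_mul, map_zero, Finsupp.zero_apply, if_pos, if_neg (Ne.symm hne)] at h''
      simp at h''
      exact hr j h''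
    refine ⟨Equiv.ofBijective σ (Finite.injective_iff_bijective.1 hinj), fun i => ?_⟩
    refine Submodule.eq_of_le_of_finrank_eq (fun u hu => ?_) ?_
    · obtain ⟨_, ⟨y, rfl⟩, rfl⟩ := hu
      show (g : 𝕄) *ᵥ T y (v i) ∈ D (σ i)
      rw [hab, hσ, map_smul]
      exact Submodule.smul_mem _ _ (hmem _ _)
    · rw [(Submodule.equivMapOfInjective _ (mulVec_injective_of_isUnit g.isUnit) _).symm.finrank_eq,
        hdim, hdim]

end CfsgLib.AschSp
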