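import Cfsg.Agent.Lib.AschSp.Wreath
import Cfsg.Agent.Lib.Aschbacher.SympType
import Cfsg.Agent.Lib.MaxSub.Symp
import Cfsg.Agent.Lib.MaxSub.Sub

/-!
The symplectic group lies in none of the geometric members.
-/

set_option autoImplicit false
set_option linter.unusedSectionVars false
set_option linter.style.haveILetI false

namespace CfsgLib.AschSp

open Matrix Cfsg.Geo CfsgLib.Aschbacher
open scoped MatrixGroups Kronecker

variable {m : ℕ} {F : Type*} [Field F]

local notation "ιS" => (Fin m ⊕ Fin m)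
local notation "𝕄" => Matrix (Fin m ⊕ Fin m) (Fin m ⊕ Fin m) F
local notation "sf" => Cfsg.sympForm m F

/-- The symplectic transvection with centre `a` and parameter `c`. -/
def stv (a : ιS → F) (c : F) : GL ιS F :=
  MaxSub.tvGL a (c • (Matrix.J (Fin m) F *ᵥ a)) (MaxSub.spDual_smul_dot c a)

theorem stv_mem (a : ιS → F) (c : F) : stv a c ∈ Cfsg.spGL m F := MaxSub.spTv_mem_spGL a c

theorem stv_mulVec (a : ιS → F) (c : F) (x : ιS → F) :
    (stv a c : 𝕄) *ᵥ x = x + (c * sf x a) • a := by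
  rw [stv, MaxSub.coe_tvGL, MaxSub.spTv_mulVec]

theorem inv_stv_mulVec (a : ιS → F) (c : F) (v : ιS → F) :
    ((stv a c)⁻¹ : GL ιS F).1 *ᵥ v = v - (c * sf v a) • a := by
  have h : (stv a c : 𝕄) *ᵥ (v - (c * sf v a) • a) = v := by
    rw [stv_mulVec, form_sub_left, MaxSub.sympForm_smul_left, MaxSub.sympForm_self, mul_zero, sub_zero,
      sub_add_cancel]
  conv_lhs => rw [← h]
  rw [mulVec_mulVec, ← Units.val_mul, inv_mul_cancel, Units.val_one, one_mulVec]

/-- Conjugating by a transvection changes a matrix by one with image in a plane. -/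
theorem cj_stv_sub_mem (a : ιS → F) (c : F) (k : 𝕄) (v : ιS → F) :
    (cj (stv a c) k - k) *ᵥ v ∈ Submodule.span F ({a, k *ᵥ a} : Set (ιS → F)) := by
  rw [sub_mulVec, cj_apply, ← mulVec_mulVec, ← mulVec_mulVec, inv_stv_mulVec, mulVec_sub, mulVec_smul,
    stv_mulVec, Submodule.mem_span_pair]
  refine ⟨c * sf (k *ᵥ v - (c * sf v a) • k *ᵥ a) a, -(c * sf v a), ?_⟩
  module

theorem exists_form_ne_zero (hm : 0 < m) : ∃ x y : ιS → F, sf x y ≠ 0 := by
  have hne : (Pi.single (Sum.inl ⟨0, hm⟩) 1 : ιS → F) ≠ 0 := by simp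
  refine ⟨Pi.single (Sum.inl ⟨0, hm⟩) 1, ?_⟩
  by_contra h; push Not at h; exact hne (form_sep_left h)

theorem exists_form_ne_zero_not_mem {W : Submodule F (ιS → F)} (hW : W ≠ ⊤) {w : ιS → F} (hw : w ≠ 0) :
    ∃ a, a ∉ W ∧ sf w a ≠ 0 := by
  obtain ⟨x, hx⟩ : ∃ x, sf w x ≠ 0 := by
    by_contra h; push Not at h; exact hw (form_sep_left h)
  obtain ⟨b, -, hb⟩ := SetLike.exists_of_lt (lt_top_iff_ne_top.2 hW)
  by_cases hxW : x ∈ W
  swap
  · exact ⟨x, hxW, hx⟩
  by_cases hb0 : sf w b = 0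
  · exact ⟨x + b, fun h => hb ((Submodule.add_mem_iff_right W hxW).1 h),
      by rw [MaxSub.sympForm_add_right, hb0, add_zero]; exact hx⟩
  · exact ⟨b, hb, hb0⟩

theorem not_le_subspace {W : Submodule F (ιS → F)} (h0 : W ≠ ⊥) (h1 : W ≠ ⊤) :
    ¬ Cfsg.spGL m F ≤ subspaceStabilizer W := by
  intro hle
  obtain ⟨w, hw, hw0⟩ := W.exists_mem_ne_zero_of_ne_bot h0
  obtain ⟨a, ha, hwa⟩ := exists_form_ne_zero_not_mem h1 hw0
  have h := MaxSub.maps_of_mem_subspaceStabilizer (hle (stv_mem a 1)) hw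
  rw [stv_mulVec, Submodule.add_mem_iff_right _ hw, one_mul, W.smul_mem_iff hwa] at h
  exact ha h

theorem not_le_decomposition {t k : ℕ} {D : Fin t → Submodule F (ιS → F)} (hD : IsMDecomposition k D)
    (hk : 2 ≤ k) : ¬ Cfsg.spGL m F ≤ decompositionStabilizer D := by
  classical
  intro hle
  let i : Fin t := ⟨0, by have := hD.two_le; omega⟩
  let j : Fin t := ⟨1, by have := hD.two_le; omega⟩
  have hij : i ≠ j := by simp [i, j, Fin.ext_iff]
  have hne : D i ≠ ⊥ := fun h => by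
    have := hD.finrank_eq i; rw [h, finrank_bot] at this; omega
  have htop : D i ≠ ⊤ := fun h => by
    have hd := (iSupIndep_def.1 hD.indep) j
    have hj : D j ≠ ⊥ := fun h => by
      have := hD.finrank_eq j; rw [h, finrank_bot] at this; omega
    refine hj ?_
    rw [disjoint_iff_inf_le] at hd
    refine le_bot_iff.1 (le_trans (le_inf le_rfl ?_) hd)
    exact le_trans le_top (h ▸ le_iSup₂_of_le i hij le_rfl)
  obtain ⟨x, hx, hx0⟩ := (D i).exists_mem_ne_zero_of_ne_bot hne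
  obtain ⟨a, ha, hxa⟩ := exists_form_ne_zero_not_mem htop hx0
  obtain ⟨σ, hσ⟩ := hle (stv_mem a 1)
  have hmem : ∀ z ∈ D i, (stv a 1 : 𝕄) *ᵥ z ∈ D (σ i) := fun z hz => by
    rw [← hσ i]; exact ⟨z, hz, rfl⟩
  obtain ⟨z, hz, hz0, hza⟩ : ∃ z ∈ D i, z ≠ 0 ∧ sf z a = 0 := by
    let φ : D i →ₗ[F] F :=
      { toFun := fun z => sf z a
        map_add' := fun p q => MaxSub.sympForm_add_left _ _ _
        map_smul' := fun c p => MaxSub.sympForm_smul_left _ _ _ }
    have h := φ.finrank_range_add_finrank_ker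
    have h2 := Submodule.finrank_le (LinearMap.range φ)
    rw [Module.finrank_self] at h2
    rw [hD.finrank_eq] at h
    have h3 : LinearMap.ker φ ≠ ⊥ := fun h' => by rw [h', finrank_bot] at h; omega
    obtain ⟨z, hz, hz0⟩ := (LinearMap.ker φ).exists_mem_ne_zero_of_ne_bot h3
    exact ⟨z, z.2, fun h' => hz0 (Subtype.ext h'), hz⟩
  have hσi : σ i = i := by
    by_contra hne'
    have h := hmem z hz
    rw [stv_mulVec, hza, mul_zero, zero_smul, add_zero] at h
    have hd := Submodule.disjoint_def.1 (hD.indep.pairwiseDisjoint (Ne.symm hne')) z hz h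
    exact hz0 hd
  have h := hmem x hx
  rw [hσi, stv_mulVec, Submodule.add_mem_iff_right _ hx, one_mul, (D i).smul_mem_iff hxa] at h
  exact ha h

/-- A normalised set none of whose nonzero elements has image in a plane consists of scalars. -/
theorem scalar_of_normalised (hm : 0 < m) {K : Submodule F 𝕄}
    (hnorm : ∀ g ∈ Cfsg.spGL m F, ∀ k ∈ K, cj g k ∈ K)
    (hsmall : ∀ E ∈ K, ∀ u u' : ιS → F, (∀ v, E *ᵥ v ∈ Submodule.span F ({u, u'} : Set (ιS → F))) → E = 0)
    {k : 𝕄} (hk : k ∈ K) : ∃ c : F, k = c • (1 : 𝕄) := by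
  have hfix : ∀ a : ιS → F, ∀ x, sf (k *ᵥ x) a • a = sf x a • (k *ᵥ a) := by
    intro a x
    have h := hsmall _ (K.sub_mem (hnorm _ (stv_mem a 1) k hk) hk) a (k *ᵥ a) (cj_stv_sub_mem a 1 k)
    have hc := (cj_eq_self_iff _ _).1 (sub_eq_zero.1 h)
    have h' := congrArg (· *ᵥ x) hc.eq
    simp only [← mulVec_mulVec, stv_mulVec, one_mul, mulVec_add, mulVec_smul] at h'
    exact add_left_cancel h'
  have heig : ∀ a : ιS → F, ∃ l : F, k *ᵥ a = l • a := by
    intro a
    rcases eq_or_ne a 0 with rfl | ha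
    · exact ⟨0, by simp⟩
    obtain ⟨x, hx⟩ : ∃ x, sf x a ≠ 0 := by
      by_contra h; push Not at h; exact ha (form_sep_right h)
    refine ⟨(sf x a)⁻¹ * sf (k *ᵥ x) a, ?_⟩
    rw [← smul_smul, hfix a x, smul_smul, inv_mul_cancel₀ hx, one_smul]
  choose l hl using heig
  obtain ⟨p, q, hpq⟩ := exists_form_ne_zero (F := F) hm
  have key : ∀ a b : ιS → F, sf a b ≠ 0 → l a = l b := by
    intro a b hab
    have h1 : k *ᵥ (a + b) = l a • a + l b • b := by rw [mulVec_add, hl, hl]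
    rw [hl (a + b), smul_add] at h1
    have e1 := congrArg (fun z => sf z b) h1
    have e2 := congrArg (fun z => sf a z) h1
    simp only [MaxSub.sympForm_add_left, MaxSub.sympForm_add_right, MaxSub.sympForm_smul_left,
      MaxSub.sympForm_smul_right, MaxSub.sympForm_self, mul_zero, add_zero, zero_add] at e1 e2
    exact (mul_right_cancel₀ hab e1).symm.trans (mul_right_cancel₀ hab e2)
  refine ⟨l p, Matrix.ext_of_mulVec_single fun i => ?_⟩
  rw [smul_mulVec, one_mulVec]
  set a : ιS → F := Pi.single i 1 with ha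
  have ha0 : a ≠ 0 := by simp [ha]
  rw [hl a]
  congr 1
  obtain ⟨x, hx⟩ : ∃ x, sf a x ≠ 0 := by
    by_contra h; push Not at h; exact ha0 (form_sep_left h)
  rcases eq_or_ne (sf p x) 0 with hpx | hpx
  · rcases eq_or_ne (sf a q) 0 with haq | haq
    · have h1 : sf p (x + q) ≠ 0 := by rw [MaxSub.sympForm_add_right, hpx, zero_add]; exact hpq
      have h2 : sf a (x + q) ≠ 0 := by rw [MaxSub.sympForm_add_right, haq, add_zero]; exact hx
      rw [key a _ h2, key p _ h1]
    · rw [key a q haq, key p q hpq]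
  · rw [key a x hx, key p x hpx]

theorem not_le_field (hm : 2 ≤ m) {r : ℕ} (hr : 2 ≤ r) {K : Subalgebra F 𝕄} (hK : IsFieldSubalgebra r K) :
    ¬ Cfsg.spGL m F ≤ subalgebraNormalizer K := by
  classical
  intro hle
  have hsc : ∀ k ∈ K, ∃ c : F, k = c • (1 : 𝕄) := fun k hk =>
    scalar_of_normalised (by omega) (K := Subalgebra.toSubmodule K) (fun g hg x hx => (hle hg x).1 hx)
      (fun E hE u u' hEi => by
        by_contra h0
        obtain ⟨E', -, hE'⟩ := hK.inv E hE h0
        have htop : (⊤ : Submodule F (ιS → F)) ≤ Submodule.span F ({u, u'} : Set (ιS → F)) := fun v _ => by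
          have := hEi (E' *ᵥ v)
          rwa [mulVec_mulVec, hE', one_mulVec] at this
        have h1 := Submodule.finrank_mono htop
        rw [finrank_top, Module.finrank_pi, Fintype.card_sum, Fintype.card_fin] at h1
        have h2 : Module.finrank F (Submodule.span F ({u, u'} : Set (ιS → F))) ≤ 2 := by
          have h := finrank_span_finset_le_card (R := F) ({u, u'} : Finset (ιS → F))
          rw [Finset.coe_pair] at h
          exact h.trans Finset.card_le_two
        omega) hk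
  have hle1 : Subalgebra.toSubmodule K ≤ Submodule.span F {(1 : 𝕄)} := fun k hk => by
    obtain ⟨c, hc⟩ := hsc k hk
    exact Submodule.mem_span_singleton.2 ⟨c, hc.symm⟩
  have h1 := Submodule.finrank_mono hle1
  rw [Subalgebra.finrank_toSubmodule, hK.finrank_eq] at h1
  have h2 := finrank_span_le_card (R := F) ({(1 : 𝕄)} : Set 𝕄)
  simp at h2
  omega

theorem not_le_tensor {n₁ n₂ : ℕ} (h1 : 2 ≤ n₁) (h2 : 3 ≤ n₂) (hm : 0 < m) (e : ιS ≃ Fin n₁ × Fin n₂)
    (P : GL ιS F) : ¬ Cfsg.spGL m F ≤ tensorProductSubgroup n₁ n₂ e P := by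
  classical
  intro hle
  let K : Submodule F 𝕄 :=
    { carrier := Set.range (leftFactor e P)
      add_mem' := by
        rintro _ _ ⟨x, rfl⟩ ⟨y, rfl⟩
        exact ⟨x + y, by rw [leftFactor_tmat, leftFactor_tmat, leftFactor_tmat, add_kronecker, map_add]⟩
      zero_mem' := ⟨0, by rw [leftFactor_tmat, zero_kronecker, map_zero]⟩
      smul_mem' := by
        rintro c _ ⟨x, rfl⟩
        exact ⟨c • x, by rw [leftFactor_tmat, leftFactor_tmat, smul_kronecker, map_smul]⟩ }
  have hnorm : ∀ g ∈ Cfsg.spGL m F, ∀ k ∈ K, cj g k ∈ K := by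
    rintro g hg _ ⟨x, rfl⟩
    obtain ⟨a, b, hab⟩ := exists_tmat_of_mem (hle hg)
    refine ⟨cj a x, (cj_tmat e P hab ?_).symm⟩
    rw [← mul_kronecker_mul, ← mul_kronecker_mul, one_mul, mul_one, cj_apply, mul_assoc (_ * x),
      Units.inv_mul, mul_one]
  have hsmall : ∀ E ∈ K, ∀ u u' : ιS → F,
      (∀ v, E *ᵥ v ∈ Submodule.span F ({u, u'} : Set (ιS → F))) → E = 0 := by
    rintro _ ⟨x, rfl⟩ u u' hE
    by_contra hne
    obtain ⟨i, j, hij⟩ : ∃ i j, x i j ≠ 0 := by
      by_contra h; push Not at h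
      exact hne (by rw [leftFactor_tmat, Matrix.ext h (N := 0), zero_kronecker, map_zero])
    let L : (Fin n₂ → F) →ₗ[F] (ιS → F) :=
      { toFun := fun y => leftFactor e P x *ᵥ ((P : 𝕄) *ᵥ ((fun p => if p.1 = j then y p.2 else 0) ∘ e))
        map_add' := fun y z => by
          rw [← mulVec_add, ← mulVec_add]; congr 2; funext p; simp only [Function.comp, Pi.add_apply]
          split <;> simp
        map_smul' := fun c y => by
          rw [RingHom.id_apply, ← mulVec_smul, ← mulVec_smul]; congr 2; funext p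
          simp only [Function.comp, Pi.smul_apply, smul_eq_mul]
          split <;> simp }
    have hinj : Function.Injective L := by
      rw [injective_iff_map_eq_zero]
      intro y hy
      change leftFactor e P x *ᵥ _ = 0 at hy
      rw [leftFactor_tmat, tmat_mulVec] at hy
      have h0 := mulVec_injective_of_isUnit P.isUnit (hy.trans (mulVec_zero _).symm)
      funext l
      have h := congrFun h0 (e.symm (i, l))
      simp only [Function.comp, Equiv.apply_symm_apply, Pi.zero_apply, mulVec, dotProduct,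
        Fintype.sum_prod_type, kroneckerMap_apply, Matrix.one_apply, mul_ite, ite_mul, mul_zero, zero_mul,
        mul_one] at h
      simp [hij] at h
      exact h
    have hrange : LinearMap.range L ≤ Submodule.span F ({u, u'} : Set (ιS → F)) := by
      rintro _ ⟨y, rfl⟩; exact hE _
    have h := Submodule.finrank_mono hrange
    rw [LinearMap.finrank_range_of_inj hinj, Module.finrank_pi, Fintype.card_fin] at h
    have h' := finrank_span_finset_le_card (R := F) ({u, u'} : Finset (ιS → F))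
    rw [Finset.coe_pair] at h'
    have h'' : Module.finrank F (Submodule.span F ({u, u'} : Set (ιS → F))) ≤ 2 :=
      h'.trans Finset.card_le_two
    omega
  obtain ⟨c, hc⟩ := scalar_of_normalised hm hnorm hsmall
    (k := leftFactor e P (Matrix.single ⟨0, by omega⟩ ⟨1, by omega⟩ 1)) ⟨_, rfl⟩
  rw [leftFactor_tmat, ← map_one (tmat e P), ← map_smul] at hc
  have h := congrFun (congrFun ((tmat e P).injective hc) (⟨0, by omega⟩, ⟨0, by omega⟩))
    (⟨1, by omega⟩, ⟨0, by omega⟩)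
  simp at h

theorem not_le_subfield [Fintype F] (hm : 2 ≤ m) {F₀ : Subfield F} {r : ℕ} (hr : r.Prime)
    (hcard : Fintype.card F = Nat.card F₀ ^ r) (P : GL ιS F) :
    ¬ Cfsg.spGL m F ≤ subfieldSubgroup F₀ P := by
  classical
  intro hle
  obtain ⟨a, ha⟩ : ∃ a : ιS → F, a ≠ 0 := ⟨Pi.single (Sum.inl ⟨0, by omega⟩) 1, by simp⟩
  obtain ⟨N, hN⟩ : ∃ N, N = cj P⁻¹ (Matrix.vecMulVec a (Matrix.J (Fin m) F *ᵥ a)) := ⟨_, rfl⟩
  have hrank : ∀ i j k l, N i j * N k l = N i l * N k j := by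
    intro i j k l
    rw [hN, cj_apply, inv_inv, mul_vecMulVec, vecMulVec_mul]
    simp only [vecMulVec_apply]; ring
  have hN0 : N ≠ 0 := by
    rw [hN]
    intro h
    have h' := (cj P⁻¹).injective (h.trans (map_zero _).symm)
    obtain ⟨i, hi⟩ := Function.ne_iff.1 ha
    obtain ⟨j, hj⟩ := Function.ne_iff.1 (MaxSub.spDual_ne_zero ha)
    have h'' := congrFun (congrFun h' i) j
    simp only [vecMulVec_apply, Matrix.zero_apply, mul_eq_zero] at h''
    exact h''.elim hi hj
  have hmem : ∀ c : F, ∃ w : F, ∀ i j, w * (if i = j then 1 + c * N i j else c * N i j) ∈ F₀ ∧ w ≠ 0 := by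
    intro c
    obtain ⟨y, hy, hyt⟩ := hle (stv_mem a c)
    obtain ⟨_, ⟨g, rfl⟩, z, hz, rfl⟩ := Subgroup.mem_sup_of_normal_right.1 hy
    obtain ⟨d, hd⟩ := (mem_scalars_iff z).1 hz
    refine ⟨(d : F)⁻¹, fun i j => ⟨?_, inv_ne_zero d.ne_zero⟩⟩
    have hval : cj P⁻¹ (stv a c : 𝕄) = 1 + c • N := by
      rw [hN, ← map_smul, ← map_one (cj P⁻¹), ← map_add]
      congr 1
      refine Matrix.ext_of_mulVec_single fun i => ?_
      rw [stv_mulVec, add_mulVec, one_mulVec, smul_mulVec, vecMulVec_mulVec, op_smul_eq_smul, smul_smul,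
        MaxSub.spDual_dot]
    have h2 : cj P⁻¹ (stv a c : 𝕄) = (d : F) • (g : Matrix ιS ιS F₀).map Subtype.val := by
      rw [← hyt]
      simp only [MulEquiv.coe_toMonoidHom, MulAut.conj_apply, Units.val_mul, hd, Matrix.mul_smul, mul_one]
      rw [Matrix.smul_mul, map_smul, ← cj_apply, cj_inv_cj]
      rfl
    have h3 := congrFun (congrFun (hval.symm.trans h2) i) j
    simp only [Matrix.add_apply, Matrix.smul_apply, smul_eq_mul, Matrix.one_apply, Matrix.map_apply] at h3
    have h4 : (if i = j then 1 + c * N i j else c * N i j) = d * ((g : Matrix ιS ιS F₀) i j : F) := by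
      rw [← h3]; split <;> simp
    rw [h4, ← mul_assoc, inv_mul_cancel₀ d.ne_zero, one_mul]
    exact Subtype.coe_prop _
  have hcN : ∀ c i j, c * N i j ∈ F₀ := by
    intro c
    rcases eq_or_ne c 0 with rfl | hc
    · intro i j; rw [zero_mul]; exact F₀.zero_mem
    obtain ⟨w, hw⟩ := hmem c
    have hd : ∀ i, w * (1 + c * N i i) ∈ F₀ := fun i => by simpa using (hw i i).1
    have ho : ∀ i j, i ≠ j → w * (c * N i j) ∈ F₀ := fun i j h => by simpa [h] using (hw i j).1
    have hw0 : w ≠ 0 := (hw (Sum.inl ⟨0, by omega⟩) (Sum.inl ⟨0, by omega⟩)).2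
    have hwF : w ∈ F₀ := by
      by_cases hz : ∃ i, N i i = 0
      · obtain ⟨i, hi⟩ := hz
        have := hd i
        rwa [hi, mul_zero, add_zero, mul_one] at this
      push Not at hz
      let i : ιS := Sum.inl ⟨0, by omega⟩
      let j : ιS := Sum.inl ⟨1, by omega⟩
      let k : ιS := Sum.inr ⟨0, by omega⟩
      have hij : i ≠ j := by simp [i, j, Fin.ext_iff]
      have hik : i ≠ k := by simp [i, k]
      have hkj : k ≠ j := by simp [j, k]
      have hNij : N i j ≠ 0 := fun h => by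
        have := hrank i i j j
        rw [h, zero_mul, mul_eq_zero] at this
        exact this.elim (hz i) (hz j)
      have hkey : w * (c * N k k) = (w * (c * N i k)) * (w * (c * N k j)) / (w * (c * N i j)) := by
        rw [eq_div_iff (mul_ne_zero hw0 (mul_ne_zero hc hNij))]
        linear_combination -(w * w * c * c) * hrank i k k j
      have h1 : w * (c * N k k) ∈ F₀ := hkey ▸ F₀.div_mem (F₀.mul_mem (ho i k hik) (ho k j hkj)) (ho i j hij)
      have h2 := F₀.sub_mem (hd k) h1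
      rwa [mul_add, mul_one, add_sub_cancel_right] at h2
    intro i j
    rcases eq_or_ne i j with rfl | h
    · have h3 := F₀.div_mem (F₀.sub_mem (hd i) hwF) hwF
      rw [mul_add, mul_one, add_sub_cancel_left, mul_div_cancel_left₀ _ hw0] at h3
      exact h3
    · have h3 := F₀.div_mem (ho i j h) hwF
      rwa [mul_div_cancel_left₀ _ hw0] at h3
  obtain ⟨i, j, hij⟩ : ∃ i j, N i j ≠ 0 := by
    by_contra h; push Not at h; exact hN0 (Matrix.ext h)
  have htop : F₀ = ⊤ := eq_top_iff.2 fun x _ => by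
    have := hcN (x * (N i j)⁻¹) i j
    rwa [mul_assoc, inv_mul_cancel₀ hij, mul_one] at this
  rw [htop, Nat.card_congr Subfield.topEquiv.toEquiv, Nat.card_eq_fintype_card] at hcard
  have := Nat.pow_right_injective (Fintype.one_lt_card (α := F)) (hcard.symm.trans (pow_one _).symm)
  exact hr.ne_one this

theorem not_le_quad {Q : (ιS → F) → F} (hm : 2 ≤ m) (hQ : IsNondegenerateQuadraticForm Q)
    (hpol : ∀ u v, QuadraticMap.polar Q u v = sf u v) : ¬ Cfsg.spGL m F ≤ quadSimilarityGroup Q := by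
  intro hle
  have hinv : ∀ g ∈ Cfsg.spGL m F, ∀ v, Q ((g : 𝕄) *ᵥ v) = Q v := by
    intro g hg v
    obtain ⟨l, hl⟩ := hle hg
    obtain ⟨x, y, hxy⟩ := exists_form_ne_zero (F := F) (show 0 < m by omega)
    have h1 : QuadraticMap.polar Q ((g : 𝕄) *ᵥ x) ((g : 𝕄) *ᵥ y) = (l : F) * QuadraticMap.polar Q x y := by
      simp only [QuadraticMap.polar, ← mulVec_add, hl]; ring
    rw [hpol, hpol] at h1
    have hl1 : (l : F) = 1 := mul_right_cancel₀ hxy (by rw [one_mul, ← h1]; exact hg x y)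
    rw [hl, hl1, one_mul]
  have hQ1 : ∀ a : ιS → F, a ≠ 0 → Q a = -1 := by
    intro a ha
    obtain ⟨v, hv⟩ : ∃ v, sf v a ≠ 0 := by
      by_contra h; push Not at h; exact ha (form_sep_right h)
    have h1 := hinv _ (stv_mem a 1) v
    rw [stv_mulVec, one_mul] at h1
    have h2 : QuadraticMap.polar Q v (sf v a • a) = sf v a * sf v a := by
      rw [hpol, MaxSub.sympForm_smul_right]
    rw [QuadraticMap.polar, h1, hQ.smul] at h2
    refine mul_left_cancel₀ (mul_ne_zero hv hv) ?_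
    linear_combination -h2
  let u₀ : ιS → F := Pi.single (Sum.inl ⟨0, by omega⟩) 1
  let u₁ : ιS → F := Pi.single (Sum.inl ⟨1, by omega⟩) 1
  let u₂ : ιS → F := Pi.single (Sum.inr ⟨0, by omega⟩) 1
  have hf : ∀ a b : ιS → F, a ≠ 0 → b ≠ 0 → a + b ≠ 0 → sf a b = 1 := fun a b ha hb hab => by
    rw [← hpol, QuadraticMap.polar, hQ1 _ hab, hQ1 _ ha, hQ1 _ hb]; ring
  have n0 : u₀ ≠ 0 := by simp [u₀]
  have n1 : u₁ ≠ 0 := by simp [u₁]
  have n2 : u₂ ≠ 0 := by simp [u₂]
  have n01 : u₀ + u₁ ≠ 0 := fun h => by simpa [u₀, u₁, Pi.single_apply, Fin.ext_iff] using congrFun h (Sum.inl ⟨0, by omega⟩)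
  have n02 : u₀ + u₂ ≠ 0 := fun h => by simpa [u₀, u₂] using congrFun h (Sum.inl ⟨0, by omega⟩)
  have n12 : u₁ + u₂ ≠ 0 := fun h => by simpa [u₁, u₂] using congrFun h (Sum.inl ⟨1, by omega⟩)
  have n012 : u₀ + (u₁ + u₂) ≠ 0 := fun h => by
    simpa [u₀, u₁, u₂, Pi.single_apply, Fin.ext_iff] using congrFun h (Sum.inl ⟨0, by omega⟩)
  have h := hf u₀ (u₁ + u₂) n0 n12 n012
  rw [MaxSub.sympForm_add_right, hf u₀ u₁ n0 n1 n01, hf u₀ u₂ n0 n2 n02] at h
  exact one_ne_zero (add_left_cancel (h.trans (add_zero 1).symm))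

theorem not_le_normalizer (hm : 2 ≤ m) (h2 : (2 : F) ≠ 0) {R : Subgroup (GL ιS F)}
    (hR : R ≤ Cfsg.spGL m F) (halg : alg R = ⊤)
    (hpm : ∀ x ∈ R, ∀ y ∈ R, (x : 𝕄) * (y : 𝕄) = (y : 𝕄) * (x : 𝕄) ∨
      (x : 𝕄) * (y : 𝕄) = -((y : 𝕄) * (x : 𝕄))) :
    ¬ Cfsg.spGL m F ≤ subgroupNormalizer R := by
  classical
  intro hle
  have hbad : ∀ x ∈ R, ∀ a, sf ((x : 𝕄) *ᵥ a) a = 0 := by
    intro x hx a
    by_contra hxa
    obtain ⟨r, hr⟩ : ∃ r, r = stv a 1 * x * (stv a 1)⁻¹ * x⁻¹ := ⟨_, rfl⟩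
    have hrR : r ∈ R := by
      rw [hr]
      exact R.mul_mem ((Subgroup.mem_normalizer_iff.1 (hle (stv_mem a 1)) x).1 hx) (R.inv_mem hx)
    obtain ⟨E, hE⟩ : ∃ E, E = (r : 𝕄) - 1 := ⟨_, rfl⟩
    obtain ⟨S, hS⟩ : ∃ S, S = Submodule.span F ({a, (x : 𝕄) *ᵥ a} : Set (ιS → F)) := ⟨_, rfl⟩
    have hEx : ∀ v, E *ᵥ ((x : 𝕄) *ᵥ v) = (cj (stv a 1) (x : 𝕄) - (x : 𝕄)) *ᵥ v := fun v => by
      rw [hE, cj_coe, hr, mulVec_mulVec, sub_mul, one_mul, ← Units.val_mul, inv_mul_cancel_right]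
    have himg : ∀ v, E *ᵥ v ∈ S := fun v => by
      have := cj_stv_sub_mem a 1 (x : 𝕄) (((x⁻¹ : GL ιS F) : 𝕄) *ᵥ v)
      rwa [← hEx, mulVec_mulVec (M := (x : 𝕄)), ← Units.val_mul, mul_inv_cancel, Units.val_one, one_mulVec,
        ← hS] at this
    have hS2 : Module.finrank F S ≤ 2 := by
      rw [hS]
      have h := finrank_span_finset_le_card (R := F) ({a, (x : 𝕄) *ᵥ a} : Finset (ιS → F))
      rw [Finset.coe_pair] at h
      exact h.trans Finset.card_le_two
    have hax : a ≠ 0 := fun h => hxa (by rw [h, form_zero_right])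
    have hrxa : (r : 𝕄) *ᵥ ((x : 𝕄) *ᵥ a) = (x : 𝕄) *ᵥ a + sf ((x : 𝕄) *ᵥ a) a • a := by
      have h0 : (stv a 1 : 𝕄) *ᵥ a = a := by
        rw [stv_mulVec, MaxSub.sympForm_self, mul_zero, zero_smul, add_zero]
      have h1 : ((stv a 1)⁻¹ : GL ιS F).1 *ᵥ a = a := by
        rw [inv_stv_mulVec, MaxSub.sympForm_self, mul_zero, zero_smul, sub_zero]
      rw [hr, mulVec_mulVec, ← Units.val_mul, inv_mul_cancel_right, Units.val_mul, ← mulVec_mulVec, h1,
        Units.val_mul, ← mulVec_mulVec, stv_mulVec, one_mul]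
    have hrne : E ≠ 0 := fun h => by
      have h' := congrArg (· *ᵥ ((x : 𝕄) *ᵥ a)) h
      simp only [hE, sub_mulVec, one_mulVec, hrxa, zero_mulVec, add_sub_cancel_left, smul_eq_zero] at h'
      exact h'.elim hxa hax
    have hIm : LinearMap.range (Matrix.toLin' E) ≤ S := by rintro _ ⟨v, rfl⟩; exact himg v
    have hImd : m ≤ Module.finrank F (LinearMap.range (Matrix.toLin' E)) := by
      have hrn := (Matrix.toLin' E).finrank_range_add_finrank_ker
      rw [Module.finrank_pi, Fintype.card_sum, Fintype.card_fin] at hrn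
      by_cases hc : ∀ y ∈ R, (y : 𝕄) * (r : 𝕄) = (r : 𝕄) * (y : 𝕄)
      · obtain ⟨c, hc'⟩ := scalar_of_commute halg (y := (r : 𝕄)) hc
        have hker : LinearMap.ker (Matrix.toLin' E) = ⊥ := by
          rw [Submodule.eq_bot_iff]
          intro v hv
          rw [LinearMap.mem_ker, Matrix.toLin'_apply, hE, hc', ← one_smul F (1 : 𝕄), smul_smul, mul_one,
            ← sub_smul, smul_mulVec, one_mulVec, smul_eq_zero] at hv
          exact hv.resolve_left fun h => hrne (by
            rw [hE, hc', ← one_smul F (1 : 𝕄), smul_smul, mul_one, ← sub_smul, h, zero_smul])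
        rw [hker, finrank_bot] at hrn
        omega
      push Not at hc
      obtain ⟨y, hy, hyr⟩ := hc
      have hyr' := (hpm y hy r hrR).resolve_left hyr
      let Y := (LinearMap.ker (Matrix.toLin' E)).map (Matrix.toLin' (y : 𝕄))
      have hdisj : LinearMap.ker (Matrix.toLin' E) ⊓ Y = ⊥ := by
        rw [Submodule.eq_bot_iff]
        rintro v ⟨hv, w, hw, rfl⟩
        have hw' : E *ᵥ w = 0 := hw
        have hv' : E *ᵥ ((y : 𝕄) *ᵥ w) = 0 := hv
        rw [hE, sub_mulVec, one_mulVec, sub_eq_zero] at hw' hv'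
        have h3 : (y : 𝕄) *ᵥ w = -((y : 𝕄) *ᵥ w) := by
          conv_lhs => rw [← hw', mulVec_mulVec, hyr', neg_mulVec, ← mulVec_mulVec, hv']
        have h4 : (2 : F) • ((y : 𝕄) *ᵥ w) = 0 := by
          rw [two_smul]; nth_rewrite 1 [h3]; exact neg_add_cancel _
        exact (smul_eq_zero.1 h4).resolve_left h2
      have hd := Submodule.finrank_sup_add_finrank_inf_eq (LinearMap.ker (Matrix.toLin' E)) Y
      rw [hdisj, finrank_bot, add_zero] at hd
      have hY : Module.finrank F Y = Module.finrank F (LinearMap.ker (Matrix.toLin' E)) :=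
        (Submodule.equivMapOfInjective _ (mulVec_injective_of_isUnit y.isUnit) _).symm.finrank_eq
      have := Submodule.finrank_le (LinearMap.ker (Matrix.toLin' E) ⊔ Y)
      rw [Module.finrank_pi, Fintype.card_sum, Fintype.card_fin] at this
      omega
    have hIS : LinearMap.range (Matrix.toLin' E) = S :=
      Submodule.eq_of_le_of_finrank_le hIm (by omega)
    obtain ⟨w, hw⟩ : ((x : 𝕄) *ᵥ a) ∈ LinearMap.range (Matrix.toLin' E) :=
      hIS ▸ hS ▸ Submodule.subset_span (by simp)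
    have hw' : (r : 𝕄) *ᵥ w - w = (x : 𝕄) *ᵥ a := by rw [← hw, Matrix.toLin'_apply, hE, sub_mulVec, one_mulVec]
    obtain ⟨c, hc⟩ : ∃ c : F, (r : 𝕄) * (r : 𝕄) = c • 1 := by
      refine scalar_of_commute halg fun y hy => ?_
      show _ * _ = _ * _
      rcases hpm y hy r hrR with h | h <;>
      · rw [← mul_assoc, h]
        first
          | rw [mul_assoc, h, ← mul_assoc]
          | rw [neg_mul, mul_assoc, h, mul_neg, neg_neg, ← mul_assoc]
    obtain ⟨v0, hv0, hv0ne⟩ : ∃ v0, (r : 𝕄) *ᵥ v0 = v0 ∧ v0 ≠ 0 := by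
      have hrn := (Matrix.toLin' E).finrank_range_add_finrank_ker
      rw [Module.finrank_pi, Fintype.card_sum, Fintype.card_fin, hIS] at hrn
      have hker : LinearMap.ker (Matrix.toLin' E) ≠ ⊥ := fun h => by rw [h, finrank_bot] at hrn; omega
      obtain ⟨v, hv, hv0⟩ := (LinearMap.ker _).exists_mem_ne_zero_of_ne_bot hker
      have hv' : E *ᵥ v = 0 := hv
      rw [hE, sub_mulVec, one_mulVec, sub_eq_zero] at hv'
      exact ⟨v, hv', hv0⟩
    have hc1 : c = 1 := by
      have h := congrArg (· *ᵥ v0) hc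
      simp only [← mulVec_mulVec, hv0, smul_mulVec, one_mulVec] at h
      exact (smul_left_injective F hv0ne (h.symm.trans (one_smul F v0).symm))
    have hneg : (r : 𝕄) *ᵥ ((x : 𝕄) *ᵥ a) = -((x : 𝕄) *ᵥ a) := by
      rw [← hw', mulVec_sub, mulVec_mulVec, hc, hc1, one_smul, one_mulVec, neg_sub]
    rw [hrxa] at hneg
    have h3 : (2 : F) • ((x : 𝕄) *ᵥ a) + sf ((x : 𝕄) *ᵥ a) a • a = 0 := by
      rw [two_smul]; calc _ = ((x : 𝕄) *ᵥ a + sf ((x : 𝕄) *ᵥ a) a • a) + (x : 𝕄) *ᵥ a := by abel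
        _ = 0 := by rw [hneg, neg_add_cancel]
    have h4 := congrArg (fun z => sf z a) h3
    simp only [MaxSub.sympForm_add_left, MaxSub.sympForm_smul_left, MaxSub.sympForm_self, mul_zero, add_zero,
      form_zero_left] at h4
    exact hxa ((mul_eq_zero.1 h4).resolve_left h2)
  have hself : ∀ x ∈ R, adj (x : 𝕄) = (x : 𝕄) := by
    intro x hx
    refine mat_ext fun u v => ?_
    have h := hbad x hx (u + v)
    rw [mulVec_add, MaxSub.sympForm_add_left, MaxSub.sympForm_add_right, MaxSub.sympForm_add_right,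
      hbad x hx u, hbad x hx v, zero_add, add_zero] at h
    rw [← adj_spec, MaxSub.sympForm_swap ((x : 𝕄) *ᵥ v) u]
    rw [add_eq_zero_iff_eq_neg] at h
    exact h
  refine not_commutative_alg_top (by rw [Fintype.card_sum, Fintype.card_fin]; omega) halg fun x hx y hy => ?_
  refine Units.ext ?_
  have h := hself _ (R.mul_mem hx hy)
  rw [Units.val_mul, adj_mul, hself x hx, hself y hy] at h
  rw [Units.val_mul, Units.val_mul, h]

theorem not_le_wreath [Fintype F] {k t : ℕ} (hk : 2 ≤ k) (ht : 3 ≤ t) (h3 : (2 : F) ≠ 0)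
    (e : ιS ≃ (Fin t → Fin k)) (P : GL ιS F) : ¬ Cfsg.spGL m F ≤ tensorWreathSubgroup k t e P := by
  classical
  intro hle
  let Pure : ((Fin t → Fin k) → F) → Prop := fun x => ∃ v : Fin t → Fin k → F, ∀ p, x p = ∏ l, v l (p l)
  have hpres : ∀ g ∈ Cfsg.spGL m F, ∀ x, Pure x →
      ∃ y, Pure y ∧ (g : 𝕄) *ᵥ ((P : 𝕄) *ᵥ (x ∘ e)) = (P : 𝕄) *ᵥ (y ∘ e) := by
    intro g hg x hx
    obtain ⟨σ, a, h⟩ := exists_perm_tmat (hle hg)
    obtain ⟨v, hv⟩ := hx
    refine ⟨_, ⟨fun l => ((a (σ.symm l) : Matrix (Fin k) (Fin k) F) *ᵥ v (σ.symm l)), fun p => rfl⟩, ?_⟩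
    rw [h, tmat_mulVec]
    congr 1
    funext i
    simp only [Function.comp]
    rw [← mulVec_mulVec]
    generalize e i = p
    simp only [mulVec, dotProduct, permMat, Matrix.of_apply, pureMat, ite_mul, one_mul, zero_mul,
      Finset.sum_ite_eq', Finset.mem_univ, if_true, hv, ← Finset.prod_mul_distrib]
    rw [← Fintype.prod_sum (fun j l => (a j : Matrix (Fin k) (Fin k) F) ((p ∘ σ) j) l * v j l)]
    conv_rhs => rw [← Equiv.prod_comp σ]
    simp [Function.comp]
  -- a pure vector and a non-pure partner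
  obtain ⟨x, hx⟩ : ∃ x : (Fin t → Fin k) → F, x = Pi.single (fun _ => ⟨0, by omega⟩) 1 := ⟨_, rfl⟩
  have hxp : Pure x := by
    refine ⟨fun _ => Pi.single ⟨0, by omega⟩ 1, fun p => ?_⟩
    rw [hx]
    rcases eq_or_ne p (fun _ => (⟨0, by omega⟩ : Fin k)) with rfl | hp
    · simp
    · obtain ⟨l, hl⟩ := Function.ne_iff.1 hp
      rw [Pi.single_eq_of_ne hp, Finset.prod_eq_zero (Finset.mem_univ l) (Pi.single_eq_of_ne hl _)]
  obtain ⟨u, hu⟩ : ∃ u, u = (P : 𝕄) *ᵥ (x ∘ e) := ⟨_, rfl⟩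
  have hu0 : u ≠ 0 := by
    intro h
    have h' := mulVec_injective_of_isUnit P.isUnit ((hu.symm.trans h).trans (mulVec_zero _).symm)
    have h'' := congrFun h' (e.symm fun _ => ⟨0, by omega⟩)
    simp [hx] at h''
  obtain ⟨b, hb⟩ : ∃ b : Fin t → Fin k, sf u ((P : 𝕄) *ᵥ (Pi.single b 1 ∘ e)) ≠ 0 := by
    by_contra h; push Not at h
    refine hu0 (form_sep_left fun y => ?_)
    obtain ⟨z, rfl⟩ := coords_surj e P y
    rw [show z = ∑ b, z b • (Pi.single b 1 : (Fin t → Fin k) → F) by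
      funext p; simp [Finset.sum_apply, Pi.single_apply],
      show ((∑ b, z b • (Pi.single b 1 : (Fin t → Fin k) → F)) ∘ e) =
        ∑ b, z b • ((Pi.single b 1 : (Fin t → Fin k) → F) ∘ e) by funext i; simp [Finset.sum_apply],
      mulVec_sum]
    let φ : (ιS → F) →ₗ[F] F :=
      { toFun := fun w => sf u w
        map_add' := fun p q => MaxSub.sympForm_add_right _ _ _
        map_smul' := fun c p => MaxSub.sympForm_smul_right _ _ _ }
    show φ _ = 0
    rw [map_sum]
    refine Finset.sum_eq_zero fun c _ => ?_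
    rw [mulVec_smul, map_smul]
    show z c * sf u _ = 0
    rw [h, mul_zero]
  haveI : Nontrivial (Fin k) := Fin.nontrivial_iff_two_le.2 hk
  let i : Fin t := ⟨0, by omega⟩
  let j : Fin t := ⟨1, by omega⟩
  have hij : i ≠ j := by simp [i, j, Fin.ext_iff]
  obtain ⟨bi, hbi⟩ := exists_ne (b i)
  obtain ⟨bj, hbj⟩ := exists_ne (b j)
  obtain ⟨b', hb'⟩ : ∃ b', b' = Function.update (Function.update b i bi) j bj := ⟨_, rfl⟩
  obtain ⟨β, hβ⟩ : ∃ β, β = sf u ((P : 𝕄) *ᵥ (Pi.single b' 1 ∘ e)) := ⟨_, rfl⟩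
  obtain ⟨α, hα⟩ : ∃ α, α = sf u ((P : 𝕄) *ᵥ (Pi.single b 1 ∘ e)) := ⟨_, rfl⟩
  rw [← hα] at hb
  obtain ⟨s, hs, hsum⟩ : ∃ s : F, s ≠ 0 ∧ α + s * β ≠ 0 := by
    by_cases h : α + β = 0
    · exact ⟨-1, by simp, fun h' => hb ((mul_eq_zero.1 (show (2 : F) * α = 0 by
        linear_combination h + h')).resolve_left h3)⟩
    · exact ⟨1, one_ne_zero, by rwa [one_mul]⟩
  obtain ⟨w, hw⟩ : ∃ w : (Fin t → Fin k) → F, w = Pi.single b 1 + s • Pi.single b' 1 := ⟨_, rfl⟩
  have hbb : b ≠ b' := fun h => hbj (by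
    have := congrFun h j
    rw [hb', Function.update_self] at this
    exact this.symm)
  have hnp : ¬ Pure w := by
    rintro ⟨v, hv⟩
    have h1 : w b = 1 := by rw [hw]; simp [Ne.symm hbb, hbb]
    have h2 : w b' = s := by rw [hw]; simp [Ne.symm hbb, hbb]
    have h3 : w (Function.update b i bi) = 0 := by
      have n1 : Function.update b i bi ≠ b := fun h => hbi (by simpa using congrFun h i)
      have n2 : Function.update b i bi ≠ b' := fun h => hbj (by
        have := congrFun h j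
        rw [hb', Function.update_self, Function.update_of_ne hij.symm] at this
        exact this.symm)
      rw [hw]; simp [n1, n2]
    rw [hv, Finset.prod_eq_zero_iff] at h3
    obtain ⟨l, -, hl⟩ := h3
    rcases eq_or_ne l i with rfl | hli
    · refine hs (h2 ▸ (hv b').trans (Finset.prod_eq_zero (Finset.mem_univ i) ?_))
      rw [hb', Function.update_of_ne hij]
      exact hl
    · refine one_ne_zero (h1 ▸ (hv b).trans (Finset.prod_eq_zero (Finset.mem_univ l) ?_))
      rwa [Function.update_of_ne hli] at hl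
  have hform : sf u ((P : 𝕄) *ᵥ (w ∘ e)) = α + s * β := by
    rw [hw, show ((Pi.single b 1 + s • Pi.single b' 1 : (Fin t → Fin k) → F) ∘ e) =
      (Pi.single b 1 ∘ e) + s • (Pi.single b' 1 ∘ e) by funext i; simp, mulVec_add, mulVec_smul,
      MaxSub.sympForm_add_right, MaxSub.sympForm_smul_right, hα, hβ]
  obtain ⟨y, hy, hgy⟩ := hpres _ (stv_mem ((P : 𝕄) *ᵥ (w ∘ e) - u) (α + s * β)⁻¹) x hxp
  rw [stv_mulVec, ← hu, form_sub_right, hform, MaxSub.sympForm_self, sub_zero, inv_mul_cancel₀ hsum, one_smul,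
    add_sub_cancel] at hgy
  have hwy := mulVec_injective_of_isUnit P.isUnit hgy
  refine hnp ((funext fun p => ?_ : y = w) ▸ hy)
  simpa using (congrFun hwy (e.symm p)).symm

end CfsgLib.AschSp
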