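import Cfsg.Agent.Lib.AschSp.SympType
import Cfsg.Agent.Lib.AschSp.Proper

/-!
Members of class 6 from a set of anticommuting generators.
-/

set_option autoImplicit false
set_option linter.unusedSectionVars false
set_option linter.style.haveILetI false

namespace CfsgLib.AschSp

open Matrix Cfsg.Geo CfsgLib.Aschbacher
open scoped MatrixGroups

variable {m : ℕ} {F : Type*} [Field F]

local notation "ιS" => (Fin m ⊕ Fin m)
local notation "𝕄" => Matrix (Fin m ⊕ Fin m) (Fin m ⊕ Fin m) F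
local notation "sf" => Cfsg.sympForm m F

/-- Two elements commute up to sign. -/
def PM (x y : 𝕄) : Prop := x * y = y * x ∨ x * y = -(y * x)

theorem PM.symm {x y : 𝕄} (h : PM x y) : PM y x :=
  h.elim (fun h => Or.inl h.symm) fun h => Or.inr (by rw [h, neg_neg])

theorem PM.mul {x x' y : 𝕄} (h : PM x y) (h' : PM x' y) : PM (x * x') y := by
  unfold PM at *
  rcases h with h | h <;> rcases h' with h' | h'
  · exact Or.inl (by rw [mul_assoc, h', ← mul_assoc, h, mul_assoc])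
  · exact Or.inr (by rw [mul_assoc, h', mul_neg, ← mul_assoc, h, mul_assoc])
  · exact Or.inr (by rw [mul_assoc, h', ← mul_assoc, h, neg_mul, mul_assoc])
  · exact Or.inl (by rw [mul_assoc, h', mul_neg, ← mul_assoc, h, neg_mul, neg_neg, mul_assoc])

theorem PM.inv {x : GL ιS F} {y : 𝕄} (h : PM (x : 𝕄) y) : PM ((x⁻¹ : GL ιS F) : 𝕄) y := by
  unfold PM at *
  have e : ((x⁻¹ : GL ιS F) : 𝕄) * (((x : 𝕄) * y) * ((x⁻¹ : GL ιS F) : 𝕄)) =
      y * ((x⁻¹ : GL ιS F) : 𝕄) := by
    rw [← mul_assoc, ← mul_assoc, ← Units.val_mul, inv_mul_cancel, Units.val_one, one_mul]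
  have e' : ((x⁻¹ : GL ιS F) : 𝕄) * ((y * (x : 𝕄)) * ((x⁻¹ : GL ιS F) : 𝕄)) =
      ((x⁻¹ : GL ιS F) : 𝕄) * y := by
    rw [mul_assoc y, ← Units.val_mul, mul_inv_cancel, Units.val_one, mul_one]
  rcases h with h | h
  · exact Or.inl (by rw [← e', ← h, e])
  · refine Or.inr ?_
    rw [← e', ← e, h, neg_mul, mul_neg, neg_neg]

theorem pm_closure {S : Set (GL ιS F)} (hpm : ∀ x ∈ S, ∀ y ∈ S, PM (x : 𝕄) (y : 𝕄)) :
    ∀ x ∈ Subgroup.closure S, ∀ y ∈ Subgroup.closure S, PM (x : 𝕄) (y : 𝕄) := by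
  have h1 : ∀ y ∈ S, ∀ x ∈ Subgroup.closure S, PM (x : 𝕄) (y : 𝕄) := by
    intro y hy x hx
    induction hx using Subgroup.closure_induction with
    | mem x hx => exact hpm x hx y hy
    | one => exact Or.inl (by rw [Units.val_one, one_mul, mul_one])
    | mul a b _ _ ha hb => rw [Units.val_mul]; exact ha.mul hb
    | inv a _ ha => exact ha.inv
  intro x hx y hy
  induction hx using Subgroup.closure_induction with
  | mem x hx => exact (h1 x hx y hy).symm
  | one => exact Or.inl (by rw [Units.val_one, one_mul, mul_one])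
  | mul a b _ _ ha hb => rw [Units.val_mul]; exact ha.mul hb
  | inv a _ ha => exact ha.inv

/-- A set of generators pairwise commuting up to sign gives a member of class 6 containing its normaliser. -/
theorem symp_of_gens [Fintype F] (hm : 2 ≤ m) (h2 : (2 : F) ≠ 0) {k : ℕ} (hk : 2 ^ k = 2 * m)
    {H : Subgroup (GL ιS F)} (S : Set (GL ιS F)) (hS : S ⊆ Cfsg.spGL m F)
    (hpm : ∀ x ∈ S, ∀ y ∈ S, PM (x : 𝕄) (y : 𝕄))
    (halg : Algebra.adjoin F ((fun g : GL ιS F => (g : 𝕄)) '' S) = ⊤)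
    (hnorm : ∀ g ∈ H, ∀ x ∈ S, g * x * g⁻¹ ∈ Subgroup.closure S) :
    ∃ R : Subgroup (GL ιS F), IsSymplecticTypeGroup 2 R ∧ ActsAbsolutelyIrreducibly (matrixSet R) ∧
      R ≤ similarityGroup (Cfsg.sympForm m F) ∧ Nat.card R = 2 ^ (1 + 2 * k) ∧
      Nat.card (Subgroup.center R) = 2 ∧ IsOfMinusType k R ∧ H ≤ subgroupNormalizer R ∧
      ¬ Cfsg.spGL m F ≤ subgroupNormalizer R := by
  classical
  haveI : Nonempty ιS := ⟨Sum.inl ⟨0, by omega⟩⟩
  have h1ne := one_ne_zero_mat (F := F) (show 0 < m by omega)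
  obtain ⟨R, hRdef⟩ : ∃ R, R = Subgroup.closure S := ⟨_, rfl⟩
  have hRsp : R ≤ Cfsg.spGL m F := hRdef ▸ (Subgroup.closure_le _).2 hS
  have hRalg : alg R = ⊤ := by
    rw [eq_top_iff, ← halg]
    exact Algebra.adjoin_mono (Set.image_mono (hRdef ▸ Subgroup.subset_closure))
  have hc : ∀ x ∈ R, ∀ y ∈ R, (x : 𝕄) * (y : 𝕄) = (y : 𝕄) * (x : 𝕄) ∨
      (x : 𝕄) * (y : 𝕄) = -((y : 𝕄) * (x : 𝕄)) := by
    rw [hRdef]; exact pm_closure hpm
  have hsq : ∀ x ∈ R, (x : 𝕄) * (x : 𝕄) = 1 ∨ (x : 𝕄) * (x : 𝕄) = -1 := by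
    intro x hx
    obtain ⟨a, ha⟩ := scalar_of_commute hRalg (y := (x : 𝕄) * x) fun y hy => by
      show _ * _ = _ * _
      rcases hc y hy x hx with h | h <;>
      · rw [← mul_assoc, h]
        first
          | rw [mul_assoc, h, ← mul_assoc]
          | rw [neg_mul, mul_assoc, h, mul_neg, neg_neg, ← mul_assoc]
    have h := adj_mul_self_of_mem (hRsp (R.mul_mem hx hx))
    rw [Units.val_mul, ha, adj_smul, adj_one, Matrix.smul_mul, Matrix.one_mul, smul_smul] at h
    rcases mul_self_eq_one_iff.1 (smul_left_injective F h1ne (h.trans (one_smul F 1).symm)) with rfl | rfl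
    · left; rw [ha, one_smul]
    · right; rw [ha, neg_one_smul]
  have hneg : ∃ z ∈ R, (z : 𝕄) = -1 := by
    obtain ⟨x, hx, y, hy, hxy⟩ : ∃ x ∈ R, ∃ y ∈ R, (x : 𝕄) * (y : 𝕄) ≠ (y : 𝕄) * (x : 𝕄) := by
      by_contra hcon
      push Not at hcon
      refine not_commutative_alg_top (by rw [Fintype.card_sum, Fintype.card_fin]; omega) hRalg fun a ha b hb => ?_
      exact Units.ext (hcon a ha b hb)
    refine ⟨x * y * (y * x)⁻¹, R.mul_mem (R.mul_mem hx hy) (R.inv_mem (R.mul_mem hy hx)), ?_⟩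
    rw [Units.val_mul, Units.val_mul, (hc x hx y hy).resolve_left hxy, neg_mul, ← Units.val_mul,
      ← Units.val_mul, mul_inv_cancel, Units.val_one]
  obtain ⟨z₀, hz₀R, hz₀⟩ := hneg
  have hcs : ∀ x ∈ R, ∀ y ∈ R, x * y * x⁻¹ * y⁻¹ ∈ scalars ιS F := by
    intro x hx y hy
    rcases hc x hx y hy with h | h
    · have : x * y = y * x := Units.ext h
      rw [this]; simp
    · refine (mem_scalars_iff _).2 ⟨-1, ?_⟩
      rw [Units.val_mul, Units.val_mul, Units.val_mul, h, Units.val_neg, Units.val_one, neg_one_smul]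
      simp [mul_assoc]
  have hcard : Nat.card R = 2 ^ (1 + 2 * k) := by
    haveI : Fintype (R ⧸ Subgroup.center R) := Fintype.ofFinite _
    have B : Module.Basis (R ⧸ Subgroup.center R) F 𝕄 :=
      Module.Basis.mk (linearIndependent_reps hcs) (span_reps hRalg)
    have hq := Module.finrank_eq_card_basis B
    rw [Module.finrank_matrix, Module.finrank_self, mul_one, Fintype.card_sum, Fintype.card_fin] at hq
    have hZ : Nat.card (Subgroup.center R) = 2 := by
      rw [Nat.card_eq_two_iff]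
      have hz1 : (⟨z₀, hz₀R⟩ : R) ≠ 1 := fun he => by
        have h' := congrArg (fun w : R => ((w : GL ιS F) : 𝕄)) he
        simp only [hz₀, OneMemClass.coe_one, Units.val_one] at h'
        have h3 : (2 : F) • (1 : 𝕄) = 0 := by rw [two_smul]; nth_rewrite 1 [← h']; exact neg_add_cancel _
        exact h1ne ((smul_eq_zero.1 h3).resolve_left h2)
      refine ⟨1, ⟨⟨z₀, hz₀R⟩, Subgroup.mem_center_iff.2 fun g => Subtype.ext (Units.ext (by simp [hz₀]))⟩,
        fun he => hz1 (congrArg Subtype.val he).symm, ?_⟩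
      rw [Set.eq_univ_iff_forall]
      rintro ⟨z, hz⟩
      obtain ⟨c, hcz⟩ := scalar_of_center hRalg hz
      have h := adj_mul_self_of_mem (hRsp z.2)
      rw [hcz, adj_smul, adj_one, Matrix.smul_mul, Matrix.one_mul, smul_smul] at h
      rcases mul_self_eq_one_iff.1 (smul_left_injective F h1ne (h.trans (one_smul F 1).symm)) with rfl | rfl
      · exact Or.inl (Subtype.ext (Subtype.ext (Units.ext (by simp [hcz]))))
      · exact Or.inr (Subtype.ext (Subtype.ext (Units.ext (by simp [hcz, hz₀]))))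
    rw [← Subgroup.index_mul_card (Subgroup.center R), hZ, Subgroup.index, Nat.card_eq_fintype_card, ← hq,
      pow_add, pow_one, two_mul k, pow_add, hk]
    ring
  obtain ⟨hsymp, hcent, hminus⟩ := symp_data (by omega) h2 hRsp hRalg hc hsq ⟨z₀, hz₀R, hz₀⟩ hcard hk
  refine ⟨R, hsymp, absIrred_of_alg_top hRalg, hRsp.trans spGL_le_similarityGroup, hcard, hcent, hminus,
    fun g hg => ?_, not_le_normalizer hm h2 hRsp hRalg hc⟩
  have hconj : ∀ g ∈ H, ∀ x ∈ R, g * x * g⁻¹ ∈ R := by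
    intro g hg x hx
    have hle : R ≤ R.comap (MulAut.conj g).toMonoidHom := by
      nth_rewrite 1 [hRdef]
      exact (Subgroup.closure_le _).2 fun y hy => hRdef ▸ hnorm g hg y hy
    exact hle hx
  rw [subgroupNormalizer, Subgroup.mem_normalizer_iff]
  refine fun x => ⟨fun hx => hconj g hg x hx, fun hx => ?_⟩
  simpa [mul_assoc] using hconj g⁻¹ (H.inv_mem hg) _ hx

end CfsgLib.AschSp
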