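import Cfsg.Agent.Lib.AschSp.Cases
import Cfsg.Agent.Lib.Aschbacher.Tensor

/-!
Coordinates for the symplectic form adapted to a product index set, and facts on Kronecker products of
Gram matrices.
-/

set_option autoImplicit false
set_option linter.unusedSectionVars false

namespace CfsgLib.AschSp

open Matrix Cfsg.Geo CfsgLib.Aschbacher
open scoped MatrixGroups Kronecker

variable {m : ℕ} {F : Type*} [Field F] {κ : Type} [Fintype κ] [DecidableEq κ]

local notation "ιS" => (Fin m ⊕ Fin m)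
local notation "𝕄" => Matrix (Fin m ⊕ Fin m) (Fin m ⊕ Fin m) F
local notation "sf" => Cfsg.sympForm m F

/-- Transport of matrices along a coordinate system. -/
def tmat (e : ιS ≃ κ) (P : GL ιS F) : Matrix κ κ F ≃ₐ[F] 𝕄 :=
  (Matrix.reindexAlgEquiv F F e.symm).trans (cj P)

/-- The Gram matrix of the symplectic form in a coordinate system. -/
def gram (e : ιS ≃ κ) (P : GL ιS F) : Matrix κ κ F :=
  Matrix.reindex e e ((P : 𝕄)ᵀ * Matrix.J (Fin m) F * (P : 𝕄))

theorem tmat_mulVec (e : ιS ≃ κ) (P : GL ιS F) (X : Matrix κ κ F) (x : κ → F) :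
    tmat e P X *ᵥ ((P : 𝕄) *ᵥ (x ∘ e)) = (P : 𝕄) *ᵥ ((X *ᵥ x) ∘ e) := by
  rw [tmat, AlgEquiv.trans_apply, cj_apply, mulVec_mulVec, mul_assoc, ← Units.val_mul, inv_mul_cancel,
    Units.val_one, mul_one, ← mulVec_mulVec]
  congr 1
  ext i
  simp only [Matrix.coe_reindexAlgEquiv, Matrix.reindex_apply, Equiv.symm_symm]
  rw [Matrix.submatrix_mulVec_equiv]
  simp [Function.comp_def]

theorem coords_surj (e : ιS ≃ κ) (P : GL ιS F) (u : ιS → F) :
    ∃ x : κ → F, u = (P : 𝕄) *ᵥ (x ∘ e) :=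
  ⟨(((P⁻¹ : GL ιS F) : 𝕄) *ᵥ u) ∘ e.symm, by simp [Function.comp_def, mulVec_mulVec]⟩

theorem form_coords (e : ιS ≃ κ) (P : GL ιS F) (x y : κ → F) :
    sf ((P : 𝕄) *ᵥ (x ∘ e)) ((P : 𝕄) *ᵥ (y ∘ e)) = x ⬝ᵥ (gram e P *ᵥ y) := by
  rw [gram, Matrix.reindex_apply, Matrix.submatrix_mulVec_equiv, Equiv.symm_symm,
    dotProduct_comp_equiv_symm, Cfsg.sympForm, mulVec_mulVec, mul_assoc, ← mulVec_mulVec _ ((P : 𝕄)ᵀ),
    dotProduct_mulVec _ ((P : 𝕄)ᵀ), vecMul_transpose]

theorem adj_tmat (e : ιS ≃ κ) (P : GL ιS F) {X Y : Matrix κ κ F}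
    (h : Xᵀ * gram e P = gram e P * Y) : adj (tmat e P X) = tmat e P Y := by
  refine mat_ext fun u v => ?_
  obtain ⟨x, rfl⟩ := coords_surj e P u
  obtain ⟨y, rfl⟩ := coords_surj e P v
  rw [← adj_spec, tmat_mulVec, tmat_mulVec, form_coords, form_coords, mulVec_mulVec, ← h,
    ← mulVec_mulVec, dotProduct_mulVec _ Xᵀ, vecMul_transpose]

theorem gram_transpose (e : ιS ≃ κ) (P : GL ιS F) : (gram e P)ᵀ = -gram e P := by
  rw [gram, Matrix.transpose_reindex, transpose_mul, transpose_mul, Matrix.J_transpose, transpose_transpose,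
    Matrix.neg_mul, Matrix.mul_neg, ← mul_assoc]
  rfl

theorem gram_diag (e : ιS ≃ κ) (P : GL ιS F) (i : κ) : gram e P i i = 0 := by
  have h := form_coords e P (Pi.single i 1) (Pi.single i 1)
  rw [MaxSub.sympForm_self] at h
  simpa using h.symm

theorem gram_isUnit (e : ιS ≃ κ) (P : GL ιS F) : IsUnit (gram e P) := by
  have h : IsUnit ((P : 𝕄)ᵀ * Matrix.J (Fin m) F * (P : 𝕄)) :=
    (((P.isUnit.map (Matrix.transposeAlgEquiv ιS F F)).unop).mul (Matrix.isUnit_iff_isUnit_det _ |>.2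
      (Matrix.isUnit_det_J _ _))).mul P.isUnit
  exact h.map (Matrix.reindexAlgEquiv F F e)

theorem exists_tmat_of_mem {d n : ℕ} {e : ιS ≃ Fin d × Fin n} {P g : GL ιS F}
    (hg : g ∈ tensorProductSubgroup d n e P) :
    ∃ (a : GL (Fin d) F) (b : GL (Fin n) F),
      (g : 𝕄) = tmat e P ((a : Matrix (Fin d) (Fin d) F) ⊗ₖ (b : Matrix (Fin n) (Fin n) F)) := by
  obtain ⟨_, ⟨k, ⟨a, b, hk⟩, rfl⟩, rfl⟩ := hg
  exact ⟨a, b, by rw [← hk]; rfl⟩

/-- Factors of a nonzero Kronecker product are unique up to a scalar. -/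
theorem kron_cancel {κ₁ κ₂ : Type} {A A' : Matrix κ₁ κ₁ F} {B B' : Matrix κ₂ κ₂ F}
    (h : A ⊗ₖ B = A' ⊗ₖ B') (hA : A ≠ 0) (hB : B ≠ 0) :
    ∃ t : F, t ≠ 0 ∧ A' = t • A ∧ B' = t⁻¹ • B := by
  obtain ⟨i, j, hij⟩ : ∃ i j, A i j ≠ 0 := by
    by_contra h; push Not at h; exact hA (Matrix.ext h)
  obtain ⟨k, l, hkl⟩ : ∃ k l, B k l ≠ 0 := by
    by_contra h; push Not at h; exact hB (Matrix.ext h)
  have he : ∀ a b c d, A a b * B c d = A' a b * B' c d := fun a b c d =>
    congrFun (congrFun h (a, c)) (b, d)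
  have h' : A' i j * B' k l ≠ 0 := he i j k l ▸ mul_ne_zero hij hkl
  obtain ⟨hij', hkl'⟩ := mul_ne_zero_iff.1 h'
  refine ⟨B k l / B' k l, div_ne_zero hkl hkl', ?_, ?_⟩
  · ext a b
    rw [Matrix.smul_apply, smul_eq_mul, div_mul_eq_mul_div, eq_div_iff hkl']
    linear_combination -(he a b k l)
  · ext c d
    rw [Matrix.smul_apply, smul_eq_mul, inv_div, div_mul_eq_mul_div, eq_div_iff hkl]
    have h1 := he i j c d
    have h2 := he i j k l
    apply mul_left_cancel₀ hij'
    linear_combination -(B k l) * h1 + B c d * h2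

/-- A matrix with vanishing diagonal that equals minus its transpose gives an alternating form. -/
theorem alt_of_matrix {G : Matrix κ κ F} (hG : Gᵀ = -G) (hdiag : ∀ i, G i i = 0) (x : κ → F) :
    x ⬝ᵥ (G *ᵥ x) = 0 := by
  simp only [dotProduct, mulVec, Finset.mul_sum]
  rw [← Finset.sum_product']
  refine Finset.sum_involution (fun p _ => p.swap) ?_ ?_ (fun _ _ => Finset.mem_univ _) (fun p _ => Prod.swap_swap p)
  · intro p _
    have h : G p.2 p.1 = -G p.1 p.2 := congrFun (congrFun hG p.1) p.2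
    simp only [Prod.fst_swap, Prod.snd_swap, h]; ring
  · intro p _ hp h
    exact hp (by rw [show p.2 = p.1 from (congrArg Prod.fst h)]; simp [hdiag])

/-- The bilinear form with a given Gram matrix. -/
def matForm (G : Matrix κ κ F) (x y : κ → F) : F := x ⬝ᵥ (G *ᵥ y)

theorem matForm_bilinear (G : Matrix κ κ F) : IsBilinearForm (matForm G) where
  add_left x y v := add_dotProduct _ _ _
  smul_left c x v := smul_dotProduct _ _ _
  add_right v x y := by simp [matForm, mulVec_add]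
  smul_right c v x := by simp [matForm, mulVec_smul]

theorem gramMatrix_matForm (G : Matrix κ κ F) : gramMatrix (matForm G) = G := by
  ext a b; simp [gramMatrix, matForm]

theorem formOfGram_id (G : Matrix κ κ F) (x y : κ → F) : formOfGram id G x y = x ⬝ᵥ (G *ᵥ y) := by
  simp only [formOfGram, dotProduct, mulVec, Finset.mul_sum, id]
  exact Finset.sum_congr rfl fun a _ => Finset.sum_congr rfl fun b _ => by ring

theorem matForm_nondeg {G : Matrix κ κ F} (hG : IsUnit G) : IsNondegenerateForm (matForm G) := by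
  intro v hv
  have hsep : ∀ G' : Matrix κ κ F, IsUnit G' → ∃ x, x ⬝ᵥ (G' *ᵥ v) ≠ 0 := fun G' hG' => by
    have hne : G' *ᵥ v ≠ 0 := fun h => hv (mulVec_injective_of_isUnit hG'
      (show G' *ᵥ v = G' *ᵥ 0 by rw [h, mulVec_zero]))
    obtain ⟨i, hi⟩ := Function.ne_iff.1 hne
    exact ⟨Pi.single i 1, by simpa using hi⟩
  refine ⟨hsep G hG, ?_⟩
  obtain ⟨x, hx⟩ := hsep Gᵀ (by rw [Matrix.isUnit_transpose]; exact hG)
  refine ⟨x, ?_⟩
  rw [mulVec_transpose, dotProduct_comm, ← dotProduct_mulVec] at hx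
  exact hx

theorem matForm_symplectic {G : Matrix κ κ F} (hG : IsUnit G) (ht : Gᵀ = -G) (hd : ∀ i, G i i = 0) :
    IsSymplecticForm (matForm G) where
  bilinear := matForm_bilinear G
  skew v w := by
    rw [matForm, matForm, dotProduct_mulVec w, ← mulVec_transpose, ht, neg_mulVec, neg_dotProduct,
      neg_neg, dotProduct_comm]
  alternating := alt_of_matrix ht hd
  nondegenerate := matForm_nondeg hG

theorem matForm_symmetric {G : Matrix κ κ F} (hG : IsUnit G) (ht : Gᵀ = G) :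
    IsSymmetricForm (matForm G) where
  bilinear := matForm_bilinear G
  symm v w := by
    rw [matForm, matForm, dotProduct_mulVec w, ← mulVec_transpose, ht, dotProduct_comm]
  nondegenerate := matForm_nondeg hG

/-- An alternating invertible matrix has an element with symmetrisation one. -/
theorem exists_half [LinearOrder κ] {G : Matrix κ κ F} (hG : IsUnit G) (ht : Gᵀ = -G) (hd : ∀ i, G i i = 0)
    (h2 : (2 : F) = 0) :
    ∃ a a' : Matrix κ κ F, aᵀ * G = G * a' ∧ a + a' = 1 := by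
  let T : Matrix κ κ F := Matrix.of fun i j => if i < j then G i j else 0
  have hT : T + Tᵀ = G := by
    ext i j
    simp only [T, Matrix.add_apply, Matrix.transpose_apply, Matrix.of_apply]
    have hji : G j i = -G i j := congrFun (congrFun ht i) j
    rcases lt_trichotomy i j with h | h | h
    · rw [if_pos h, if_neg h.asymm, add_zero]
    · subst h; rw [if_neg (lt_irrefl i), hd, add_zero]
    · rw [if_neg h.asymm, if_pos h, zero_add, hji]
      linear_combination -(G i j) * h2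
  have hGG : Gᵀ = G := by
    ext i j; rw [ht, Matrix.neg_apply]; linear_combination -(G i j) * h2
  obtain ⟨u, rfl⟩ := hG
  refine ⟨(↑u⁻¹ : Matrix κ κ F) * T, (↑u⁻¹ : Matrix κ κ F) * Tᵀ, ?_, ?_⟩
  · rw [transpose_mul, ← mul_assoc (u : Matrix κ κ F), Units.mul_inv, one_mul, mul_assoc,
      show ((↑u⁻¹ : Matrix κ κ F))ᵀ * (u : Matrix κ κ F) = ((↑u⁻¹ : Matrix κ κ F))ᵀ * (u : Matrix κ κ F)ᵀ by rw [hGG],
      ← transpose_mul, Units.mul_inv, transpose_one, mul_one]
  · rw [← mul_add, hT, Units.inv_mul]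

end CfsgLib.AschSp
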