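import Cfsg.Agent.Lib.AschSp.Main
import Cfsg.Agent.Lib.AschSp.Proper
import Cfsg.Agent.Lib.Aschbacher.Linear
import Cfsg.Agent.Lib.MaxSub.DecompCoord
import Cfsg.Agent.Lib.MaxSub.OmegaElem

/-!
From the cases of Aschbacher's theorem to lists of maximal subgroups of symplectic groups:
parameter constraints and properness of the members.
-/

set_option autoImplicit false
set_option linter.unusedSectionVars false
set_option linter.style.haveILetI false

namespace CfsgLib.AschSp

open Matrix Cfsg.Geo CfsgLib.Aschbacher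
open scoped MatrixGroups

variable {m : ℕ} {F : Type*} [Field F]

local notation "ιS" => (Fin m ⊕ Fin m)
local notation "𝕄" => Matrix (Fin m ⊕ Fin m) (Fin m ⊕ Fin m) F
local notation "sf" => Cfsg.sympForm m F

theorem eq_inf {H X : Subgroup (GL ιS F)} (hH : IsMaximalIn (Cfsg.spGL m F) H) (hle : H ≤ X)
    (hX : ¬ Cfsg.spGL m F ≤ X) : H = X ⊓ Cfsg.spGL m F := by
  rcases hH.2 (X ⊓ Cfsg.spGL m F) (le_inf hle hH.1.le) inf_le_right with h | h
  · exact h.symm
  · exact absurd (h ▸ inf_le_left) hX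

theorem even_finrank_of_nondeg [Fintype F] {W : Submodule F (ιS → F)}
    (hnd : IsNondegenerateOn (Cfsg.sympForm m F) W) : Even (Module.finrank F W) := by
  refine MaxSub.OmegaElem.even_finrank_of_alt (F := F)
    (LinearMap.mk₂ F (fun u v : W => sf (u : ιS → F) v)
      (fun a b c => MaxSub.sympForm_add_left _ _ _) (fun a b c => MaxSub.sympForm_smul_left _ _ _)
      (fun a b c => MaxSub.sympForm_add_right _ _ _) (fun a b c => MaxSub.sympForm_smul_right _ _ _))
    (fun v => MaxSub.sympForm_self _) fun x hx => ?_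
  by_contra h
  obtain ⟨-, y, hy, hxy⟩ := hnd x x.2 fun h' => h (Subtype.ext h')
  exact hxy (hx ⟨y, hy⟩)

theorem even_of_symplecticForm [Fintype F] {n : ℕ} {f : (Fin n → F) → (Fin n → F) → F} (hf : IsSymplecticForm f) :
    Even n := by
  have h := MaxSub.OmegaElem.even_finrank_of_alt (F := F)
    (LinearMap.mk₂ F f hf.bilinear.add_left hf.bilinear.smul_left hf.bilinear.add_right
      hf.bilinear.smul_right) hf.alternating fun x hx => ?_
  · rwa [Module.finrank_fin_fun] at h
  · by_contra h0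
    obtain ⟨-, y, hy⟩ := hf.nondegenerate x h0
    exact hy (hx y)

theorem decomp_arith [Fintype F] {t k : ℕ} {D : Fin t → Submodule F (ιS → F)}
    (hD : IsNondegenerateMDecomposition (Cfsg.sympForm m F) k D) :
    t * k = 2 * m ∧ Even k ∧ 2 ≤ t ∧ 2 ≤ k := by
  obtain ⟨ψ, -⟩ := MaxSub.Decomp.exists_coord hD.decomp
  have h := ψ.finrank_eq
  rw [Module.finrank_pi, Module.finrank_pi_fintype] at h
  simp only [Module.finrank_pi, Fintype.card_sum, Fintype.card_fin, Finset.sum_const, Finset.card_univ,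
    smul_eq_mul] at h
  have he : Even k := by
    have := even_finrank_of_nondeg (hD.nondegenerate ⟨0, by have := hD.decomp.two_le; omega⟩)
    rwa [hD.decomp.finrank_eq] at this
  obtain ⟨a, rfl⟩ := he
  exact ⟨by omega, ⟨a, rfl⟩, hD.decomp.two_le, by have := hD.decomp.pos; omega⟩

theorem tensor_arith [Fintype F] {n₁ n₂ : ℕ} (e : ιS ≃ Fin n₁ × Fin n₂) (hm : 0 < m)
    {f : (Fin n₁ → F) → (Fin n₁ → F) → F} (hf : IsSymplecticForm f) :
    n₁ * n₂ = 2 * m ∧ Even n₁ ∧ 2 ≤ n₁ := by
  have h := Fintype.card_congr e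
  simp only [Fintype.card_sum, Fintype.card_prod, Fintype.card_fin] at h
  obtain ⟨a, rfl⟩ := even_of_symplecticForm hf
  refine ⟨by omega, ⟨a, rfl⟩, ?_⟩
  rcases Nat.eq_zero_or_pos a with rfl | h'
  · simp at h; omega
  · omega

theorem wreath_arith [Fintype F] {k t : ℕ} (e : ιS ≃ (Fin t → Fin k)) (hm : 0 < m) (ht : 3 ≤ t)
    {f : (Fin k → F) → (Fin k → F) → F} (hf : IsSymplecticForm f) :
    k ^ t = 2 * m ∧ Even k ∧ 2 ≤ k := by
  have h := Fintype.card_congr e
  simp only [Fintype.card_sum, Fintype.card_fun, Fintype.card_fin] at h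
  obtain ⟨a, rfl⟩ := even_of_symplecticForm hf
  refine ⟨by omega, ⟨a, rfl⟩, ?_⟩
  rcases Nat.eq_zero_or_pos a with rfl | h'
  · rw [zero_add, zero_pow (by omega)] at h; omega
  · omega

/-- A subspace invariant under a field of degree `r` has dimension divisible by `r`. -/
theorem dvd_finrank_of_invariant [Fintype F] {r : ℕ} {K : Subalgebra F 𝕄} (hK : IsFieldSubalgebra r K)
    (hm : 0 < m) {W : Submodule F (ιS → F)} (hW : ∀ k ∈ K, ∀ v ∈ W, k *ᵥ v ∈ W) :
    r ∣ Module.finrank F W := by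
  haveI : Nonempty ιS := ⟨Sum.inl ⟨0, hm⟩⟩
  have hfield : IsField K :=
    { exists_pair_ne := ⟨0, 1, fun h => zero_ne_one (congrArg Subtype.val h)⟩
      mul_comm := fun a b => Subtype.ext (hK.comm a a.2 b b.2)
      mul_inv_cancel := fun {a} ha => by
        obtain ⟨y, hy, h⟩ := hK.inv a a.2 fun h => ha (Subtype.ext h)
        exact ⟨⟨y, hy⟩, Subtype.ext h⟩ }
  letI : Field K := hfield.toField
  let φ : K →+* Module.End F (ιS → F) :=
    ((Matrix.toLinAlgEquiv' : 𝕄 ≃ₐ[F] Module.End F (ιS → F)).toAlgHom.comp K.val).toRingHom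
  letI : Module K (ιS → F) := Module.compHom _ φ
  let W' : Submodule K (ιS → F) :=
    { carrier := W
      add_mem' := W.add_mem
      zero_mem' := W.zero_mem
      smul_mem' := fun c x hx => hW c c.2 x hx }
  have hcK : Nat.card K = Nat.card F ^ r := by
    rw [Module.natCard_eq_pow_finrank (K := F) (V := K), hK.finrank_eq]
  haveI : Module.Finite K W' := Module.Finite.of_finite
  have hcW : Nat.card W' = Nat.card K ^ Module.finrank K W' := Module.natCard_eq_pow_finrank
  have hcW' : Nat.card W = Nat.card F ^ Module.finrank F W := Module.natCard_eq_pow_finrank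
  have : Nat.card W' = Nat.card W := rfl
  rw [this, hcW', hcK, ← pow_mul] at hcW
  exact Dvd.intro _ (Nat.pow_right_injective (Finite.one_lt_card (α := F)) hcW).symm

/-- A self-adjoint field of alternating type has degree dividing `m`. -/
theorem field_dvd [Fintype F] (hm : 0 < m) {r : ℕ} {K : Subalgebra F 𝕄} (hK : IsFieldSubalgebra r K)
    (hsa : IsSelfAdjointFor (Cfsg.sympForm m F) K) (halt : ∀ k ∈ K, ∀ v, sf (k *ᵥ v) v = 0) :
    r ∣ m := by
  classical
  let S : Set (Submodule F (ιS → F)) :=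
    {W | (∀ k ∈ K, ∀ v ∈ W, k *ᵥ v ∈ W) ∧ IsTotallySingularFor (Cfsg.sympForm m F) W}
  have hS : (⊥ : Submodule F (ιS → F)) ∈ S :=
    ⟨fun k _ v hv => by rw [(Submodule.mem_bot F).1 hv]; simp,
      fun u hu v _ => by rw [(Submodule.mem_bot F).1 hu]; exact form_zero_left _⟩
  obtain ⟨W, ⟨hWK, hWts⟩, hmax⟩ :=
    (wellFounded_gt (α := Submodule F (ιS → F))).has_min S ⟨⊥, hS⟩
  suffices h : MaxSub.spPerp W ≤ W by
    have h1 := MaxSub.finrank_le_finrank_spPerp_add W
    have h2 := Submodule.finrank_mono h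
    have h3 := finrank_ts_le hWts
    have h4 : Module.finrank F W = m := by omega
    exact h4 ▸ dvd_finrank_of_invariant hK hm hWK
  intro v hv
  by_contra hvW
  let L : K →ₗ[F] (ιS → F) :=
    { toFun := fun k => (k : 𝕄) *ᵥ v
      map_add' := fun a b => add_mulVec _ _ _
      map_smul' := fun c a => smul_mulVec _ _ _ }
  have hL : ∀ k ∈ K, k *ᵥ v ∈ LinearMap.range L := fun k hk => ⟨⟨k, hk⟩, rfl⟩
  have hperp : ∀ k ∈ K, ∀ w ∈ W, sf (k *ᵥ v) w = 0 := fun k hk w hw => by
    rw [hsa k hk v w]; exact hv _ (hWK k hk w hw)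
  refine hmax (W ⊔ LinearMap.range L) ⟨?_, ?_⟩ ?_
  · intro k hk x hx
    obtain ⟨a, ha, _, ⟨c, rfl⟩, rfl⟩ := Submodule.mem_sup.1 hx
    rw [mulVec_add]
    refine Submodule.add_mem_sup (hWK k hk a ha) ?_
    show k *ᵥ ((c : 𝕄) *ᵥ v) ∈ _
    rw [mulVec_mulVec]
    exact hL _ (K.mul_mem hk c.2)
  · intro x hx y hy
    obtain ⟨a, ha, _, ⟨c, rfl⟩, rfl⟩ := Submodule.mem_sup.1 hx
    obtain ⟨b, hb, _, ⟨d, rfl⟩, rfl⟩ := Submodule.mem_sup.1 hy
    show sf (a + (c : 𝕄) *ᵥ v) (b + (d : 𝕄) *ᵥ v) = 0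
    rw [MaxSub.sympForm_add_left, MaxSub.sympForm_add_right, MaxSub.sympForm_add_right, hWts a ha b hb,
      hperp c c.2 b hb, MaxSub.sympForm_swap, hperp d d.2 a ha, ← hsa d d.2, mulVec_mulVec,
      halt _ (K.mul_mem d.2 c.2)]
    simp
  · refine lt_of_le_of_ne le_sup_left fun h => hvW ?_
    rw [h]
    exact Submodule.mem_sup_right (by simpa using hL 1 K.one_mem)

theorem eq_zero_or_one (h2 : Nat.card F = 2) (c : F) : c = 0 ∨ c = 1 := by
  classical
  haveI : Finite F := Nat.finite_of_card_ne_zero (by omega)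
  haveI := Fintype.ofFinite F
  by_contra h
  push Not at h
  have := Finset.card_le_univ ({c, 0, 1} : Finset F)
  rw [Finset.card_insert_of_notMem (by simp [h.1, h.2]), Finset.card_insert_of_notMem (by simp),
    Finset.card_singleton, ← Nat.card_eq_fintype_card, h2] at this
  omega

/-- Over two elements an orthogonal decomposition into planes fixes a quadratic form polarising to `sf`. -/
theorem quad_of_planes [Fintype F] {t : ℕ} (h2 : Fintype.card F = 2) {D : Fin t → Submodule F (ιS → F)}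
    (hD : IsNondegenerateMDecomposition (Cfsg.sympForm m F) 2 D) :
    ∃ Q : (ιS → F) → F, IsNondegenerateQuadraticForm Q ∧ (∀ u v, QuadraticMap.polar Q u v = sf u v) ∧
      decompositionStabilizer D ≤ quadSimilarityGroup Q := by
  classical
  have h01 := eq_zero_or_one (F := F) (by rw [Nat.card_eq_fintype_card, h2])
  have htwo : (2 : F) = 0 := two_eq_zero_of_not_odd (by rw [h2]; decide)
  obtain ⟨ψ, hψ⟩ := MaxSub.Decomp.exists_coord hD.decomp
  let Q : (ιS → F) → F := fun x => MaxSub.Decomp.cnt (ψ x)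
  let c : Fin t → (ιS → F) → (ιS → F) := fun i x => ψ.symm (Pi.single i (ψ x i))
  have hc : ∀ i x, c i x ∈ D i := fun i x => MaxSub.Decomp.single_of_coord ψ hψ i _
  have hsum : ∀ x, ∑ i, c i x = x := fun x => by
    simp only [c]; rw [← map_sum, Finset.univ_sum_single, ψ.symm_apply_apply]
  have hplane : ∀ i, ∀ u ∈ D i, ∀ v ∈ D i, u ≠ 0 → v ≠ 0 → u ≠ v → sf u v = 1 := by
    intro i u hu v hv hu0 hv0 huv
    refine (h01 _).resolve_left fun h0 => ?_
    obtain ⟨-, y, hy, hyu⟩ := hD.nondegenerate i u hu hu0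
    have hli : LinearIndependent F ![u, v] := by
      rw [LinearIndependent.pair_iff' hu0]
      intro a
      rcases h01 a with rfl | rfl
      · rw [zero_smul]; exact hv0.symm
      · rw [one_smul]; exact huv
    have hspan : Submodule.span F (Set.range ![u, v]) = D i := by
      refine Submodule.eq_of_le_of_finrank_eq (Submodule.span_le.2 ?_) ?_
      · rintro _ ⟨j, rfl⟩; fin_cases j <;> assumption
      · rw [finrank_span_eq_card hli, hD.decomp.finrank_eq, Fintype.card_fin]
    rw [← hspan, Matrix.range_cons, Matrix.range_cons, Matrix.range_empty, Set.union_empty,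
      Set.singleton_union, Submodule.mem_span_pair] at hy
    obtain ⟨a, b, rfl⟩ := hy
    rw [MaxSub.sympForm_add_right, MaxSub.sympForm_smul_right, MaxSub.sympForm_smul_right,
      MaxSub.sympForm_self, h0, mul_zero, mul_zero, add_zero] at hyu
    exact hyu rfl
  have hind : ∀ i, ∀ u ∈ D i, ∀ v ∈ D i,
      MaxSub.Decomp.ind (u + v) - MaxSub.Decomp.ind u - MaxSub.Decomp.ind v = sf u v := by
    intro i u hu v hv
    rcases eq_or_ne u 0 with rfl | hu0
    · rw [zero_add, form_zero_left, MaxSub.Decomp.ind_zero]; simp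
    rcases eq_or_ne v 0 with rfl | hv0
    · rw [add_zero, form_zero_right, MaxSub.Decomp.ind_zero]; simp
    rcases eq_or_ne u v with rfl | huv
    · have : u + u = 0 := by rw [← two_smul F u, htwo, zero_smul]
      rw [this, MaxSub.Decomp.ind_zero, MaxSub.Decomp.ind_ne hu0, MaxSub.sympForm_self]
      linear_combination -htwo
    · rw [hplane i u hu v hv hu0 hv0 huv, MaxSub.Decomp.ind_ne hu0, MaxSub.Decomp.ind_ne hv0,
        MaxSub.Decomp.ind_ne fun h => huv ?_]
      · linear_combination -htwo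
      · have h' : v + v = 0 := by rw [← two_smul F v, htwo, zero_smul]
        exact add_right_cancel (h.trans h'.symm)
  have hindc : ∀ i x, (MaxSub.Decomp.ind (ψ x i) : F) = MaxSub.Decomp.ind (c i x) := by
    intro i x
    by_cases h : ψ x i = 0
    · simp [c, h, MaxSub.Decomp.ind_zero]
    · rw [MaxSub.Decomp.ind_ne h, MaxSub.Decomp.ind_ne fun h' => h ?_]
      have := congrArg (fun z => ψ z i) h'
      simpa [c] using this
  have hpol : ∀ u v, QuadraticMap.polar Q u v = sf u v := by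
    intro u v
    show MaxSub.Decomp.cnt (ψ (u + v)) - MaxSub.Decomp.cnt (ψ u) - MaxSub.Decomp.cnt (ψ v) = _
    simp only [MaxSub.Decomp.cnt, ← Finset.sum_sub_distrib, hindc]
    have hadd : ∀ i, c i (u + v) = c i u + c i v := fun i => by
      simp [c, map_add, Pi.single_add]
    rw [Finset.sum_congr rfl fun i _ => (by rw [hadd]; exact hind i _ (hc i u) _ (hc i v) :
      _ = sf (c i u) (c i v))]
    conv_rhs => rw [← hsum u, ← hsum v]
    let B : (ιS → F) →ₗ[F] (ιS → F) →ₗ[F] F := LinearMap.mk₂ F (fun u v => sf u v)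
      (fun a b c => MaxSub.sympForm_add_left _ _ _) (fun a b c => MaxSub.sympForm_smul_left _ _ _)
      (fun a b c => MaxSub.sympForm_add_right _ _ _) (fun a b c => MaxSub.sympForm_smul_right _ _ _)
    show _ = B (∑ i, c i u) (∑ i, c i v)
    rw [map_sum B, LinearMap.sum_apply]
    refine Finset.sum_congr rfl fun i _ => ?_
    rw [map_sum (B (c i u)), Finset.sum_eq_single i]
    · rfl
    · exact fun j _ hji => hD.orthogonal i j hji.symm _ (hc i u) _ (hc j v)
    · simp
  have hQ0 : Q 0 = 0 := by simp [Q, MaxSub.Decomp.cnt, MaxSub.Decomp.ind_zero]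
  have heq : QuadraticMap.polar Q = Cfsg.sympForm m F := funext fun u => funext fun v => hpol u v
  refine ⟨Q, ⟨?_, ?_, ?_⟩, hpol, fun g hg => ⟨1, fun v => ?_⟩⟩
  · intro a v
    rcases h01 a with rfl | rfl
    · simp [hQ0]
    · simp
  · rw [heq]; exact isSymplecticForm.bilinear
  · rw [heq]; exact isSymplecticForm.nondegenerate
  · rw [Units.val_one, one_mul]; exact MaxSub.Decomp.cnt_stab ψ hψ hg v

theorem quad_of_decomp_two [Fintype F] (hm : 2 ≤ m) {H : Subgroup (GL ιS F)}
    (hH : IsMaximalIn (Cfsg.spGL m F) H) {t : ℕ} (h2 : Fintype.card F = 2)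
    {D : Fin t → Submodule F (ιS → F)} (hD : IsNondegenerateMDecomposition (Cfsg.sympForm m F) 2 D)
    (hle : H ≤ decompositionStabilizer D) :
    ¬ Odd (Fintype.card F) ∧ ∃ Q : (ιS → F) → F, IsNondegenerateQuadraticForm Q ∧
      (∀ u v, QuadraticMap.polar Q u v = sf u v) ∧ H = quadSimilarityGroup Q ⊓ Cfsg.spGL m F := by
  obtain ⟨Q, hQ, hpol, hst⟩ := quad_of_planes h2 hD
  exact ⟨by rw [h2]; decide, Q, hQ, hpol, eq_inf hH (hle.trans hst) (not_le_quad hm hQ hpol)⟩

end CfsgLib.AschSp
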