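import Cfsg.Agent.Lib.AschSp.Cases
import Cfsg.Agent.Lib.Aschbacher.Centre

/-!
An anti-self-adjoint element with scalar square, normalised up to scalars: a pair of totally singular
subspaces or a quadratic extension of unitary type.
-/

set_option autoImplicit false
set_option linter.unusedSectionVars false

namespace CfsgLib.AschSp

open Matrix Cfsg.Geo CfsgLib.Aschbacher
open scoped MatrixGroups

variable {m : ℕ} {F : Type*} [Field F]

local notation "ιS" => (Fin m ⊕ Fin m)
local notation "𝕄" => Matrix (Fin m ⊕ Fin m) (Fin m ⊕ Fin m) F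
local notation "sf" => Cfsg.sympForm m F

theorem finrank_ts_le {W : Submodule F (ιS → F)} (hW : IsTotallySingularFor (Cfsg.sympForm m F) W) :
    Module.finrank F W ≤ m := by
  let Φ : (ιS → F) →ₗ[F] Module.Dual F W :=
    { toFun := fun u =>
        { toFun := fun w => sf u w
          map_add' := fun a b => MaxSub.sympForm_add_right _ _ _
          map_smul' := fun c a => MaxSub.sympForm_smul_right _ _ _ }
      map_add' := fun a b => LinearMap.ext fun w => MaxSub.sympForm_add_left _ _ _
      map_smul' := fun c a => LinearMap.ext fun w => MaxSub.sympForm_smul_left _ _ _ }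
  have hsurj : Function.Surjective Φ := by
    intro φ
    obtain ⟨ψ, hψ⟩ := LinearMap.exists_extend φ
    let B : (ιS → F) →ₗ[F] Module.Dual F (ιS → F) :=
      { toFun := fun u =>
          { toFun := fun w => sf u w
            map_add' := fun a b => MaxSub.sympForm_add_right _ _ _
            map_smul' := fun c a => MaxSub.sympForm_smul_right _ _ _ }
        map_add' := fun a b => LinearMap.ext fun w => MaxSub.sympForm_add_left _ _ _
        map_smul' := fun c a => LinearMap.ext fun w => MaxSub.sympForm_smul_left _ _ _ }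
    have hinj : Function.Injective B := by
      rw [injective_iff_map_eq_zero]
      exact fun v hv => form_sep_left fun u => LinearMap.congr_fun hv u
    obtain ⟨u, hu⟩ := (LinearMap.injective_iff_surjective_of_finrank_eq_finrank
      Subspace.dual_finrank_eq.symm).1 hinj ψ
    refine ⟨u, LinearMap.ext fun w => ?_⟩
    show sf u w = φ w
    rw [← hψ]
    exact LinearMap.congr_fun hu _
  have h1 := LinearMap.finrank_range_add_finrank_ker Φ
  rw [LinearMap.range_eq_top.2 hsurj, finrank_top, Subspace.dual_finrank_eq, Module.finrank_pi,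
    Fintype.card_sum, Fintype.card_fin] at h1
  have h2 : W ≤ LinearMap.ker Φ := fun w hw => LinearMap.ext fun x => hW w hw x x.2
  have h3 := Submodule.finrank_mono h2
  omega

/-- Two idempotents exchanged by the adjoint. -/
theorem case_swap [Fintype F] {H : Subgroup (GL ιS F)} (hodd : Odd (Fintype.card F)) (hm : 0 < m) (E : 𝕄)
    (hE : E * E = E) (hadj : adj E = 1 - E) (hperm : ∀ g ∈ H, cj g E = E ∨ cj g E = 1 - E) : Case H := by
  let D : Fin 2 → Submodule F (ιS → F) :=
    ![LinearMap.range (Matrix.toLin' E), LinearMap.range (Matrix.toLin' (1 - E))]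
  have hts : ∀ i, IsTotallySingularFor (Cfsg.sympForm m F) (D i) := by
    rw [Fin.forall_fin_two]
    have hz : (1 - E) * E = 0 := by rw [sub_mul, one_mul, hE, sub_self]
    have hz' : E * (1 - E) = 0 := by rw [mul_sub, mul_one, hE, sub_self]
    refine ⟨?_, ?_⟩
    · rintro _ ⟨u, rfl⟩ _ ⟨v, rfl⟩
      rw [Matrix.toLin'_apply, Matrix.toLin'_apply, adj_spec, hadj, mulVec_mulVec, hz, zero_mulVec,
        form_zero_right]
    · rintro _ ⟨u, rfl⟩ _ ⟨v, rfl⟩
      rw [Matrix.toLin'_apply, Matrix.toLin'_apply, adj_spec, adj_sub, adj_one, hadj, sub_sub_cancel,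
        mulVec_mulVec, hz', zero_mulVec, form_zero_right]
  have hsup : D 0 ⊔ D 1 = ⊤ := by
    rw [eq_top_iff]
    intro v _
    refine Submodule.mem_sup.2 ⟨E *ᵥ v, ⟨v, rfl⟩, (1 - E) *ᵥ v, ⟨v, rfl⟩, ?_⟩
    rw [← add_mulVec, add_sub_cancel, one_mulVec]
  have hinf : D 0 ⊓ D 1 = ⊥ := by
    rw [Submodule.eq_bot_iff]
    rintro x ⟨⟨u, hu⟩, ⟨v, hv⟩⟩
    rw [Matrix.toLin'_apply] at hu hv
    have h1 : E *ᵥ x = x := by rw [← hu, mulVec_mulVec, hE]
    rw [← h1, ← hv, mulVec_mulVec, mul_sub, mul_one, hE, sub_self, zero_mulVec]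
  have hdim : ∀ i, Module.finrank F (D i) = m := by
    have h := Submodule.finrank_sup_add_finrank_inf_eq (D 0) (D 1)
    rw [hsup, hinf, finrank_bot, finrank_top, add_zero, Module.finrank_pi, Fintype.card_sum,
      Fintype.card_fin] at h
    have h0 := finrank_ts_le (hts 0)
    have h1 := finrank_ts_le (hts 1)
    rw [Fin.forall_fin_two]; omega
  refine .tsPair D hodd ⟨le_rfl, hm, hdim, ?_, ?_⟩ hts ?_
  · refine iSupIndep_pair (i := (0 : Fin 2)) (j := 1) (by decide) ?_ |>.2 (disjoint_iff.2 hinf)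
    intro i; fin_cases i <;> simp
  · rw [← hsup]
    refine le_antisymm (iSup_le fun i => ?_) (sup_le (le_iSup D 0) (le_iSup D 1))
    fin_cases i
    · exact le_sup_left
    · exact le_sup_right
  · intro g hg
    have hmap : ∀ x, (LinearMap.range (Matrix.toLin' x)).map (Matrix.toLin' (g : 𝕄)) =
        LinearMap.range (Matrix.toLin' (cj g x)) := fun x => map_range_toLin' g x
    rcases hperm g hg with h | h
    · refine ⟨1, Fin.forall_fin_two.2 ⟨?_, ?_⟩⟩
      · simp only [D, Matrix.cons_val_zero, Equiv.Perm.coe_one, id]; rw [hmap, h]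
      · simp only [D, Matrix.cons_val_one, Equiv.Perm.coe_one, id, Matrix.cons_val_zero]
        rw [hmap, map_sub, map_one, h]
    · refine ⟨Equiv.swap 0 1, Fin.forall_fin_two.2 ⟨?_, ?_⟩⟩
      · simp only [D, Matrix.cons_val_zero, Equiv.swap_apply_left, Matrix.cons_val_one]; rw [hmap, h]
      · simp only [D, Equiv.swap_apply_right, Matrix.cons_val_zero, Matrix.cons_val_one]
        rw [hmap, map_sub, map_one, h, sub_sub_cancel]

/-- An anti-self-adjoint element with scalar square, normalised up to scalars. -/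
theorem case_skew [Fintype F] {H : Subgroup (GL ιS F)} (hodd : Odd (Fintype.card F)) (hm : 0 < m) (J0 : 𝕄) (δ : F)
    (hδ : δ ≠ 0) (hsq : J0 * J0 = δ • 1) (hadj : adj J0 = -J0)
    (hnorm : ∀ g ∈ H, ∃ μ : F, cj g J0 = μ • J0) : Case H := by
  classical
  have h2 := two_ne_zero_of_odd hodd
  have hne : ((1 : 𝕄)) ≠ 0 := by
    intro h
    have h' := congrFun (congrFun h (Sum.inl ⟨0, hm⟩)) (Sum.inl ⟨0, hm⟩)
    simp at h'
  have hJ : ∀ c : F, J0 ≠ c • (1 : 𝕄) := by
    intro c hc
    rw [hc, adj_smul, adj_one] at hadj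
    have h3 : ((2 : F) * c) • (1 : 𝕄) = 0 := by
      rw [two_mul, add_smul]; nth_rewrite 1 [hadj]; exact neg_add_cancel _
    rcases smul_eq_zero.1 h3 with h | h
    · rw [(mul_eq_zero.1 h).resolve_left h2, zero_smul] at hc
      rw [hc, mul_zero] at hsq
      rcases smul_eq_zero.1 hsq.symm with h | h
      · exact hδ h
      · exact hne h
    · exact hne h
  have hμ : ∀ g ∈ H, ∃ μ : F, cj g J0 = μ • J0 ∧ μ * μ = 1 := by
    intro g hg
    obtain ⟨μ, hμ⟩ := hnorm g hg
    refine ⟨μ, hμ, ?_⟩
    have h := congrArg (cj g) hsq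
    rw [map_mul, map_smul, map_one, hμ, Matrix.smul_mul, Matrix.mul_smul, smul_smul, hsq, smul_smul] at h
    have h' : (μ * μ * δ - δ) • (1 : 𝕄) = 0 := by rw [sub_smul, h, sub_self]
    refine mul_right_cancel₀ hδ ?_
    rw [one_mul]
    exact sub_eq_zero.1 ((smul_eq_zero.1 h').resolve_right hne)
  by_cases hs : IsSquare δ
  · obtain ⟨s, rfl⟩ := hs
    have hs0 : s ≠ 0 := fun h => hδ (by rw [h, mul_zero])
    refine case_swap hodd hm ((2 : F)⁻¹ • (1 + s⁻¹ • J0)) ?_ ?_ fun g hg => ?_
    · simp only [Matrix.smul_mul, Matrix.mul_smul, smul_smul, add_mul, mul_add, one_mul, mul_one, hsq,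
        smul_add]
      match_scalars <;> field_simp <;> ring
    · rw [adj_smul, adj_add, adj_one, adj_smul, hadj]
      match_scalars <;> field_simp <;> ring
    · obtain ⟨μ, hμ1, hμ2⟩ := hμ g hg
      rw [map_smul, map_add, map_one, map_smul, hμ1]
      rcases mul_self_eq_one_iff.1 hμ2 with rfl | rfl
      · left; rw [one_smul]
      · right
        match_scalars <;> field_simp <;> ring
  let K : Subalgebra F 𝕄 :=
    { carrier := {x | ∃ a b : F, x = a • (1 : 𝕄) + b • J0}
      one_mem' := ⟨1, 0, by simp⟩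
      mul_mem' := by
        rintro _ _ ⟨a, b, rfl⟩ ⟨c, d, rfl⟩
        refine ⟨a * c + b * d * δ, a * d + b * c, ?_⟩
        simp only [add_mul, mul_add, Matrix.smul_mul, Matrix.mul_smul, one_mul, mul_one, hsq, smul_smul]
        module
      zero_mem' := ⟨0, 0, by simp⟩
      add_mem' := by
        rintro _ _ ⟨a, b, rfl⟩ ⟨c, d, rfl⟩
        exact ⟨a + c, b + d, by module⟩
      algebraMap_mem' := fun c => ⟨c, 0, by simp [Algebra.algebraMap_eq_smul_one]⟩ }
  have hJK : J0 ∈ K := ⟨0, 1, by simp⟩
  have hindep : ∀ a b : F, a • (1 : 𝕄) + b • J0 = 0 → a = 0 ∧ b = 0 := by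
    intro a b h
    by_cases hb : b = 0
    · rw [hb, zero_smul, add_zero] at h
      exact ⟨(smul_eq_zero.1 h).resolve_right hne, hb⟩
    · refine absurd ?_ (hJ (-(b⁻¹ * a)))
      have h' := congrArg (b⁻¹ • ·) h
      simp only [smul_add, smul_smul, inv_mul_cancel₀ hb, one_smul, smul_zero] at h'
      rw [add_eq_zero_iff_eq_neg'] at h'
      rw [h', neg_smul]
  have hK : IsFieldSubalgebra 2 K := by
    refine ⟨?_, ?_, ?_⟩
    · rintro _ ⟨a, b, rfl⟩ _ ⟨c, d, rfl⟩
      simp only [add_mul, mul_add, Matrix.smul_mul, Matrix.mul_smul, one_mul, mul_one, smul_smul]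
      module
    · rintro _ ⟨a, b, rfl⟩ hx
      have hN : a * a - b * b * δ ≠ 0 := by
        intro h
        by_cases hb : b = 0
        · subst hb
          have ha : a = 0 := mul_self_eq_zero.1 (by linear_combination h)
          exact hx (by simp [ha])
        · exact hs ⟨a / b, by field_simp; linear_combination -h⟩
      refine ⟨(a / (a * a - b * b * δ)) • 1 + (-b / (a * a - b * b * δ)) • J0, ⟨_, _, rfl⟩, ?_⟩
      simp only [add_mul, mul_add, Matrix.smul_mul, Matrix.mul_smul, one_mul, mul_one, hsq, smul_smul]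
      have hN' : a ^ 2 - b ^ 2 * δ ≠ 0 := fun h => hN (by linear_combination h)
      match_scalars
      · linear_combination mul_inv_cancel₀ hN
      · ring
    · have hsp : Subalgebra.toSubmodule K = Submodule.span F (Set.range ![1, J0]) := by
        ext x
        rw [Matrix.range_cons, Matrix.range_cons, Matrix.range_empty, Set.union_empty,
          Set.singleton_union, Submodule.mem_span_pair]
        exact ⟨fun ⟨a, b, h⟩ => ⟨a, b, h.symm⟩, fun ⟨a, b, h⟩ => ⟨a, b, h.symm⟩⟩
      rw [← Subalgebra.finrank_toSubmodule, hsp, finrank_span_eq_card (LinearIndependent.pair_iff.2 hindep),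
        Fintype.card_fin]
  refine .unitary K hodd hK ?_ (fun hsa => ?_) (le_subalgebraNormalizer ?_)
  · rintro _ ⟨a, b, rfl⟩
    refine ⟨a • 1 + (-b) • J0, ⟨_, _, rfl⟩, fun u v => ?_⟩
    rw [adj_spec, adj_add, adj_smul, adj_smul, adj_one, hadj]
    congr 2
    module
  · refine hJ 0 ?_
    have h : adj J0 = J0 := mat_ext fun u v => by rw [← adj_spec, hsa J0 hJK]
    rw [hadj] at h
    have h3 : (2 : F) • J0 = 0 := by
      rw [two_smul]; nth_rewrite 1 [← h]; exact neg_add_cancel _
    rw [zero_smul]; exact (smul_eq_zero.1 h3).resolve_left h2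
  · rintro g hg _ ⟨a, b, rfl⟩
    obtain ⟨μ, hμ1, -⟩ := hμ g hg
    exact ⟨a, b * μ, by rw [map_add, map_smul, map_smul, map_one, hμ1, smul_smul]⟩

end CfsgLib.AschSp
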