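import Cfsg.Agent.Lib.AschSp.Rational
import Cfsg.Agent.Lib.AschSp.SkewElem
import Cfsg.Agent.Lib.Aschbacher.SympForms

/-!
The symplectic-type case: class 6, a subfield member, or an eigenspace pair of an element of the group.
-/

set_option autoImplicit false
set_option linter.unusedSectionVars false
set_option linter.style.haveILetI false

namespace CfsgLib.AschSp

open Matrix Cfsg.Geo CfsgLib.Aschbacher
open scoped MatrixGroups

variable {m : ℕ} {F : Type*} [Field F]

local notation "ιS" => (Fin m ⊕ Fin m)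
local notation "𝕄" => Matrix (Fin m ⊕ Fin m) (Fin m ⊕ Fin m) F
local notation "sf" => Cfsg.sympForm m F

theorem adj_mul_self_of_mem {g : GL ιS F} (hg : g ∈ Cfsg.spGL m F) : adj (g : 𝕄) * (g : 𝕄) = 1 :=
  mat_ext fun u v => by
    rw [← mulVec_mulVec, ← adj_spec, one_mulVec]
    exact hg u v

theorem adj_eq_inv_of_mem {g : GL ιS F} (hg : g ∈ Cfsg.spGL m F) :
    adj (g : 𝕄) = ((g⁻¹ : GL ιS F) : 𝕄) := by
  rw [← mul_one (adj (g : 𝕄)), ← g.mul_inv, ← mul_assoc, adj_mul_self_of_mem hg, one_mul]

theorem mem_spGL_of_adj {g : GL ιS F} (h : adj (g : 𝕄) * (g : 𝕄) = 1) : g ∈ Cfsg.spGL m F := by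
  intro u v
  show sf ((g : 𝕄) *ᵥ u) ((g : 𝕄) *ᵥ v) = sf u v
  rw [adj_spec, mulVec_mulVec, h, one_mulVec]

theorem one_ne_zero_mat (hm : 0 < m) : (1 : 𝕄) ≠ 0 := by
  intro h
  have h' := congrFun (congrFun h (Sum.inl ⟨0, hm⟩)) (Sum.inl ⟨0, hm⟩)
  simp at h'

theorem rank_two_of_adj {e : 𝕄} (hee : e * e = e) (hea : adj e = e) (he : e ≠ 0) :
    2 ≤ Module.finrank F (LinearMap.range (Matrix.toLin' e)) := by
  obtain ⟨v, hv, hv0⟩ : ∃ v, e *ᵥ v = v ∧ v ≠ 0 := by
    by_contra hcon
    push Not at hcon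
    refine he (Matrix.ext fun i j => ?_)
    have := hcon (e *ᵥ Pi.single j 1) (by rw [mulVec_mulVec, hee])
    simpa using congrFun this i
  obtain ⟨w, hw⟩ : ∃ w, sf v w ≠ 0 := by
    by_contra h; push Not at h; exact hv0 (form_sep_left h)
  have hw' : sf v (e *ᵥ w) ≠ 0 := by rw [adj_spec', hea, hv]; exact hw
  have hind : LinearIndependent F ![v, e *ᵥ w] := by
    rw [LinearIndependent.pair_iff]
    intro a b hab
    have hb : b = 0 := by
      have h := congrArg (fun z => sf v z) hab
      simp only [MaxSub.sympForm_add_right, MaxSub.sympForm_smul_right, MaxSub.sympForm_self, mul_zero,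
        zero_add, form_zero_right] at h
      exact (mul_eq_zero.1 h).resolve_right hw'
    rw [hb, zero_smul, add_zero] at hab
    exact ⟨(smul_eq_zero.1 hab).resolve_right hv0, hb⟩
  have hle : Submodule.span F (Set.range ![v, e *ᵥ w]) ≤ LinearMap.range (Matrix.toLin' e) := by
    rw [Submodule.span_le]
    rintro _ ⟨i, rfl⟩
    fin_cases i
    · exact ⟨v, hv⟩
    · exact ⟨w, rfl⟩
  have h := Submodule.finrank_mono hle
  rwa [finrank_span_eq_card hind, Fintype.card_fin] at h

/-- A commutative algebra generated by self-adjoint involutions has dimension at most `m`. -/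
theorem finrank_involutions_le (h2 : (2 : F) ≠ 0) (S : Set 𝕄) (hsq : ∀ b ∈ S, b * b = 1)
    (hadj : ∀ b ∈ S, adj b = b) (hcomm : ∀ a ∈ S, ∀ b ∈ S, a * b = b * a) :
    2 * Module.finrank F (Algebra.adjoin F S) ≤ 2 * m := by
  classical
  obtain ⟨A, hA⟩ : ∃ A, A = Algebra.adjoin F S := ⟨_, rfl⟩
  rw [← hA]
  have hAc : ∀ x ∈ A, ∀ b ∈ S, x * b = b * x := by
    intro x hx b hb
    rw [hA] at hx
    induction hx using Algebra.adjoin_induction with
    | mem x hx => exact hcomm x hx b hb
    | algebraMap r => exact Algebra.commutes r b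
    | add x y _ _ h1 h2 => rw [add_mul, mul_add, h1, h2]
    | mul x y _ _ h1 h2 => rw [mul_assoc, h2, ← mul_assoc, h1, mul_assoc]
  suffices ∀ (n : ℕ) (e : 𝕄), Module.finrank F (LinearMap.range (Matrix.toLin' e)) ≤ n →
      e * e = e → adj e = e → e ∈ A →
      2 * Module.finrank F (A.toSubmodule.map (LinearMap.mulRight F e)) ≤
        Module.finrank F (LinearMap.range (Matrix.toLin' e)) by
    have h := this (2 * m) 1 (by
      refine (Submodule.finrank_le _).trans ?_
      rw [Module.finrank_pi, Fintype.card_sum, Fintype.card_fin]; omega) (one_mul 1) adj_one A.one_mem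
    rw [LinearMap.mulRight_one, Submodule.map_id] at h
    refine h.trans ((Submodule.finrank_le _).trans ?_)
    rw [Module.finrank_pi, Fintype.card_sum, Fintype.card_fin]; omega
  intro n
  induction n with
  | zero =>
    intro e he hee hea heA
    have h0 : e = 0 := by
      by_contra h
      have := rank_two_of_adj hee hea h
      omega
    subst h0
    have hz : A.toSubmodule.map (LinearMap.mulRight F (0 : 𝕄)) = ⊥ := by
      rw [eq_bot_iff]; rintro _ ⟨x, -, rfl⟩; simp
    rw [hz, finrank_bot, mul_zero]; exact Nat.zero_le _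
  | succ n ih =>
    intro e he hee hea heA
    rcases eq_or_ne e 0 with rfl | he0
    · have hz : A.toSubmodule.map (LinearMap.mulRight F (0 : 𝕄)) = ⊥ := by
        rw [eq_bot_iff]; rintro _ ⟨x, -, rfl⟩; simp
      rw [hz, finrank_bot, mul_zero]; exact Nat.zero_le _
    by_cases hsc : ∀ b ∈ S, ∃ c : F, b * e = c • e
    · have hsc' : ∀ x ∈ A, ∃ c : F, x * e = c • e := by
        intro x hx
        rw [hA] at hx
        induction hx using Algebra.adjoin_induction with
        | mem x hx => exact hsc x hx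
        | algebraMap r => exact ⟨r, (Algebra.smul_def r e).symm⟩
        | add x y _ _ h1 h2 =>
          obtain ⟨a, ha⟩ := h1
          obtain ⟨b, hb⟩ := h2
          exact ⟨a + b, by rw [add_mul, ha, hb, add_smul]⟩
        | mul x y _ _ h1 h2 =>
          obtain ⟨a, ha⟩ := h1
          obtain ⟨b, hb⟩ := h2
          exact ⟨a * b, by rw [mul_assoc, hb, Matrix.mul_smul, ha, smul_smul, mul_comm a b]⟩
      have hle : A.toSubmodule.map (LinearMap.mulRight F e) ≤ Submodule.span F {e} := by
        rintro _ ⟨x, hx, rfl⟩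
        obtain ⟨c, hc⟩ := hsc' x hx
        exact Submodule.mem_span_singleton.2 ⟨c, hc.symm⟩
      have h1 := Submodule.finrank_mono hle
      rw [finrank_span_singleton he0] at h1
      have h2' := rank_two_of_adj hee hea he0
      omega
    push Not at hsc
    obtain ⟨b, hb, hbe⟩ := hsc
    have hbA : b ∈ A := hA ▸ Algebra.subset_adjoin hb
    have heb : e * b = b * e := hAc e heA b hb
    have hee' : ∀ x, e * (e * x) = e * x := fun x => by rw [← mul_assoc, hee]
    have heb' : ∀ x, b * (e * x) = e * (b * x) := fun x => by rw [← mul_assoc, ← heb, mul_assoc]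
    have hpart : ∀ s : F, s * s = 1 → ((2 : F)⁻¹ • (e + s • (e * b))) * ((2 : F)⁻¹ • (e + s • (e * b))) =
        (2 : F)⁻¹ • (e + s • (e * b)) ∧
        adj ((2 : F)⁻¹ • (e + s • (e * b))) = (2 : F)⁻¹ • (e + s • (e * b)) ∧
        (2 : F)⁻¹ • (e + s • (e * b)) ∈ A ∧
        e * ((2 : F)⁻¹ • (e + s • (e * b))) = (2 : F)⁻¹ • (e + s • (e * b)) := by
      intro s hs
      refine ⟨?_, ?_, ?_, ?_⟩
      · simp only [Matrix.smul_mul, Matrix.mul_smul, smul_smul, add_mul, mul_add, smul_add, mul_assoc, hee,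
          hee', ← heb, heb', hsq b hb, mul_one]
        match_scalars
        · field_simp; linear_combination hs
        · field_simp; ring
      · rw [adj_smul, adj_add, hea, adj_smul, adj_mul, hea, hadj b hb, ← heb]
      · exact Subalgebra.smul_mem _ (add_mem heA (Subalgebra.smul_mem _ (mul_mem heA hbA) _)) _
      · simp only [Matrix.mul_smul, mul_add, hee, hee']
    obtain ⟨p1, q1, r1, s1⟩ := hpart 1 (one_mul 1)
    obtain ⟨p2, q2, r2, s2⟩ := hpart (-1) (by ring)
    obtain ⟨e1, he1⟩ : ∃ x, x = (2 : F)⁻¹ • (e + (1 : F) • (e * b)) := ⟨_, rfl⟩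
    obtain ⟨e2, he2⟩ : ∃ x, x = (2 : F)⁻¹ • (e + (-1 : F) • (e * b)) := ⟨_, rfl⟩
    rw [← he1] at p1 q1 r1 s1
    rw [← he2] at p2 q2 r2 s2
    have hsum : e1 + e2 = e := by
      rw [he1, he2]
      match_scalars <;> field_simp <;> ring
    have horth : e1 * e2 = 0 := by
      have h : e1 * (e1 + e2) = e1 := by
        have h' := congrArg adj s1
        rw [adj_mul, q1, hea] at h'
        rw [hsum, h']
      rw [mul_add, p1] at h
      exact add_left_cancel (h.trans (add_zero e1).symm)
    have horth' : e2 * e1 = 0 := by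
      have h := congrArg adj horth
      rwa [adj_mul, q1, q2, adj_zero] at h
    have h1ne : e1 ≠ 0 := fun h => hbe (-1) (by
      rw [he1, smul_eq_zero, inv_eq_zero] at h
      have h' := h.resolve_left h2
      rw [one_smul, add_eq_zero_iff_eq_neg] at h'
      rw [← heb, neg_one_smul]
      conv_rhs => rw [h', neg_neg])
    have h2ne : e2 ≠ 0 := fun h => hbe 1 (by
      rw [he2, smul_eq_zero, inv_eq_zero] at h
      have h' := h.resolve_left h2
      rw [neg_one_smul, add_eq_zero_iff_eq_neg, neg_neg] at h'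
      rw [← heb, one_smul]
      exact h'.symm)
    have hrk : Module.finrank F (LinearMap.range (Matrix.toLin' e)) =
        Module.finrank F (LinearMap.range (Matrix.toLin' e1)) +
          Module.finrank F (LinearMap.range (Matrix.toLin' e2)) := by
      have hinf : LinearMap.range (Matrix.toLin' e1) ⊓ LinearMap.range (Matrix.toLin' e2) = ⊥ := by
        rw [Submodule.eq_bot_iff]
        rintro x ⟨⟨u, hu⟩, ⟨v, hv⟩⟩
        rw [Matrix.toLin'_apply] at hu hv
        have h1 : e1 *ᵥ x = x := by rw [← hu, mulVec_mulVec, p1]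
        rw [← h1, ← hv, mulVec_mulVec, horth, zero_mulVec]
      have hsup : LinearMap.range (Matrix.toLin' e1) ⊔ LinearMap.range (Matrix.toLin' e2) =
          LinearMap.range (Matrix.toLin' e) := by
        refine le_antisymm (sup_le ?_ ?_) ?_
        · rintro _ ⟨u, rfl⟩
          exact ⟨e1 *ᵥ u, by rw [Matrix.toLin'_apply, Matrix.toLin'_apply, mulVec_mulVec, s1]⟩
        · rintro _ ⟨u, rfl⟩
          exact ⟨e2 *ᵥ u, by rw [Matrix.toLin'_apply, Matrix.toLin'_apply, mulVec_mulVec, s2]⟩
        · rintro _ ⟨u, rfl⟩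
          rw [Matrix.toLin'_apply, ← hsum, add_mulVec]
          exact Submodule.mem_sup.2 ⟨_, ⟨u, rfl⟩, _, ⟨u, rfl⟩, rfl⟩
      have h := Submodule.finrank_sup_add_finrank_inf_eq (LinearMap.range (Matrix.toLin' e1))
        (LinearMap.range (Matrix.toLin' e2))
      rw [hinf, hsup, finrank_bot, add_zero] at h
      exact h
    have hle : A.toSubmodule.map (LinearMap.mulRight F e) ≤
        A.toSubmodule.map (LinearMap.mulRight F e1) ⊔ A.toSubmodule.map (LinearMap.mulRight F e2) := by
      rintro _ ⟨x, hx, rfl⟩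
      exact Submodule.mem_sup.2 ⟨_, ⟨x, hx, rfl⟩, _, ⟨x, hx, rfl⟩, by
        rw [LinearMap.mulRight_apply, LinearMap.mulRight_apply, LinearMap.mulRight_apply, ← mul_add, hsum]⟩
    have h3 := (Submodule.finrank_mono hle).trans (Submodule.finrank_add_le_finrank_add_finrank _ _)
    have hr1 := rank_two_of_adj p1 q1 h1ne
    have hr2 := rank_two_of_adj p2 q2 h2ne
    have i1 := ih e1 (by omega) p1 q1 r1
    have i2 := ih e2 (by omega) p2 q2 r2
    omega

theorem scalar_of_center {R : Subgroup (GL ιS F)} (halg : alg R = ⊤) {z : R} (hz : z ∈ Subgroup.center R) :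
    ∃ c : F, ((z : GL ιS F) : 𝕄) = c • (1 : 𝕄) := exists_scalar_of_center halg hz

/-- The invariants of an extraspecial group of isometries spanning the matrix algebra. -/
theorem symp_data [Fintype F] {R : Subgroup (GL ιS F)} (hm : 0 < m)
    (h2 : (2 : F) ≠ 0) (hR : R ≤ Cfsg.spGL m F) (halg : alg R = ⊤)
    (hc : ∀ x ∈ R, ∀ y ∈ R, (x : 𝕄) * (y : 𝕄) = (y : 𝕄) * (x : 𝕄) ∨
      (x : 𝕄) * (y : 𝕄) = -((y : 𝕄) * (x : 𝕄)))
    (hsq : ∀ x ∈ R, (x : 𝕄) * (x : 𝕄) = 1 ∨ (x : 𝕄) * (x : 𝕄) = -1)
    (hneg : ∃ z ∈ R, (z : 𝕄) = -1) {k : ℕ} (hcard : Nat.card R = 2 ^ (1 + 2 * k)) (hk : 2 ^ k = 2 * m) :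
    IsSymplecticTypeGroup 2 R ∧ Nat.card (Subgroup.center R) = 2 ∧ IsOfMinusType k R := by
  classical
  haveI : Nonempty ιS := ⟨Sum.inl ⟨0, hm⟩⟩
  have h1ne := one_ne_zero_mat (F := F) hm
  have h11 : (1 : 𝕄) ≠ -1 := by
    intro h
    have h' : (2 : F) • (1 : 𝕄) = 0 := by rw [two_smul]; nth_rewrite 1 [h]; exact neg_add_cancel _
    exact h1ne ((smul_eq_zero.1 h').resolve_left h2)
  obtain ⟨z₀, hz₀R, hz₀⟩ := hneg
  -- the centre
  have hcen : ∀ z : R, z ∈ Subgroup.center R ↔ z = 1 ∨ z = ⟨z₀, hz₀R⟩ := by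
    intro z
    constructor
    · intro hz
      obtain ⟨c, hcz⟩ := scalar_of_center halg hz
      have h := adj_mul_self_of_mem (hR z.2)
      rw [hcz, adj_smul, adj_one, Matrix.smul_mul, Matrix.one_mul, smul_smul] at h
      have h' : (c * c - 1) • (1 : 𝕄) = 0 := by rw [sub_smul, h, one_smul, sub_self]
      rcases mul_self_eq_one_iff.1 (sub_eq_zero.1 ((smul_eq_zero.1 h').resolve_right h1ne)) with rfl | rfl
      · exact Or.inl (Subtype.ext (Units.ext (by rw [hcz, one_smul]; rfl)))
      · exact Or.inr (Subtype.ext (Units.ext (by rw [hcz, neg_one_smul]; exact hz₀.symm)))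
    · rintro (rfl | rfl) <;> refine Subgroup.mem_center_iff.2 fun g => ?_
      · simp
      · exact Subtype.ext (Units.ext (by simp [hz₀]))
  have hcard2 : Nat.card (Subgroup.center R) = 2 := by
    have h : ((Subgroup.center R : Subgroup R) : Set R) = {1, ⟨z₀, hz₀R⟩} := Set.ext fun z => by
      simpa using hcen z
    rw [show Nat.card (Subgroup.center R) = Nat.card ((Subgroup.center R : Subgroup R) : Set R) from rfl, h,
      Nat.card_coe_set_eq, Set.ncard_pair]
    intro he
    refine h11 ?_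
    rw [← hz₀, ← congrArg (fun w : R => ((w : GL ιS F) : 𝕄)) he]
    rfl
  -- commutators
  have hcs : ∀ x ∈ R, ∀ y ∈ R, x * y * x⁻¹ * y⁻¹ ∈ scalars ιS F := by
    intro x hx y hy
    rcases hc x hx y hy with h | h
    · have : x * y = y * x := Units.ext h
      rw [this]; simp
    · refine (mem_scalars_iff _).2 ⟨-1, ?_⟩
      rw [Units.val_mul, Units.val_mul, Units.val_mul, h, Units.val_neg, Units.val_one, neg_one_smul]
      simp [mul_assoc]
  have hexp : ∀ x : R, x ^ 4 = 1 := by
    intro x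
    refine Subtype.ext (Units.ext ?_)
    rw [SubgroupClass.coe_pow, Units.val_pow_eq_pow_val, OneMemClass.coe_one, Units.val_one,
      show (4 : ℕ) = 2 + 2 from rfl, pow_add, pow_two]
    rcases hsq x x.2 with h | h <;> rw [h] <;> simp
  have hnc : ∃ x ∈ R, ∃ y ∈ R, (x : 𝕄) * (y : 𝕄) ≠ (y : 𝕄) * (x : 𝕄) := by
    by_contra hcon
    push Not at hcon
    refine not_commutative_alg_top (by rw [Fintype.card_sum, Fintype.card_fin]; omega) halg fun a ha b hb => ?_
    exact Units.ext (hcon a ha b hb)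
  have hsymp : IsSymplecticTypeGroup 2 R := by
    refine ⟨Nat.prime_two, IsPGroup.of_card hcard, fun A hA hAc => ?_, ?_⟩
    · by_cases hAZ : A ≤ Subgroup.center R
      · haveI : Fact (Nat.Prime 2) := ⟨Nat.prime_two⟩
        haveI : IsCyclic (Subgroup.center R) := isCyclic_of_prime_card hcard2
        exact isCyclic_of_injective (Subgroup.inclusion hAZ) (Subgroup.inclusion_injective hAZ)
      obtain ⟨x, hxA, hxc⟩ := SetLike.not_le_iff_exists.1 hAZ
      obtain ⟨y, hy⟩ : ∃ y : R, y * x ≠ x * y := by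
        by_contra h; push Not at h; exact hxc (Subgroup.mem_center_iff.2 h)
      -- the automorphism attached to an element with square minus one
      have hnoanti : ∀ a : R, ((a : GL ιS F) : 𝕄) * (x : GL ιS F) = -(((x : GL ιS F) : 𝕄) * (a : GL ιS F)) →
          ((a : GL ιS F) : 𝕄) * (a : GL ιS F) = 1 := by
        intro a hax
        refine (hsq a a.2).resolve_right fun ha => ?_
        let φ : R → R := fun u =>
          if ((u : GL ιS F) : 𝕄) * (a : GL ιS F) = ((a : GL ιS F) : 𝕄) * (u : GL ιS F) then u else u * a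
        have hmul : ∀ u v, φ (u * v) = φ u * φ v := by
          intro u v
          have hne : ∀ w : R, ¬ ((w : GL ιS F) : 𝕄) * (a : GL ιS F) = ((a : GL ιS F) : 𝕄) * (w : GL ιS F) →
              ((w : GL ιS F) : 𝕄) * (a : GL ιS F) = -(((a : GL ιS F) : 𝕄) * (w : GL ιS F)) := fun w hw =>
            (hc w w.2 a a.2).resolve_left hw
          simp only [φ, Subgroup.coe_mul, Units.val_mul]
          by_cases hu : ((u : GL ιS F) : 𝕄) * (a : GL ιS F) = ((a : GL ιS F) : 𝕄) * (u : GL ιS F) <;>
            by_cases hv : ((v : GL ιS F) : 𝕄) * (a : GL ιS F) = ((a : GL ιS F) : 𝕄) * (v : GL ιS F)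
          · rw [if_pos hu, if_pos hv, if_pos (by rw [mul_assoc, hv, ← mul_assoc, hu, mul_assoc])]
          · have hv' := hne v hv
            rw [if_pos hu, if_neg hv, if_neg, mul_assoc]
            intro h
            refine hv ((u : GL ιS F).isUnit.mul_left_cancel ?_)
            rw [← mul_assoc, ← mul_assoc, hu]
            simpa [mul_assoc] using h
          · have hu' := hne u hu
            rw [if_neg hu, if_pos hv, if_neg]
            · refine Subtype.ext (Units.ext ?_)
              simp only [Subgroup.coe_mul, Units.val_mul, mul_assoc, hv]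
            · intro h
              refine hu ((v : GL ιS F).isUnit.mul_right_cancel ?_)
              rw [mul_assoc, ← hv, ← mul_assoc]
              simpa [mul_assoc] using h
          · have hu' := hne u hu
            have hv' := hne v hv
            rw [if_neg hu, if_neg hv, if_pos]
            · refine Subtype.ext (Units.ext ?_)
              simp only [Subgroup.coe_mul, Units.val_mul]
              calc ((u : GL ιS F) : 𝕄) * (v : GL ιS F)
                  = ((u : GL ιS F) : 𝕄) * (-(((a : GL ιS F) : 𝕄) * (a : GL ιS F))) * (v : GL ιS F) := by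
                    rw [ha, neg_neg, mul_one]
                _ = _ := by
                    rw [hv']
                    simp [mul_assoc]
            · rw [mul_assoc, hv', mul_neg, ← mul_assoc, hu', neg_mul, neg_neg, mul_assoc]
        have hinv : ∀ u, φ (φ u) = if ((u : GL ιS F) : 𝕄) * (a : GL ιS F) = ((a : GL ιS F) : 𝕄) * (u : GL ιS F)
            then u else u * a * a := by
          intro u
          simp only [φ]
          split
          · next h => rfl
          · next h =>
            rw [if_neg]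
            intro h'
            refine h ((a : GL ιS F).isUnit.mul_right_cancel ?_)
            simpa [mul_assoc] using h'
        have hinj : Function.Injective φ := by
          intro u v huv
          have h := congrArg φ huv
          rw [hinv, hinv] at h
          have hinj4 : ∀ u : R, φ (φ (φ (φ u))) = u := by
            intro u
            rw [hinv (φ (φ u)), hinv u]
            by_cases hu : ((u : GL ιS F) : 𝕄) * (a : GL ιS F) = ((a : GL ιS F) : 𝕄) * (u : GL ιS F)
            · rw [if_pos hu, if_pos hu]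
            · rw [if_neg hu, if_neg]
              · have h4 := hexp a
                simp only [pow_succ, pow_zero, one_mul, mul_assoc] at h4 ⊢
                rw [h4, mul_one]
              · simp only [Subgroup.coe_mul, Units.val_mul]
                intro h'
                simp only [mul_assoc, ha, mul_neg, mul_one] at h'
                rw [neg_mul] at h'
                exact hu (neg_inj.1 h')
          rw [← hinj4 u, ← hinj4 v, huv]
        let φE : R ≃* R := MulEquiv.ofBijective (MonoidHom.mk' φ hmul)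
          (Finite.injective_iff_bijective.1 hinj)
        have hφA : φ x ∈ A := (SetLike.ext_iff.1 (hA.fixed φE) x).2 hxA
        have hax' : ¬ ((x : GL ιS F) : 𝕄) * (a : GL ιS F) = ((a : GL ιS F) : 𝕄) * (x : GL ιS F) := by
          intro h
          rw [← h] at hax
          have h' : (2 : F) • (((x : GL ιS F) : 𝕄) * (a : GL ιS F)) = 0 := by
            rw [two_smul]; nth_rewrite 1 [hax]; exact neg_add_cancel _
          exact ((x : GL ιS F).isUnit.mul (a : GL ιS F).isUnit).ne_zero ((smul_eq_zero.1 h').resolve_left h2)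
        simp only [φ, if_neg hax'] at hφA
        have haA : a ∈ A := by simpa using A.mul_mem (A.inv_mem hxA) hφA
        exact hax' (congrArg (fun w : A => (((w : R) : GL ιS F) : 𝕄))
          (hAc.is_comm.comm ⟨x, hxA⟩ ⟨a, haA⟩))
      have hyx : ((y : GL ιS F) : 𝕄) * (x : GL ιS F) = -(((x : GL ιS F) : 𝕄) * (y : GL ιS F)) :=
        (hc y y.2 x x.2).resolve_left fun h => hy (Subtype.ext (Units.ext h))
      have hy1 := hnoanti y hyx
      have hx1 : ((x : GL ιS F) : 𝕄) * (x : GL ιS F) = -1 := by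
        have h := hnoanti (y * x) (by
          simp only [Subgroup.coe_mul, Units.val_mul]
          nth_rewrite 1 [hyx]
          rw [neg_mul, mul_assoc ((x : GL ιS F) : 𝕄)])
        simp only [Subgroup.coe_mul, Units.val_mul] at h
        refine (hsq x x.2).resolve_left fun hx => h11 ?_
        nth_rewrite 1 [hyx] at h
        rw [neg_mul, mul_assoc, ← mul_assoc ((y : GL ιS F) : 𝕄) (y : GL ιS F).1, hy1, one_mul, hx] at h
        exact h.symm
      have hsimple : ∀ z : R, ((z : GL ιS F) : 𝕄) * (x : GL ιS F) = ((x : GL ιS F) : 𝕄) * (z : GL ιS F) →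
          ((z : GL ιS F) : 𝕄) * (y : GL ιS F) = ((y : GL ιS F) : 𝕄) * (z : GL ιS F) → z ∈ Subgroup.center R := by
        have hsqz : ∀ z : R, ((z : GL ιS F) : 𝕄) * (x : GL ιS F) = ((x : GL ιS F) : 𝕄) * (z : GL ιS F) →
            ∀ u : R, ((u : GL ιS F) : 𝕄) * (x : GL ιS F) = -(((x : GL ιS F) : 𝕄) * (u : GL ιS F)) →
            (((u : GL ιS F) : 𝕄) * (z : GL ιS F) = ((z : GL ιS F) : 𝕄) * (u : GL ιS F) →
              ((z : GL ιS F) : 𝕄) * (z : GL ιS F) = 1) ∧
            (((u : GL ιS F) : 𝕄) * (z : GL ιS F) = -(((z : GL ιS F) : 𝕄) * (u : GL ιS F)) →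
              ((z : GL ιS F) : 𝕄) * (z : GL ιS F) = -1) := by
          intro z hzx u hu
          have h := hnoanti (u * z) (by
            simp only [Subgroup.coe_mul, Units.val_mul]
            rw [mul_assoc, hzx, ← mul_assoc, hu, neg_mul, mul_assoc])
          have hu1 := hnoanti u hu
          simp only [Subgroup.coe_mul, Units.val_mul] at h
          refine ⟨fun he => ?_, fun he => ?_⟩
          · rw [mul_assoc, ← mul_assoc ((z : GL ιS F) : 𝕄), ← he] at h
            rw [← mul_assoc, ← mul_assoc, hu1, one_mul] at h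
            exact h
          · have he' : ((z : GL ιS F) : 𝕄) * (u : GL ιS F) = -(((u : GL ιS F) : 𝕄) * (z : GL ιS F)) := by
              rw [he, neg_neg]
            rw [mul_assoc, ← mul_assoc ((z : GL ιS F) : 𝕄), he', neg_mul, mul_neg, ← mul_assoc,
              ← mul_assoc, hu1, one_mul] at h
            rw [← h, neg_neg]
        intro z hzx hzy
        have hz1 := (hsqz z hzx y hyx).1 hzy.symm
        refine Subgroup.mem_center_iff.2 fun w => Subtype.ext (Units.ext ?_)
        simp only [Subgroup.coe_mul, Units.val_mul]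
        -- `z` commutes with every element anticommuting with `x`
        have hanti : ∀ u : R, ((u : GL ιS F) : 𝕄) * (x : GL ιS F) = -(((x : GL ιS F) : 𝕄) * (u : GL ιS F)) →
            ((u : GL ιS F) : 𝕄) * (z : GL ιS F) = ((z : GL ιS F) : 𝕄) * (u : GL ιS F) := fun u hu =>
          (hc u u.2 z z.2).resolve_right fun h => h11 (hz1.symm.trans ((hsqz z hzx u hu).2 h))
        rcases hc w w.2 x x.2 with h | h
        · have h3 := hanti (w * y) (by
            simp only [Subgroup.coe_mul, Units.val_mul]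
            rw [mul_assoc, hyx, mul_neg, ← mul_assoc, h, mul_assoc])
          simp only [Subgroup.coe_mul, Units.val_mul] at h3
          refine (y : GL ιS F).isUnit.mul_right_cancel ?_
          rw [mul_assoc, hzy, ← mul_assoc, h3, mul_assoc]
        · exact hanti w h
      refine ⟨⟨⟨x, hxA⟩, fun z => ?_⟩⟩
      have hzx : (((z : R) : GL ιS F) : 𝕄) * (x : GL ιS F) = ((x : GL ιS F) : 𝕄) * ((z : R) : GL ιS F) :=
        congrArg (fun w : A => (((w : R) : GL ιS F) : 𝕄)) (hAc.is_comm.comm z ⟨x, hxA⟩)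
      have hx2 : x * x = ⟨z₀, hz₀R⟩ := Subtype.ext (Units.ext (by
        simp only [Subgroup.coe_mul, Units.val_mul]; rw [hx1, hz₀]))
      have hpow : ∀ w : R, w ∈ Subgroup.center R → ∃ n : ℕ, x ^ n = w := fun w hw => by
        rcases (hcen w).1 hw with rfl | rfl
        · exact ⟨0, pow_zero x⟩
        · exact ⟨2, by rw [pow_two, hx2]⟩
      obtain ⟨n, hn⟩ : ∃ n : ℕ, x ^ n = (z : R) := by
        rcases hc (z : R) (z : R).2 y y.2 with h | h
        · exact hpow _ (hsimple _ hzx h)
        · obtain ⟨n, hn⟩ := hpow ((z : R) * x) (hsimple _ (by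
            simp only [Subgroup.coe_mul, Units.val_mul]; rw [← mul_assoc ((x : GL ιS F) : 𝕄), ← hzx]) (by
            simp only [Subgroup.coe_mul, Units.val_mul]
            rw [mul_assoc, show ((x : GL ιS F) : 𝕄) * (y : GL ιS F) =
              -(((y : GL ιS F) : 𝕄) * (x : GL ιS F)) by rw [hyx, neg_neg], mul_neg, ← mul_assoc, h, neg_mul,
              neg_neg, mul_assoc]))
          refine ⟨n + 3, ?_⟩
          have h4 := hexp x
          rw [pow_add, hn, mul_assoc, ← pow_succ', h4, mul_one]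
      exact ⟨n, Subtype.ext (by simp [hn])⟩
    · refine Nat.dvd_antisymm (Monoid.exponent_dvd_of_forall_pow_eq_one fun x => hexp x) ?_
      have hd : Monoid.exponent R ∣ 4 := Monoid.exponent_dvd_of_forall_pow_eq_one hexp
      have h2' : ¬ Monoid.exponent R ∣ 2 := by
        intro h
        obtain ⟨x, hx, y, hy, hxy⟩ := hnc
        refine hxy ?_
        have hs : ∀ u : R, u⁻¹ = u := fun u => inv_eq_of_mul_eq_one_left (by
          rw [← pow_two]; exact Monoid.exponent_dvd_iff_forall_pow_eq_one.1 h u)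
        have hcm : (⟨x, hx⟩ : R) * ⟨y, hy⟩ = ⟨y, hy⟩ * ⟨x, hx⟩ := by
          have h' := hs (⟨x, hx⟩ * ⟨y, hy⟩)
          rw [_root_.mul_inv_rev, hs, hs] at h'
          exact h'.symm
        exact congrArg (fun w : R => ((w : GL ιS F) : 𝕄)) hcm
      obtain ⟨i, hi, he⟩ := (Nat.dvd_prime_pow Nat.prime_two).1 (show Monoid.exponent R ∣ 2 ^ 2 from hd)
      interval_cases i <;> simp_all
  have hminus : IsOfMinusType k R := by
    intro A hAc hA1
    by_contra hlt
    push Not at hlt
    haveI : Fintype A := Fintype.ofFinite _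
    let S : Set 𝕄 := (fun a : R => ((a : GL ιS F) : 𝕄)) '' (A : Set R)
    have hb := finrank_involutions_le h2 S
      (by rintro _ ⟨a, ha, rfl⟩; exact congrArg (fun w : R => ((w : GL ιS F) : 𝕄)) (hA1 a ha))
      (by
        rintro _ ⟨a, ha, rfl⟩
        show adj ((a : GL ιS F) : 𝕄) = ((a : GL ιS F) : 𝕄)
        rw [adj_eq_inv_of_mem (hR a.2)]
        exact Units.inv_eq_of_mul_eq_one_right (congrArg (fun w : R => ((w : GL ιS F) : 𝕄)) (hA1 a ha)))
      (by
        rintro _ ⟨a, ha, rfl⟩ _ ⟨b, hb, rfl⟩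
        exact congrArg (fun w : A => (((w : R) : GL ιS F) : 𝕄)) (hAc.is_comm.comm ⟨a, ha⟩ ⟨b, hb⟩))
    let q : A → R ⧸ Subgroup.center R := fun a => QuotientGroup.mk (a : R)
    obtain ⟨T, hT⟩ : ∃ T, T = (Finset.univ : Finset A).image q := ⟨_, rfl⟩
    have hcardA : Nat.card A ≤ 2 * T.card := by
      rw [Nat.card_eq_fintype_card, ← Finset.card_univ, hT]
      refine Finset.card_le_mul_card_image _ 2 fun b _ => ?_
      by_cases hne : ((Finset.univ : Finset A).filter fun a => q a = b).Nonempty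
      swap
      · rw [Finset.not_nonempty_iff_eq_empty.1 hne]; simp
      obtain ⟨a₀, ha₀⟩ := hne
      rw [Finset.mem_filter] at ha₀
      refine le_trans (Finset.card_le_card_of_injOn (fun a => ((a₀ : R))⁻¹ * (a : R))
        (t := ({1, ⟨z₀, hz₀R⟩} : Finset R)) (fun a ha => ?_) fun a _ b _ hab => Subtype.ext (mul_left_cancel hab))
        Finset.card_le_two
      simp only [Finset.coe_filter, Set.mem_setOf_eq] at ha
      have := (hcen _).1 (QuotientGroup.eq.1 (ha₀.2.trans ha.2.symm))
      simpa using this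
    have hTA : ∀ Q ∈ T, (((Q.out : R) : GL ιS F) : 𝕄) ∈ Algebra.adjoin F S := by
      intro Q hQ
      rw [hT] at hQ
      obtain ⟨a, -, rfl⟩ := Finset.mem_image.1 hQ
      obtain ⟨z, hz, hze⟩ := exists_center_mul_out (a : R)
      have hm' : (((a : R) : GL ιS F) : 𝕄) ∈ Algebra.adjoin F S := Algebra.subset_adjoin ⟨a, a.2, rfl⟩
      obtain ⟨c, hcz⟩ := scalar_of_center halg hz
      have h := congrArg (fun w : R => ((w : GL ιS F) : 𝕄)) hze
      simp only [Subgroup.coe_mul, Units.val_mul, hcz, Matrix.smul_mul, Matrix.one_mul] at h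
      have hc0 : c ≠ 0 := fun h0 => (z : GL ιS F).ne_zero (by rw [hcz, h0, zero_smul])
      have h' := Subalgebra.smul_mem _ hm' c⁻¹
      rw [h, smul_smul, inv_mul_cancel₀ hc0, one_smul] at h'
      exact h'
    have hli := (linearIndependent_reps hcs).comp (fun Q : T => (Q : R ⧸ Subgroup.center R)) Subtype.val_injective
    have hTle : T.card ≤ Module.finrank F (Algebra.adjoin F S) := by
      rw [← Fintype.card_coe T, ← finrank_span_eq_card hli, ← Subalgebra.finrank_toSubmodule]
      refine Submodule.finrank_mono (Submodule.span_le.2 ?_)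
      rintro _ ⟨Q, rfl⟩
      exact hTA _ Q.2
    rw [pow_succ'] at hlt
    have := pow_pos (show 0 < 2 by omega) k
    omega
  exact ⟨hsymp, hcard2, hminus⟩

/-- An extraspecial group of isometries normalised by `H`: class 6 or a subfield member. -/
theorem symp_core [Fintype F] {H G R : Subgroup (GL ιS F)} (hHG : H ≤ G) (hm : 0 < m)
    (h2 : (2 : F) ≠ 0) (hN : Normalized G R) (hR : R ≤ Cfsg.spGL m F) (halg : alg R = ⊤)
    (hc : ∀ x ∈ R, ∀ y ∈ R, (x : 𝕄) * (y : 𝕄) = (y : 𝕄) * (x : 𝕄) ∨
      (x : 𝕄) * (y : 𝕄) = -((y : 𝕄) * (x : 𝕄)))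
    (hsq : ∀ x ∈ R, (x : 𝕄) * (x : 𝕄) = 1 ∨ (x : 𝕄) * (x : 𝕄) = -1)
    (hneg : ∃ z ∈ R, (z : 𝕄) = -1) {k : ℕ} (hcard : Nat.card R = 2 ^ (1 + 2 * k)) (hk : 2 ^ k = 2 * m) :
    Case H := by
  classical
  haveI : Nonempty ιS := ⟨Sum.inl ⟨0, hm⟩⟩
  obtain ⟨hsymp, hcard2, hminus⟩ := symp_data hm h2 hR halg hc hsq hneg hcard hk
  obtain ⟨z₀, hz₀R, hz₀⟩ := hneg
  have h1ne := one_ne_zero_mat (F := F) hm
  -- the centre
  have hcen : ∀ z : R, z ∈ Subgroup.center R ↔ z = 1 ∨ z = ⟨z₀, hz₀R⟩ := by
    intro z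
    constructor
    · intro hz
      obtain ⟨c, hcz⟩ := scalar_of_center halg hz
      have h := adj_mul_self_of_mem (hR z.2)
      rw [hcz, adj_smul, adj_one, Matrix.smul_mul, Matrix.one_mul, smul_smul] at h
      have h' : (c * c - 1) • (1 : 𝕄) = 0 := by rw [sub_smul, h, one_smul, sub_self]
      rcases mul_self_eq_one_iff.1 (sub_eq_zero.1 ((smul_eq_zero.1 h').resolve_right h1ne)) with rfl | rfl
      · exact Or.inl (Subtype.ext (Units.ext (by rw [hcz, one_smul]; rfl)))
      · exact Or.inr (Subtype.ext (Units.ext (by rw [hcz, neg_one_smul]; exact hz₀.symm)))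
    · rintro (rfl | rfl) <;> refine Subgroup.mem_center_iff.2 fun g => ?_
      · simp
      · exact Subtype.ext (Units.ext (by simp [hz₀]))
  -- commutators
  have hcs : ∀ x ∈ R, ∀ y ∈ R, x * y * x⁻¹ * y⁻¹ ∈ scalars ιS F := by
    intro x hx y hy
    rcases hc x hx y hy with h | h
    · have : x * y = y * x := Units.ext h
      rw [this]; simp
    · refine (mem_scalars_iff _).2 ⟨-1, ?_⟩
      rw [Units.val_mul, Units.val_mul, Units.val_mul, h, Units.val_neg, Units.val_one, neg_one_smul]
      simp [mul_assoc]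
  have hq : Odd (Fintype.card F) := by
    by_contra h; exact h2 (two_eq_zero_of_not_odd h)
  obtain ⟨p, hp⟩ := CharP.exists F
  have hpp : Fact p.Prime := ⟨CharP.char_is_prime F p⟩
  obtain ⟨a, -, ha⟩ := FiniteField.card F p
  by_cases hFp : Fintype.card F = p
  · refine .symp R p k hsymp (absIrred_of_alg_top halg) (hR.trans spGL_le_similarityGroup) hpp.out
      (hFp ▸ hq) hFp hcard hcard2 hminus hk hc hR ((hHG.trans ?_))
    intro g hg
    rw [subgroupNormalizer, Subgroup.mem_normalizer_iff]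
    refine fun x => ⟨fun hx => hN g hg x hx, fun hx => ?_⟩
    simpa [mul_assoc] using hN g⁻¹ (G.inv_mem hg) _ hx
  obtain ⟨F₀, hF₀, -⟩ := exists_subfield_card (F := F) hpp.out.one_lt (k := a) ha
  have h₀ : F₀ ≠ ⊤ := by
    intro htop
    refine hFp ?_
    rw [← hF₀, htop, Nat.card_congr Subfield.topEquiv.toEquiv, Nat.card_eq_fintype_card]
  refine case_subfield hHG hm hN hR halg h₀ ?_
  haveI : Fintype (R ⧸ Subgroup.center R) := Fintype.ofFinite _
  refine realisable_of_span halg F₀ (κ := R ⧸ Subgroup.center R) ?_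
    (fun Q => (((Q.out : R) : GL ιS F) : 𝕄)) fun x hx => ?_
  · have B : Module.Basis (R ⧸ Subgroup.center R) F 𝕄 :=
      Module.Basis.mk (linearIndependent_reps hcs) (span_reps halg)
    rw [← Module.finrank_eq_card_basis B, Module.finrank_matrix, Module.finrank_self, mul_one]
  · obtain ⟨z, hz, hxz⟩ := exists_center_mul_out (⟨x, hx⟩ : R)
    have h := congrArg (fun w : R => ((w : GL ιS F) : 𝕄)) hxz
    simp only [Subgroup.coe_mul, Units.val_mul] at h
    rw [h]
    have hmem := Submodule.subset_span (R := F₀)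
      (show (((((QuotientGroup.mk (⟨x, hx⟩ : R) : R ⧸ Subgroup.center R).out : R) : GL ιS F)) : 𝕄) ∈
        Set.range fun Q : R ⧸ Subgroup.center R => (((Q.out : R) : GL ιS F) : 𝕄) from ⟨_, rfl⟩)
    rcases (hcen z).1 hz with rfl | rfl
    · simpa using hmem
    · rw [hz₀, neg_one_mul]; exact neg_mem hmem

set_option maxHeartbeats 1000000 in
/-- The symplectic-type case of the core theorem. -/
theorem case_sympType [Fintype F] {H G : Subgroup (GL ιS F)} (hH : H ≤ Cfsg.spGL m F) (hHG : H ≤ G)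
    (hG : G ≤ similarityGroup (Cfsg.sympForm m F)) (hm : 0 < m) {r k : ℕ} {R : Subgroup (GL ιS F)}
    (hRG : R ≤ G) (hN : Normalized G R) (hdata : IsSympData r k R) : Case H := by
  classical
  haveI : Nonempty ιS := ⟨Sum.inl ⟨0, hm⟩⟩
  have hk : Fintype.card ιS = r ^ k := hdata.card_index
  rw [Fintype.card_sum, Fintype.card_fin] at hk
  obtain rfl : r = 2 := by
    have h : 2 ∣ r ^ k := ⟨m, by omega⟩
    exact ((Nat.prime_dvd_prime_iff_eq Nat.prime_two hdata.symplecticType.prime).1
      (Nat.prime_two.dvd_of_dvd_pow h)).symm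
  have h2 : (2 : F) ≠ 0 := by simpa using hdata.cast_ne_zero
  have hodd : Odd (Fintype.card F) := by
    by_contra h; exact h2 (two_eq_zero_of_not_odd h)
  have h1ne := one_ne_zero_mat (F := F) hm
  have halg := hdata.alg_top
  have hpow : ∀ x ∈ R, (x : 𝕄) * x * (x * x) = 1 := by
    intro x hx
    have h := congrArg Units.val (hdata.pow_eq_one x hx)
    simp only [Units.val_pow_eq_pow_val, Units.val_one] at h
    norm_num [pow_succ] at h
    simpa [mul_assoc] using h
  have hc : ∀ x ∈ R, ∀ y ∈ R, ∃ c : F, c * c = 1 ∧ (x : 𝕄) * y = c • ((y : 𝕄) * x) := by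
    intro x hx y hy
    obtain ⟨c, hc⟩ := (mem_scalars_iff _).1 (hdata.commutator_scalar x hx y hy)
    have hxy : (x : 𝕄) * y = (c : F) • ((y : 𝕄) * x) := by
      have e : x * y = x * y * x⁻¹ * y⁻¹ * (y * x) := by group
      rw [← Units.val_mul, e, Units.val_mul, hc, Units.val_mul, Matrix.smul_mul, Matrix.one_mul]
    refine ⟨c, ?_, hxy⟩
    have hzc : ∀ w, (x * y * x⁻¹ * y⁻¹) * w = w * (x * y * x⁻¹ * y⁻¹) :=
      scalars_commute (hdata.commutator_scalar x hx y hy)
    have h := mul_pow_of_central hzc (show x * y = (x * y * x⁻¹ * y⁻¹) * (y * x) by group) 4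
    have hp : ∀ u ∈ R, u ^ 4 = 1 := fun u hu => by simpa using hdata.pow_eq_one u hu
    rw [hp _ (R.mul_mem hy hx), hp y hy, hp x hx, one_mul, mul_one] at h
    have h6 := congrArg Units.val h
    simp only [Units.val_one, Units.val_pow_eq_pow_val, hc, smul_pow, one_pow] at h6
    have hc4 : (c : F) ^ 4 = 1 := by
      have h4 := congrArg Units.val (hp (x * y * x⁻¹ * y⁻¹)
        (R.mul_mem (R.mul_mem (R.mul_mem hx hy) (R.inv_mem hx)) (R.inv_mem hy)))
      rw [Units.val_pow_eq_pow_val, hc, smul_pow, one_pow, Units.val_one] at h4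
      exact smul_left_injective F h1ne (h4.trans (one_smul F 1).symm)
    have hc6 : (c : F) ^ 6 = 1 := by
      have h6' : (c : F) ^ 6 • (1 : 𝕄) = (1 : F) • 1 := by rw [one_smul]; exact h6.symm
      exact smul_left_injective F h1ne h6'
    linear_combination hc6 - (c : F) ^ 2 * hc4
  have hc' : ∀ x ∈ R, ∀ y ∈ R, (x : 𝕄) * (y : 𝕄) = (y : 𝕄) * (x : 𝕄) ∨
      (x : 𝕄) * (y : 𝕄) = -((y : 𝕄) * (x : 𝕄)) := by
    intro x hx y hy
    obtain ⟨c, hc1, hxy⟩ := hc x hx y hy
    rcases mul_self_eq_one_iff.1 hc1 with rfl | rfl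
    · left; rw [hxy, one_smul]
    · right; rw [hxy, neg_one_smul]
  have hsq : ∀ x ∈ R, (x : 𝕄) * x = 1 ∨ (x : 𝕄) * x = -1 := by
    intro x hx
    obtain ⟨a, ha⟩ := scalar_of_commute halg (y := (x : 𝕄) * x) fun y hy => by
      show _ * _ = _ * _
      rcases hc' y hy x hx with h | h <;>
      · rw [← mul_assoc, h]
        first
          | rw [mul_assoc, h, ← mul_assoc]
          | rw [neg_mul, mul_assoc, h, mul_neg, neg_neg, ← mul_assoc]
    have h := hpow x hx
    rw [ha, Matrix.smul_mul, Matrix.one_mul, smul_smul] at h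
    rcases mul_self_eq_one_iff.1 (smul_left_injective F h1ne (h.trans (one_smul F 1).symm)) with rfl | rfl
    · left; rw [ha, one_smul]
    · right; rw [ha, neg_one_smul]
  have hlam : ∀ x ∈ R, ∃ l : F, l * l = 1 ∧ adj (x : 𝕄) * (x : 𝕄) = l • 1 := by
    intro x hx
    obtain ⟨l, hl0, hl⟩ := adj_similitude (hG (hRG hx))
    have hl' : adj (x : 𝕄) * (x : 𝕄) = l • 1 := by
      rw [hl, Matrix.smul_mul, ← Units.val_mul, inv_mul_cancel, Units.val_one]
    refine ⟨l, ?_, hl'⟩
    rcases hsq x hx with h | h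
    · have h' : adj ((x : 𝕄) * (x : 𝕄)) * ((x : 𝕄) * (x : 𝕄)) = (l * l) • 1 := by
        rw [adj_mul, mul_assoc, ← mul_assoc (adj (x : 𝕄)) (x : 𝕄) (x : 𝕄), hl', Matrix.smul_mul, one_mul,
          Matrix.mul_smul, hl', smul_smul]
      rw [h, adj_one, one_mul] at h'
      exact smul_left_injective F h1ne (h'.symm.trans (one_smul F 1).symm)
    · have h' : adj ((x : 𝕄) * (x : 𝕄)) * ((x : 𝕄) * (x : 𝕄)) = (l * l) • 1 := by
        rw [adj_mul, mul_assoc, ← mul_assoc (adj (x : 𝕄)) (x : 𝕄) (x : 𝕄), hl', Matrix.smul_mul, one_mul,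
          Matrix.mul_smul, hl', smul_smul]
      rw [h, ← neg_one_smul F (1 : 𝕄), adj_smul, adj_one, Matrix.smul_mul, Matrix.one_mul, smul_smul] at h'
      rw [← smul_left_injective F h1ne h']
      ring
  choose lam hlam1 hlam2 using fun x : R => hlam x x.2
  have hlam_mul : ∀ x y : R, lam (x * y) = lam x * lam y := by
    intro x y
    refine smul_left_injective F h1ne ?_
    show lam (x * y) • (1 : 𝕄) = (lam x * lam y) • 1
    rw [← hlam2, Subgroup.coe_mul, Units.val_mul, adj_mul, mul_assoc,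
      ← mul_assoc (adj ((x : GL ιS F) : 𝕄)), hlam2, Matrix.smul_mul, one_mul, Matrix.mul_smul, hlam2,
      smul_smul]
  have hlam_sp : ∀ x : R, lam x = 1 ↔ (x : GL ιS F) ∈ Cfsg.spGL m F := by
    intro x
    refine ⟨fun h => mem_spGL_of_adj (by rw [hlam2, h, one_smul]), fun h => ?_⟩
    exact smul_left_injective F h1ne (((hlam2 x).symm.trans (adj_mul_self_of_mem h)).trans (one_smul F 1).symm)
  obtain ⟨z₀, hz₀R, hz₀⟩ : ∃ z ∈ R, (z : 𝕄) = -1 := by
    let u : GL ιS F := ⟨-1, -1, by simp, by simp⟩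
    exact ⟨u, hdata.scalar_mem u ((mem_scalars_iff u).2 ⟨-1, by simp [u]⟩)
      (Units.ext (by simp [u, Even.neg_one_pow (show Even 4 by decide)])), rfl⟩
  have hlz : lam ⟨z₀, hz₀R⟩ = 1 := by
    refine smul_left_injective F h1ne ?_
    show lam ⟨z₀, hz₀R⟩ • (1 : 𝕄) = (1 : F) • 1
    rw [← hlam2, one_smul, hz₀, ← neg_one_smul F (1 : 𝕄), adj_smul, adj_one]
    simp
  have hz₀c : (⟨z₀, hz₀R⟩ : R) ∈ Subgroup.center R :=
    Subgroup.mem_center_iff.2 fun g => Subtype.ext (Units.ext (by simp [hz₀]))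
  by_cases hi : ∃ z : R, z ∈ Subgroup.center R ∧ lam z = -1
  · obtain ⟨z, hzc, hzl⟩ := hi
    obtain ⟨c, hcz⟩ := scalar_of_center halg hzc
    have hR0 : R ⊓ Cfsg.spGL m F ≤ R := inf_le_left
    have hN0 : Normalized G (R ⊓ Cfsg.spGL m F) := by
      intro g hg x hx
      refine ⟨hN g hg x hx.1, mem_spGL_of_adj ?_⟩
      rw [← cj_coe, adj_cj (hG hg), ← map_mul, adj_mul_self_of_mem hx.2, map_one]
    have halg0 : alg (R ⊓ Cfsg.spGL m F) = ⊤ := by
      rw [eq_top_iff, ← halg]
      refine Algebra.adjoin_le ?_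
      rintro _ ⟨x, hx, rfl⟩
      rcases mul_self_eq_one_iff.1 (hlam1 ⟨x, hx⟩) with h | h
      · exact coe_mem_alg ⟨hx, (hlam_sp ⟨x, hx⟩).1 h⟩
      · have hmem : ((⟨x, hx⟩ * z : R) : GL ιS F) ∈ R ⊓ Cfsg.spGL m F :=
          ⟨SetLike.coe_mem _, (hlam_sp _).1 (by rw [hlam_mul, h, hzl]; ring)⟩
        have hc0 : c ≠ 0 := fun h0 => (z : GL ιS F).ne_zero (by rw [hcz, h0, zero_smul])
        have h' := Subalgebra.smul_mem _ (coe_mem_alg hmem) c⁻¹
        rw [Subgroup.coe_mul, Units.val_mul, hcz, Matrix.mul_smul, mul_one, smul_smul, inv_mul_cancel₀ hc0,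
          one_smul] at h'
        exact h'
    have hcard4 : Nat.card (Subgroup.center R) = 4 := by
      rcases hdata.center_cases with ⟨ho, -⟩ | ⟨-, h | h⟩
      · exact absurd ho (by decide)
      · exfalso
        have hne : (⟨z₀, hz₀R⟩ : R) ≠ 1 := fun he => by
          have h' := congrArg (fun w : R => ((w : GL ιS F) : 𝕄)) he
          simp only [hz₀, OneMemClass.coe_one, Units.val_one] at h'
          have h3 : (2 : F) • (1 : 𝕄) = 0 := by rw [two_smul]; nth_rewrite 1 [← h']; exact neg_add_cancel _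
          exact h1ne ((smul_eq_zero.1 h3).resolve_left h2)
        have hl1 : lam 1 = 1 := (hlam_sp 1).2 (Cfsg.spGL m F).one_mem
        have hm1 : (-1 : F) ≠ 1 := fun h => h2 (by linear_combination -h)
        have hsub : ({1, ⟨z₀, hz₀R⟩, z} : Set R) ⊆ (Subgroup.center R : Set R) := by
          rintro w (rfl | rfl | rfl)
          · exact Subgroup.one_mem _
          · exact hz₀c
          · exact hzc
        have h3 := Set.ncard_le_ncard hsub
        rw [← Nat.card_coe_set_eq (Subgroup.center R : Set R)] at h3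
        change _ ≤ Nat.card (Subgroup.center R) at h3
        rw [Set.ncard_eq_three.2 ⟨1, ⟨z₀, hz₀R⟩, z, hne.symm, fun he => hm1 (by rw [← hzl, ← he, hl1]),
          fun he => hm1 (by rw [← hzl, ← he, hlz]), rfl⟩, h] at h3
        omega
      · exact h
    refine symp_core hHG hm h2 hN0 inf_le_right halg0 (fun x hx y hy => hc' x hx.1 y hy.1)
      (fun x hx => hsq x hx.1) ⟨z₀, ⟨hz₀R, (hlam_sp _).1 hlz⟩, hz₀⟩ (k := k) ?_ (by omega)
    let χ : R →* Fˣ :=
      { toFun := fun x => ⟨lam x, lam x, hlam1 x, hlam1 x⟩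
        map_one' := Units.ext ((hlam_sp 1).2 (Cfsg.spGL m F).one_mem)
        map_mul' := fun x y => Units.ext (hlam_mul x y) }
    have hker : χ.ker = (Cfsg.spGL m F).subgroupOf R := by
      ext x
      rw [MonoidHom.mem_ker, Subgroup.mem_subgroupOf, Units.ext_iff]
      exact hlam_sp x
    have hrange : Nat.card χ.range = 2 := by
      have he : (χ.range : Set Fˣ) = {1, -1} := by
        ext u
        refine ⟨?_, ?_⟩
        · rintro ⟨x, rfl⟩
          rcases mul_self_eq_one_iff.1 (hlam1 x) with h | h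
          · exact Or.inl (Units.ext h)
          · exact Or.inr (Units.ext h)
        · rintro (rfl | rfl)
          · exact χ.range.one_mem
          · exact ⟨z, Units.ext hzl⟩
      rw [show Nat.card χ.range = Nat.card (χ.range : Set Fˣ) from rfl, he, Nat.card_coe_set_eq,
        Set.ncard_pair]
      intro h
      have h' := congrArg Units.val h
      simp only [Units.val_one, Units.val_neg] at h'
      exact h2 (by linear_combination h')
    have h := χ.ker.card_eq_card_quotient_mul_card_subgroup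
    rw [Nat.card_congr (QuotientGroup.quotientKerEquivRange χ).toEquiv, hrange, hker, hdata.card_eq, hcard4] at h
    rw [← Nat.card_congr (Subgroup.subgroupOfEquivOfLe (inf_le_left : R ⊓ Cfsg.spGL m F ≤ R)).toEquiv,
      Subgroup.inf_subgroupOf_left]
    rw [pow_add, pow_one]
    omega
  push Not at hi
  by_cases hall : ∀ x : R, lam x = 1
  · have hcard2 : Nat.card (Subgroup.center R) = 2 := by
      rcases hdata.center_cases with ⟨ho, -⟩ | ⟨-, h | h⟩
      · exact absurd ho (by decide)
      · exact h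
      · exfalso
        have hsub : (Subgroup.center R : Set R) ⊆ {1, ⟨z₀, hz₀R⟩} := by
          intro w hw
          obtain ⟨c, hcw⟩ := scalar_of_center halg hw
          have h' := hlam2 w
          rw [hcw, hall w, adj_smul, adj_one, Matrix.smul_mul, Matrix.one_mul, smul_smul] at h'
          rcases mul_self_eq_one_iff.1 (smul_left_injective F h1ne h') with rfl | rfl
          · exact Or.inl (Subtype.ext (Units.ext (by rw [hcw, one_smul]; rfl)))
          · exact Or.inr (Subtype.ext (Units.ext (by rw [hcw, neg_one_smul]; exact hz₀.symm)))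
        have h3 := (Set.ncard_le_ncard hsub).trans (Set.ncard_insert_le _ _)
        rw [Set.ncard_singleton, ← Nat.card_coe_set_eq] at h3
        change Nat.card (Subgroup.center R) ≤ _ at h3
        omega
    refine symp_core hHG hm h2 hN (fun x hx => (hlam_sp ⟨x, hx⟩).1 (hall _)) halg hc' hsq
      ⟨z₀, hz₀R, hz₀⟩ (k := k) ?_ (by omega)
    rw [hdata.card_eq, hcard2, pow_add, pow_one]
  push Not at hall
  obtain ⟨x₁, hx₁⟩ := hall
  have hx₁' : lam x₁ = -1 := (mul_self_eq_one_iff.1 (hlam1 x₁)).resolve_left hx₁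
  haveI : Fintype R := Fintype.ofFinite _
  -- an element inducing the sign character
  obtain ⟨w, hw⟩ : ∃ w : R, ∀ y : R,
      cj (y : GL ιS F) ((w : GL ιS F) : 𝕄) = lam y • ((w : GL ιS F) : 𝕄) := by
    by_contra hcon
    push Not at hcon
    let Φ : 𝕄 →ₗ[F] 𝕄 :=
      { toFun := fun M => ∑ x : R, lam x • cj (x : GL ιS F) M
        map_add' := fun a b => by simp [Finset.sum_add_distrib, smul_add]
        map_smul' := fun c a => by simp [Finset.smul_sum, smul_comm c] }
    have hΦR : ∀ w : R, Φ ((w : GL ιS F) : 𝕄) = 0 := by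
      intro w
      obtain ⟨y, hy⟩ := hcon w
      obtain ⟨c, hc1, hc2⟩ := hc y y.2 w w.2
      have hyw : cj (y : GL ιS F) ((w : GL ιS F) : 𝕄) = c • ((w : GL ιS F) : 𝕄) := by
        rw [cj_apply, hc2, Matrix.smul_mul, mul_assoc, ← Units.val_mul, mul_inv_cancel, Units.val_one, mul_one]
      have hcy : c = -lam y := by
        rcases mul_self_eq_one_iff.1 hc1 with h | h <;>
          rcases mul_self_eq_one_iff.1 (hlam1 y) with h' | h'
        · exact absurd (by rw [hyw, h, h']) hy
        · rw [h, h', neg_neg]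
        · rw [h, h']
        · exact absurd (by rw [hyw, h, h']) hy
      have h : Φ ((w : GL ιS F) : 𝕄) = -Φ ((w : GL ιS F) : 𝕄) := by
        show ∑ x : R, lam x • cj (x : GL ιS F) ((w : GL ιS F) : 𝕄) = -(∑ x : R, _)
        rw [← Finset.sum_neg_distrib]
        refine (Equiv.sum_comp (Equiv.mulRight y) _).symm.trans (Finset.sum_congr rfl fun x _ => ?_)
        show lam (x * y) • cj ((x * y : R) : GL ιS F) _ = _
        rw [hlam_mul, Subgroup.coe_mul, cj_mul, hyw, map_smul, smul_smul, hcy, ← neg_smul]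
        congr 1
        linear_combination -(lam x) * hlam1 y
      have h' : (2 : F) • Φ ((w : GL ιS F) : 𝕄) = 0 := by rw [two_smul]; nth_rewrite 1 [h]; exact neg_add_cancel _
      exact (smul_eq_zero.1 h').resolve_left h2
    have hΦ : ∀ M, Φ M = 0 := by
      intro M
      have hM : M ∈ Submodule.span F (Set.range fun Q : R ⧸ Subgroup.center R => (((Q.out : R) : GL ιS F) : 𝕄)) :=
        span_reps halg Submodule.mem_top
      exact LinearMap.mem_ker.1 ((Submodule.span_le (p := LinearMap.ker Φ)).2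
        (by rintro _ ⟨Q, rfl⟩; exact hΦR _) hM)
    obtain ⟨l₀⟩ : Nonempty ιS := inferInstance
    have hsum : ∑ i : ιS, Φ (Matrix.single i l₀ 1) i l₀ = 0 := by simp [hΦ]
    have hval : ∀ x : R, ∑ i : ιS, (lam x • cj (x : GL ιS F) (Matrix.single i l₀ (1 : F))) i l₀ =
        lam x * (((x : GL ιS F) : 𝕄).trace * (((x : GL ιS F)⁻¹ : GL ιS F) : 𝕄) l₀ l₀) := by
      intro x
      rw [Matrix.trace, Finset.sum_mul, Finset.mul_sum]
      refine Finset.sum_congr rfl fun i _ => ?_
      rw [Matrix.smul_apply, cj_apply, Matrix.mul_apply, Finset.sum_eq_single l₀]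
      · rw [Matrix.mul_apply, Finset.sum_eq_single i]
        · simp [Matrix.single_apply, Matrix.diag]
        · intro a _ ha; simp [Matrix.single_apply, Ne.symm ha]
        · simp
      · intro b _ hb
        rw [Matrix.mul_apply, Finset.sum_eq_zero fun a _ => by simp [Matrix.single_apply, Ne.symm hb],
          zero_mul]
      · simp
    simp only [Φ, LinearMap.coe_mk, AddHom.coe_mk, Matrix.sum_apply] at hsum
    rw [Finset.sum_comm] at hsum
    simp only [hval] at hsum
    have htr : ∀ x : R, x ∉ Subgroup.center R → ((x : GL ιS F) : 𝕄).trace = 0 := by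
      intro x hx
      obtain ⟨y, hy⟩ : ∃ y : R, y * x ≠ x * y := by
        by_contra h; push Not at h; exact hx (Subgroup.mem_center_iff.2 h)
      have h := (hc' y y.2 x x.2).resolve_left fun h => hy (Subtype.ext (Units.ext h))
      have h' : (((y : GL ιS F) : 𝕄) * (x : GL ιS F) * (((y : GL ιS F)⁻¹ : GL ιS F) : 𝕄)).trace =
          (-((x : GL ιS F) : 𝕄)).trace := by
        rw [h, neg_mul, mul_assoc, ← Units.val_mul, mul_inv_cancel, Units.val_one, mul_one]
      rw [Matrix.trace_units_conj, Matrix.trace_neg] at h'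
      exact (mul_eq_zero.1 (show (2 : F) * _ = 0 by linear_combination h')).resolve_left h2
    have hcz : ∀ z : R, z ∈ Subgroup.center R →
        lam z * (((z : GL ιS F) : 𝕄).trace * (((z : GL ιS F)⁻¹ : GL ιS F) : 𝕄) l₀ l₀) = (2 * m : ℕ) := by
      intro z hz
      obtain ⟨c, hcw⟩ := scalar_of_center halg hz
      have hc0 : c ≠ 0 := fun h0 => (z : GL ιS F).ne_zero (by rw [hcw, h0, zero_smul])
      have hinv : (((z : GL ιS F)⁻¹ : GL ιS F) : 𝕄) = c⁻¹ • 1 :=
        Units.inv_eq_of_mul_eq_one_right (by rw [hcw]; simp [smul_smul, hc0])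
      rw [(mul_self_eq_one_iff.1 (hlam1 z)).resolve_right (hi z hz), hcw, hinv, Matrix.trace_smul,
        Matrix.trace_one, Matrix.smul_apply, Matrix.one_apply_eq, smul_eq_mul, smul_eq_mul, Fintype.card_sum,
        Fintype.card_fin]
      push_cast
      field_simp
      ring
    rw [← Finset.sum_filter_add_sum_filter_not _ (fun x : R => x ∈ Subgroup.center R),
      Finset.sum_eq_zero (s := Finset.univ.filter fun x : R => ¬ x ∈ Subgroup.center R)
        (fun x hx => by rw [htr x (Finset.mem_filter.1 hx).2]; simp), add_zero,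
      Finset.sum_congr rfl (fun z hz => hcz z (Finset.mem_filter.1 hz).2), Finset.sum_const, nsmul_eq_mul,
      ← Nat.cast_mul] at hsum
    have hcc : (Finset.univ.filter fun x : R => x ∈ Subgroup.center R).card = Nat.card (Subgroup.center R) := by
      rw [Nat.card_eq_fintype_card, Fintype.card_subtype]
    rw [hcc, show 2 * m = 2 ^ k by omega] at hsum
    rcases hdata.center_cases with ⟨ho, -⟩ | ⟨-, h | h⟩
    · exact absurd ho (by decide)
    all_goals
      rw [h] at hsum
      push_cast at hsum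
    · exact (mul_ne_zero h2 (pow_ne_zero k h2)) hsum
    · refine (mul_ne_zero (mul_ne_zero h2 h2) (pow_ne_zero k h2)) ?_
      linear_combination hsum
  have hwl : lam w = 1 := by
    have h := hw w
    rw [cj_apply, mul_assoc, ← Units.val_mul, mul_inv_cancel, Units.val_one, mul_one] at h
    exact (smul_left_injective F (Units.ne_zero (w : GL ιS F)) (h.symm.trans (one_smul F _).symm))
  have hwnorm : ∀ g ∈ H, ∃ μ : F, cj g ((w : GL ιS F) : 𝕄) = μ • ((w : GL ιS F) : 𝕄) := by
    intro g hg
    have hg' := hHG hg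
    have hcomm : ∀ y ∈ R, Commute (y : 𝕄)
        (cj g ((w : GL ιS F) : 𝕄) * (((w : GL ιS F)⁻¹ : GL ιS F) : 𝕄)) := by
      intro y hy
      obtain ⟨v, hv⟩ : ∃ v : R, (v : GL ιS F) = g⁻¹ * y * g :=
        ⟨⟨_, by simpa using hN g⁻¹ (G.inv_mem hg') y hy⟩, rfl⟩
      have hyv : y = g * (v : GL ιS F) * g⁻¹ := by rw [hv]; group
      have hlv : lam v = lam ⟨y, hy⟩ := by
        refine smul_left_injective F h1ne ?_
        show lam v • (1 : 𝕄) = lam ⟨y, hy⟩ • 1
        rw [← hlam2 ⟨y, hy⟩]
        show _ = adj (y : 𝕄) * (y : 𝕄)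
        rw [hyv, ← cj_coe, adj_cj (hG hg'), ← map_mul, hlam2, map_smul, map_one]
      have h1 := hw v
      rw [hlv] at h1
      have h2' := congrArg (cj g) h1
      rw [← cj_mul, map_smul, show g * (v : GL ιS F) = y * g by rw [hyv]; group, cj_mul] at h2'
      have h3 := hw ⟨y, hy⟩
      have h3' : cj y (((w : GL ιS F)⁻¹ : GL ιS F) : 𝕄) =
          lam ⟨y, hy⟩ • (((w : GL ιS F)⁻¹ : GL ιS F) : 𝕄) := by
        have h4 : cj y ((w : GL ιS F) : 𝕄) * cj y (((w : GL ιS F)⁻¹ : GL ιS F) : 𝕄) = 1 := by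
          rw [← map_mul, ← Units.val_mul, mul_inv_cancel, Units.val_one, map_one]
        rw [show cj y ((w : GL ιS F) : 𝕄) = lam ⟨y, hy⟩ • ((w : GL ιS F) : 𝕄) from h3,
          Matrix.smul_mul] at h4
        have h5 := congrArg (fun z => lam ⟨y, hy⟩ • ((((w : GL ιS F)⁻¹ : GL ιS F) : 𝕄) * z)) h4
        simpa [Matrix.mul_smul, smul_smul, hlam1 ⟨y, hy⟩] using h5
      rw [← cj_eq_self_iff, map_mul, h2', h3', Matrix.smul_mul, Matrix.mul_smul, smul_smul,
        hlam1 ⟨y, hy⟩, one_smul]
    obtain ⟨μ, hμ⟩ := scalar_of_commute halg hcomm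
    refine ⟨μ, ?_⟩
    have h5 := congrArg (· * ((w : GL ιS F) : 𝕄)) hμ
    simpa [mul_assoc] using h5
  have hwadj : adj ((w : GL ιS F) : 𝕄) * (w : GL ιS F) = 1 := by rw [hlam2, hwl, one_smul]
  rcases hsq w w.2 with hsq1 | hsq1
  swap
  · refine case_skew hodd hm ((w : GL ιS F) : 𝕄) (-1) (neg_ne_zero.2 one_ne_zero)
      (by rw [hsq1, neg_one_smul]) ?_ hwnorm
    have h := congrArg (· * ((w : GL ιS F) : 𝕄)) hwadj
    simp only [mul_assoc, hsq1, mul_neg, mul_one, one_mul] at h
    exact neg_eq_iff_eq_neg.1 h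
  have hadjw : adj ((w : GL ιS F) : 𝕄) = (w : GL ιS F) := by
    have h := congrArg (· * ((w : GL ιS F) : 𝕄)) hwadj
    simp only [mul_assoc, hsq1, mul_one, one_mul] at h
    exact h
  obtain ⟨J0, hJ0⟩ : ∃ J0, J0 = ((w : GL ιS F) : 𝕄) := ⟨_, rfl⟩
  rw [← hJ0] at hsq1 hadjw
  have hx1 : cj (x₁ : GL ιS F) J0 = -J0 := by rw [hJ0, hw, hx₁', neg_one_smul]
  let E : Fin 2 → 𝕄 := ![(2 : F)⁻¹ • (1 + J0), (2 : F)⁻¹ • (1 - J0)]
  have hJne : ∀ s : F, J0 ≠ s • 1 := by
    intro s hs
    have h := hx1
    rw [hs, map_smul, map_one] at h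
    have h' : (2 : F) • (s • (1 : 𝕄)) = 0 := by rw [two_smul]; nth_rewrite 1 [h]; exact neg_add_cancel _
    exact Units.ne_zero (w : GL ιS F) (by rw [← hJ0, hs, (smul_eq_zero.1 h').resolve_left h2])
  refine case_of_idem E (by simp) ?_ ?_ ?_ ?_ ?_ ?_ ?_
  · rw [Fin.forall_fin_two]
    constructor <;>
    · simp only [E, Matrix.cons_val_zero, Matrix.cons_val_one, Matrix.smul_mul, Matrix.mul_smul, smul_smul,
        add_mul, mul_add, sub_mul, mul_sub, one_mul, mul_one, hsq1, smul_add, smul_sub]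
      match_scalars <;> field_simp <;> ring
  · rw [Fin.forall_fin_two]
    constructor <;>
    · intro h
      simp only [E, Matrix.cons_val_zero, Matrix.cons_val_one, smul_eq_zero, inv_eq_zero, h2, false_or] at h
      first
        | exact hJne (-1) (by rw [neg_one_smul]; exact (neg_eq_of_add_eq_zero_right h).symm)
        | exact hJne 1 (by rw [one_smul]; exact (sub_eq_zero.1 h).symm)
  · intro i j hij
    fin_cases i <;> fin_cases j <;> first | exact absurd rfl hij | skip
    all_goals
      simp only [E, Matrix.cons_val_zero, Matrix.cons_val_one, Fin.zero_eta, Fin.mk_one, Matrix.smul_mul,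
        Matrix.mul_smul, smul_smul, add_mul, mul_add, sub_mul, mul_sub, one_mul, mul_one, hsq1, smul_add, smul_sub]
      match_scalars <;> ring
  · simp only [Fin.sum_univ_two, E, Matrix.cons_val_zero, Matrix.cons_val_one]
    match_scalars <;> field_simp <;> ring
  · rw [Fin.forall_fin_two]
    constructor <;>
    · simp only [E, Matrix.cons_val_zero, Matrix.cons_val_one, adj_smul, adj_add, adj_sub, adj_one, hadjw]
  · intro g hg i
    obtain ⟨μ, hμ⟩ := hwnorm g hg
    rw [← hJ0] at hμ
    have hμ2 : μ * μ = 1 := by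
      have h := congrArg (cj g) hsq1
      rw [map_mul, map_one, hμ, Matrix.smul_mul, Matrix.mul_smul, smul_smul, hsq1] at h
      exact smul_left_injective F h1ne (h.trans (one_smul F 1).symm)
    rcases mul_self_eq_one_iff.1 hμ2 with rfl | rfl
    · refine ⟨i, ?_⟩
      fin_cases i <;> simp [E, hμ]
    · refine ⟨i + 1, ?_⟩
      fin_cases i <;> simp [E, hμ, sub_eq_add_neg]
  · intro i j
    by_cases hij : i = j
    · exact ⟨1, by rw [hij, cj_one]⟩
    · refine ⟨(x₁ : GL ιS F), ?_⟩
      fin_cases i <;> fin_cases j <;> first | exact absurd rfl hij | simp [E, hx1, sub_eq_add_neg]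

end CfsgLib.AschSp
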