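import Cfsg.Agent.Lib.AschSp.Gram
import Cfsg.Agent.Lib.AschSp.SkewElem

/-!
A normalised subgroup with a proper tensor factor as enveloping algebra: the symplectic form splits as a
tensor product.
-/

set_option autoImplicit false
set_option linter.unusedSectionVars false
set_option linter.style.haveILetI false

namespace CfsgLib.AschSp

open Matrix Cfsg.Geo CfsgLib.Aschbacher
open scoped MatrixGroups Kronecker

variable {m : ℕ} {F : Type*} [Field F] {κ : Type} [Fintype κ] [DecidableEq κ]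

local notation "ιS" => (Fin m ⊕ Fin m)
local notation "𝕄" => Matrix (Fin m ⊕ Fin m) (Fin m ⊕ Fin m) F
local notation "sf" => Cfsg.sympForm m F

theorem exists_adj_tmat (e : ιS ≃ κ) (P : GL ιS F) (X : Matrix κ κ F) :
    ∃ Y : Matrix κ κ F, Xᵀ * gram e P = gram e P * Y ∧ adj (tmat e P X) = tmat e P Y := by
  obtain ⟨u, hu⟩ := gram_isUnit e P
  refine ⟨(↑u⁻¹ : Matrix κ κ F) * (Xᵀ * gram e P), ?_, ?_⟩
  · rw [← mul_assoc, ← hu, Units.mul_inv, one_mul]
  · apply adj_tmat
    rw [← mul_assoc, ← hu, Units.mul_inv, one_mul]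

theorem of_adj_tmat (e : ιS ≃ κ) (P : GL ιS F) {X Y : Matrix κ κ F}
    (h : adj (tmat e P X) = tmat e P Y) : Xᵀ * gram e P = gram e P * Y := by
  obtain ⟨Y', hY', hY''⟩ := exists_adj_tmat e P X
  rw [(tmat e P).injective (h.symm.trans hY'')]
  exact hY'

/-- An element of the symplectic group preserves the Gram matrix. -/
theorem gram_invariant (e : ιS ≃ κ) (P : GL ιS F) {g : GL ιS F} (hg : g ∈ Cfsg.spGL m F)
    {U : Matrix κ κ F} (hU : (g : 𝕄) = tmat e P U) : Uᵀ * gram e P * U = gram e P := by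
  obtain ⟨Y, hY, hY'⟩ := exists_adj_tmat e P U
  have h1 : adj (g : 𝕄) * (g : 𝕄) = 1 := mat_ext fun u v => by
    rw [← mulVec_mulVec, ← adj_spec, one_mulVec]
    exact hg u v
  have hYU : Y * U = 1 := (tmat e P).injective (by rw [map_mul, ← hY', ← hU, h1, map_one])
  rw [hY, mul_assoc, hYU, mul_one]

theorem cj_tmat (e : ιS ≃ κ) (P : GL ιS F) {g : GL ιS F} {U X Y : Matrix κ κ F}
    (hU : (g : 𝕄) = tmat e P U) (h : U * X = Y * U) : cj g (tmat e P X) = tmat e P Y := by
  rw [cj_apply, hU, ← map_mul, h, map_mul, ← hU, mul_assoc, ← Units.val_mul, mul_inv_cancel,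
    Units.val_one, mul_one]

theorem mem_tensorProductSubgroup {d n : ℕ} {e : ιS ≃ Fin d × Fin n} {P g : GL ιS F}
    {a : GL (Fin d) F} {b : GL (Fin n) F}
    (h : (g : 𝕄) = tmat e P ((a : Matrix (Fin d) (Fin d) F) ⊗ₖ (b : Matrix (Fin n) (Fin n) F))) :
    g ∈ tensorProductSubgroup d n e P := by
  let k : GL (Fin d × Fin n) F :=
    ⟨(a : Matrix (Fin d) (Fin d) F) ⊗ₖ (b : Matrix (Fin n) (Fin n) F),
      ((a⁻¹ : GL (Fin d) F) : Matrix (Fin d) (Fin d) F) ⊗ₖ ((b⁻¹ : GL (Fin n) F) : Matrix (Fin n) (Fin n) F),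
      by rw [← mul_kronecker_mul, Units.mul_inv, Units.mul_inv, one_kronecker_one],
      by rw [← mul_kronecker_mul, Units.inv_mul, Units.inv_mul, one_kronecker_one]⟩
  exact ⟨glReindex e.symm k, ⟨k, ⟨a, b, rfl⟩, rfl⟩, Units.ext h.symm⟩

theorem leftFactor_tmat {d n : ℕ} (e : ιS ≃ Fin d × Fin n) (P : GL ιS F) (x : Matrix (Fin d) (Fin d) F) :
    leftFactor e P x = tmat e P (x ⊗ₖ (1 : Matrix (Fin n) (Fin n) F)) := rfl

/-- If the left factor is stable under the adjoint then the Gram matrix is a Kronecker product. -/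
theorem gram_split {d n : ℕ} [NeZero d] [NeZero n] (e : ιS ≃ Fin d × Fin n) (P : GL ιS F)
    (hA : ∀ x, ∃ y, adj (leftFactor e P x) = leftFactor e P y) :
    ∃ (G1 : Matrix (Fin d) (Fin d) F) (G2 : Matrix (Fin n) (Fin n) F), gram e P = G1 ⊗ₖ G2 := by
  choose γ hγ using hA
  have hinj : Function.Injective (leftFactor e P) := fun x y h => by
    rw [leftFactor_tmat, leftFactor_tmat] at h
    have h' := (tmat e P).injective h
    ext i j
    simpa using congrFun (congrFun h' (i, 0)) (j, 0)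
  have hmul : ∀ x y, leftFactor e P (x * y) = leftFactor e P x * leftFactor e P y := fun x y => by
    rw [leftFactor_tmat, leftFactor_tmat, leftFactor_tmat, ← map_mul, ← mul_kronecker_mul, one_mul]
  have hadd : ∀ x y, leftFactor e P (x + y) = leftFactor e P x + leftFactor e P y := fun x y => by
    rw [leftFactor_tmat, leftFactor_tmat, leftFactor_tmat, add_kronecker, map_add]
  have hsmul : ∀ (c : F) x, leftFactor e P (c • x) = c • leftFactor e P x := fun c x => by
    rw [leftFactor_tmat, leftFactor_tmat, smul_kronecker, map_smul]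
  have hone : leftFactor e P 1 = 1 := by rw [leftFactor_tmat, one_kronecker_one, map_one]
  have γmul : ∀ x y, γ (x * y) = γ y * γ x := fun x y => hinj (by
    rw [← hγ, hmul, adj_mul, hγ, hγ, hmul])
  have γadd : ∀ x y, γ (x + y) = γ x + γ y := fun x y => hinj (by
    rw [← hγ, hadd, adj_add, hγ, hγ, hadd])
  have γone : γ 1 = 1 := hinj (by rw [← hγ, hone, adj_one])
  have γsmul : ∀ (c : F) x, γ (c • x) = c • γ x := fun c x => hinj (by
    rw [← hγ, hsmul, adj_smul, hγ, hsmul])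
  have γzero : γ 0 = 0 := by
    have := γsmul 0 0
    rwa [zero_smul, zero_smul] at this
  let ψ : Matrix (Fin d) (Fin d) F →ₐ[F] Matrix (Fin d) (Fin d) F :=
    { toFun := fun x => (γ x)ᵀ
      map_one' := by rw [γone, transpose_one]
      map_mul' := fun x y => by rw [γmul, transpose_mul]
      map_zero' := by rw [γzero, transpose_zero]
      map_add' := fun x y => by rw [γadd, transpose_add]
      commutes' := fun c => by
        rw [Algebra.algebraMap_eq_smul_one, γsmul, γone, transpose_smul, transpose_one] }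
  obtain ⟨a, ha⟩ := exists_inner_hom ψ
  have key : ∀ x : Matrix (Fin d) (Fin d) F,
      (xᵀ ⊗ₖ (1 : Matrix (Fin n) (Fin n) F)) * gram e P = gram e P * ((γ x) ⊗ₖ 1) := fun x => by
    have h := hγ x
    rw [leftFactor_tmat, leftFactor_tmat] at h
    have h' := of_adj_tmat e P h
    rwa [← kroneckerMap_transpose, transpose_one] at h'
  have hγ' : ∀ x, γ x = ((a⁻¹ : GL (Fin d) F) : Matrix (Fin d) (Fin d) F)ᵀ * xᵀ *
      (a : Matrix (Fin d) (Fin d) F)ᵀ := fun x => by
    have h := congrArg Matrix.transpose (ha x)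
    rw [cj_apply, transpose_mul, transpose_mul, ← mul_assoc] at h
    exact (transpose_transpose (γ x)).symm.trans h
  obtain ⟨G2, hG2⟩ := exists_eq_one_kron
    (gram e P * (((a⁻¹ : GL (Fin d) F) : Matrix (Fin d) (Fin d) F)ᵀ ⊗ₖ (1 : Matrix (Fin n) (Fin n) F)))
    (fun y => by
      conv_rhs => rw [← mul_assoc, ← transpose_transpose y, key, hγ', transpose_transpose, mul_assoc,
        ← mul_kronecker_mul, mul_assoc, mul_assoc, ← transpose_mul, Units.inv_mul, transpose_one,
        mul_one, one_mul]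
      rw [mul_assoc, ← mul_kronecker_mul, one_mul])
  refine ⟨(a : Matrix (Fin d) (Fin d) F)ᵀ, G2, ?_⟩
  have h := congrArg (· * (((a : Matrix (Fin d) (Fin d) F))ᵀ ⊗ₖ (1 : Matrix (Fin n) (Fin n) F))) hG2
  simpa [mul_assoc, ← mul_kronecker_mul, ← transpose_mul] using h

theorem kron_ne_zero_left {κ₁ κ₂ : Type} {A : Matrix κ₁ κ₁ F} {B : Matrix κ₂ κ₂ F} (h : A ⊗ₖ B ≠ 0) :
    A ≠ 0 ∧ B ≠ 0 := by
  constructor <;> rintro rfl <;> simp at h

theorem isUnit_kron_factors {κ₁ κ₂ : Type} [Fintype κ₁] [DecidableEq κ₁] [Fintype κ₂] [DecidableEq κ₂]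
    [Nonempty κ₁] [Nonempty κ₂] {A : Matrix κ₁ κ₁ F} {B : Matrix κ₂ κ₂ F} (h : IsUnit (A ⊗ₖ B)) :
    IsUnit A ∧ IsUnit B := by
  rw [Matrix.isUnit_iff_isUnit_det, det_kronecker, IsUnit.mul_iff,
    isUnit_pow_iff Fintype.card_ne_zero, isUnit_pow_iff Fintype.card_ne_zero] at h
  rwa [Matrix.isUnit_iff_isUnit_det, Matrix.isUnit_iff_isUnit_det]

theorem two_by_two_skew_conj (b : Matrix (Fin 2) (Fin 2) F) :
    bᵀ * !![0, 1; -1, 0] * b = b.det • (!![0, 1; -1, 0] : Matrix (Fin 2) (Fin 2) F) := by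
  ext i j
  fin_cases i <;> fin_cases j <;>
    simp [Matrix.mul_apply, Fin.sum_univ_two, Matrix.det_fin_two] <;> ring

/-- The form is a tensor product of an alternating and a symmetric form. -/
theorem case_tensor_aux [Fintype F] {H : Subgroup (GL ιS F)} (hH : H ≤ Cfsg.spGL m F) {d n : ℕ}
    (hd : 2 ≤ d) (hn : 2 ≤ n) (e : ιS ≃ Fin d × Fin n) (P : GL ιS F) (G1 : Matrix (Fin d) (Fin d) F)
    (G2 : Matrix (Fin n) (Fin n) F) (hgram : gram e P = G1 ⊗ₖ G2) (h1 : G1ᵀ = -G1)
    (h1d : ∀ i, G1 i i = 0) (h2 : G2ᵀ = G2)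
    (hfac : ∀ g ∈ H, ∃ (a : GL (Fin d) F) (b : GL (Fin n) F),
      (g : 𝕄) = tmat e P ((a : Matrix (Fin d) (Fin d) F) ⊗ₖ (b : Matrix (Fin n) (Fin n) F))) :
    Case H := by
  classical
  haveI : Nonempty (Fin d) := ⟨⟨0, by omega⟩⟩
  haveI : Nonempty (Fin n) := ⟨⟨0, by omega⟩⟩
  have hu : IsUnit (G1 ⊗ₖ G2) := hgram ▸ gram_isUnit e P
  obtain ⟨hu1, hu2⟩ := isUnit_kron_factors hu
  have hb : ∀ (a : GL (Fin d) F) (b : GL (Fin n) F) (g : GL ιS F), g ∈ H →
      (g : 𝕄) = tmat e P ((a : Matrix (Fin d) (Fin d) F) ⊗ₖ (b : Matrix (Fin n) (Fin n) F)) →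
      ∃ ν : F, ν ≠ 0 ∧ (b : Matrix (Fin n) (Fin n) F)ᵀ * G2 * (b : Matrix (Fin n) (Fin n) F) = ν • G2 := by
    intro a b g hg hgab
    have h := gram_invariant e P (hH hg) hgab
    rw [hgram, ← kroneckerMap_transpose, ← mul_kronecker_mul, ← mul_kronecker_mul] at h
    obtain ⟨t, ht, -, htB⟩ := kron_cancel h.symm hu1.ne_zero hu2.ne_zero
    exact ⟨t⁻¹, inv_ne_zero ht, htB⟩
  by_cases hodd : Odd (Fintype.card F)
  · rcases Nat.lt_or_ge n 3 with hn3 | hn3
    swap
    · refine .tensor d n e P (matForm G1) (matForm G2) hodd hn3 (matForm_symplectic hu1 h1 h1d)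
        (matForm_symmetric hu2 h2) ⟨1, one_ne_zero, fun x y => ?_⟩ fun g hg => ?_
      · rw [one_mul, gramMatrix_matForm, gramMatrix_matForm, ← hgram, formOfGram_id, form_coords]
      · obtain ⟨a, b, hab⟩ := hfac g hg
        exact mem_tensorProductSubgroup hab
    obtain rfl : n = 2 := by omega
    have hm : 0 < m := by
      by_contra hm
      have := Fintype.card_congr e
      simp only [Fintype.card_sum, Fintype.card_fin, Fintype.card_prod] at this
      nlinarith
    obtain ⟨u, rfl⟩ := hu2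
    let S : Matrix (Fin 2) (Fin 2) F := !![0, 1; -1, 0]
    let Gi : Matrix (Fin 2) (Fin 2) F := (↑u⁻¹ : Matrix (Fin 2) (Fin 2) F)
    have hGi : Giᵀ = Gi := by
      have h := congrArg Matrix.transpose (Units.mul_inv u)
      rw [transpose_mul, transpose_one, h2] at h
      calc Giᵀ = Giᵀ * ((u : Matrix (Fin 2) (Fin 2) F) * Gi) := by rw [Units.mul_inv, mul_one]
        _ = Gi := by rw [← mul_assoc, h, one_mul]
    let j0 := Gi * S
    have hsq : j0 * j0 = (-Gi.det) • (1 : Matrix (Fin 2) (Fin 2) F) := by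
      have h01 : Gi 1 0 = Gi 0 1 := congrFun (congrFun hGi 0) 1
      ext i j
      fin_cases i <;> fin_cases j <;>
        simp [j0, S, Matrix.mul_apply, Fin.sum_univ_two, Matrix.det_fin_two, h01] <;> ring
    have hdet : Gi.det ≠ 0 := ((Matrix.isUnit_iff_isUnit_det Gi).1 (Units.isUnit u⁻¹)).ne_zero
    refine case_skew hodd hm (tmat e P ((1 : Matrix (Fin d) (Fin d) F) ⊗ₖ j0)) (-Gi.det)
      (neg_ne_zero.2 hdet) ?_ ?_ fun g hg => ?_
    · rw [← map_mul, ← mul_kronecker_mul, one_mul, hsq, kronecker_smul, one_kronecker_one, map_smul,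
        map_one]
    · rw [← map_neg]
      apply adj_tmat
      rw [hgram, ← kroneckerMap_transpose, transpose_one, mul_neg, ← mul_kronecker_mul,
        ← mul_kronecker_mul, one_mul, mul_one]
      have hS : Sᵀ = -S := by ext i j; fin_cases i <;> fin_cases j <;> simp [S]
      have hl : j0ᵀ * (u : Matrix (Fin 2) (Fin 2) F) = -S := by
        rw [transpose_mul, hGi, mul_assoc, Units.inv_mul, mul_one, hS]
      have hr : (u : Matrix (Fin 2) (Fin 2) F) * j0 = S := by
        rw [← mul_assoc, Units.mul_inv, one_mul]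
      rw [hl, hr]
      ext p q
      simp
    · obtain ⟨a, b, hab⟩ := hfac g hg
      obtain ⟨ν, hν, hν'⟩ := hb a b g hg hab
      have hdb : (b : Matrix (Fin 2) (Fin 2) F).det ≠ 0 :=
        ((Matrix.isUnit_iff_isUnit_det _).1 b.isUnit).ne_zero
      have h3 : (b : Matrix (Fin 2) (Fin 2) F) * Gi * (b : Matrix (Fin 2) (Fin 2) F)ᵀ = ν • Gi := by
        have h4 : (ν⁻¹ • (Gi * (b : Matrix (Fin 2) (Fin 2) F)ᵀ * u)) * (b : Matrix (Fin 2) (Fin 2) F) = 1 := by
          rw [Matrix.smul_mul, mul_assoc, mul_assoc, ← mul_assoc _ (u : Matrix (Fin 2) (Fin 2) F), hν',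
            Matrix.mul_smul, Units.inv_mul, smul_smul, inv_mul_cancel₀ hν, one_smul]
        have h5 := congrArg (fun z => ν • (z * Gi)) (mul_eq_one_comm.1 h4)
        simp only [Matrix.mul_smul, Matrix.smul_mul, smul_smul, mul_inv_cancel₀ hν, one_smul, one_mul,
          mul_assoc, show (u : Matrix (Fin 2) (Fin 2) F) * Gi = 1 from Units.mul_inv u, mul_one] at h5
        rwa [← mul_assoc] at h5
      have hkey : ν • (j0 * (b : Matrix (Fin 2) (Fin 2) F)) =
          (b : Matrix (Fin 2) (Fin 2) F).det • ((b : Matrix (Fin 2) (Fin 2) F) * j0) := by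
        rw [← Matrix.smul_mul, ← Matrix.smul_mul, ← h3, mul_assoc, mul_assoc, ← mul_assoc _ S,
          two_by_two_skew_conj, Matrix.mul_smul]
        simp only [j0, S, mul_assoc]
      refine ⟨ν / (b : Matrix (Fin 2) (Fin 2) F).det, ?_⟩
      rw [← map_smul]
      refine cj_tmat e P hab ?_
      rw [← kronecker_smul, ← mul_kronecker_mul, ← mul_kronecker_mul, mul_one, one_mul, Matrix.smul_mul,
        div_eq_inv_mul, ← smul_smul, hkey, smul_smul, inv_mul_cancel₀ hdb, one_smul]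
  have h20 := two_eq_zero_of_not_odd hodd
  have hneg : ∀ {κ' : Type} (M : Matrix κ' κ' F), -M = M := fun M => by
    ext i j; rw [Matrix.neg_apply]; linear_combination -(M i j) * h20
  by_cases h2d : ∀ i, G2 i i = 0
  · obtain ⟨x, x', hx, hxx⟩ := exists_half hu1 h1 h1d h20
    obtain ⟨y, y', hy, hyy⟩ := exists_half hu2 (by rw [hneg, h2]) h2d h20
    have hkadj : adj (tmat e P (x ⊗ₖ (1 : Matrix (Fin n) (Fin n) F))) = tmat e P (x' ⊗ₖ 1) := by
      apply adj_tmat
      rw [hgram, ← kroneckerMap_transpose, transpose_one, ← mul_kronecker_mul, ← mul_kronecker_mul, hx,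
        one_mul, mul_one]
    have hcadj : adj (tmat e P ((1 : Matrix (Fin d) (Fin d) F) ⊗ₖ y)) = tmat e P (1 ⊗ₖ y') := by
      apply adj_tmat
      rw [hgram, ← kroneckerMap_transpose, transpose_one, ← mul_kronecker_mul, ← mul_kronecker_mul, hy,
        one_mul, mul_one]
    have hc : tmat e P ((1 : Matrix (Fin d) (Fin d) F) ⊗ₖ y) +
        adj (tmat e P ((1 : Matrix (Fin d) (Fin d) F) ⊗ₖ y)) = 1 := by
      rw [hcadj, ← map_add, ← kronecker_add, hyy, one_kronecker_one, map_one]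
    have hk : tmat e P (x ⊗ₖ (1 : Matrix (Fin n) (Fin n) F)) +
        adj (tmat e P (x ⊗ₖ (1 : Matrix (Fin n) (Fin n) F))) = 1 := by
      rw [hkadj, ← map_add, ← add_kronecker, hxx, one_kronecker_one, map_one]
    have hcomm : ∀ z : Matrix (Fin d) (Fin d) F,
        Commute (tmat e P (z ⊗ₖ (1 : Matrix (Fin n) (Fin n) F))) (tmat e P (1 ⊗ₖ y)) := fun z => by
      rw [Commute, SemiconjBy, ← map_mul, ← map_mul, ← mul_kronecker_mul, ← mul_kronecker_mul, mul_one,
        one_mul, one_mul, mul_one]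
    refine case_of_qOf hH hodd _ hk fun g hg v => ?_
    have hsim := spGL_le_similarityGroup (hH hg)
    obtain ⟨a, b, hab⟩ := hfac g hg
    have hk' : cj g (tmat e P (x ⊗ₖ (1 : Matrix (Fin n) (Fin n) F))) +
        adj (cj g (tmat e P (x ⊗ₖ (1 : Matrix (Fin n) (Fin n) F)))) = 1 := by
      rw [adj_cj hsim, ← map_add, hk, map_one]
    have e1 := qOf_eq_of_commute h20 hk' hc (by
      rw [adj_cj hsim, hkadj, cj_tmat e P hab (Y := ((a : Matrix (Fin d) (Fin d) F) * x' *
        ((a⁻¹ : GL (Fin d) F) : Matrix (Fin d) (Fin d) F)) ⊗ₖ 1) (by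
          rw [← mul_kronecker_mul, ← mul_kronecker_mul, one_mul, mul_one, mul_assoc (_ * x'),
            Units.inv_mul, mul_one])]
      exact hcomm _) v
    rw [e1, qOf_eq_of_commute h20 hk hc (by rw [hkadj]; exact hcomm _) v]
  push Not at h2d
  obtain ⟨i0, hi0⟩ := h2d
  have hsqb : Function.Bijective fun z : F => z * z := by
    refine Finite.injective_iff_bijective.1 fun z w hzw => ?_
    have h : (z - w) * (z - w) = 0 := by linear_combination hzw + (w * w - z * w) * h20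
    exact sub_eq_zero.1 (mul_self_eq_zero.1 h)
  choose s hs using fun i => hsqb.surjective (G2 i i)
  have hsq : ∀ y : Fin n → F, y ⬝ᵥ (G2 *ᵥ y) = (s ⬝ᵥ y) * (s ⬝ᵥ y) := by
    intro y
    have hd0 : ∀ x : Fin n → F, x ⬝ᵥ ((G2 - Matrix.diagonal fun i => G2 i i) *ᵥ x) = 0 :=
      alt_of_matrix (by rw [hneg, transpose_sub, diagonal_transpose, h2]) (fun i => by simp)
    have hd1 := hd0 y
    have hd2 : (s ⬝ᵥ y) * (s ⬝ᵥ y) = ∑ i, (s i * y i) * (s i * y i) := by
      haveI : CharP F 2 := CharTwo.of_one_ne_zero_of_two_eq_zero one_ne_zero h20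
      exact CharTwo.sum_mul_self _ _
    rw [sub_mulVec, dotProduct_sub, sub_eq_zero] at hd1
    rw [hd1, hd2]
    simp only [dotProduct, mulVec_diagonal]
    exact Finset.sum_congr rfl fun i _ => by rw [← hs]; ring
  let Z : Matrix (Fin n) (Fin n) F := Matrix.vecMulVec s s
  have hsi : s i0 ≠ 0 := fun h => hi0 ((hs i0).symm.trans (by simp [h]))
  refine case_reducible hH fun hirr => ?_
  let W : Submodule F (ιS → F) :=
    LinearMap.ker (Matrix.toLin' (tmat e P ((1 : Matrix (Fin d) (Fin d) F) ⊗ₖ Z)))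
  have hW : ∀ v, v ∈ W ↔ tmat e P ((1 : Matrix (Fin d) (Fin d) F) ⊗ₖ Z) *ᵥ v = 0 := fun v => Iff.rfl
  rcases Irr.eq_bot_or_top hirr W (fun g hg v hv => by
    obtain ⟨a, b, hab⟩ := hfac g hg
    obtain ⟨ν, hν, hν'⟩ := hb a b g hg hab
    obtain ⟨r, hr⟩ := hsqb.surjective ν
    have hbs : ∀ y : Fin n → F, s ⬝ᵥ ((b : Matrix (Fin n) (Fin n) F) *ᵥ y) = r * (s ⬝ᵥ y) := fun y => by
      apply hsqb.injective
      show _ * _ = _ * _
      rw [← hsq, mul_mul_mul_comm, show r * r = ν from hr, ← hsq]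
      calc _ = y ⬝ᵥ (((b : Matrix (Fin n) (Fin n) F)ᵀ * G2 * (b : Matrix (Fin n) (Fin n) F)) *ᵥ y) := by
            rw [← mulVec_mulVec, ← mulVec_mulVec, dotProduct_mulVec y, vecMul_transpose]
        _ = ν * (y ⬝ᵥ (G2 *ᵥ y)) := by rw [hν', smul_mulVec, dotProduct_smul, smul_eq_mul]
    have hZb : Z * (b : Matrix (Fin n) (Fin n) F) = r • Z := by
      refine Matrix.ext_of_mulVec_single fun i => ?_
      rw [← mulVec_mulVec, smul_mulVec, vecMulVec_mulVec, vecMulVec_mulVec, hbs]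
      ext l
      simp
      ring
    have hcom : ((1 : Matrix (Fin d) (Fin d) F) ⊗ₖ Z) *
        ((a : Matrix (Fin d) (Fin d) F) ⊗ₖ (b : Matrix (Fin n) (Fin n) F)) =
        (r • ((a : Matrix (Fin d) (Fin d) F) ⊗ₖ (1 : Matrix (Fin n) (Fin n) F))) *
          ((1 : Matrix (Fin d) (Fin d) F) ⊗ₖ Z) := by
      rw [← mul_kronecker_mul, one_mul, hZb, kronecker_smul, Matrix.smul_mul, ← mul_kronecker_mul,
        mul_one, one_mul]
    rw [hW] at hv ⊢
    rw [mulVec_mulVec, hab, ← map_mul, hcom, map_mul, ← mulVec_mulVec, hv, mulVec_zero]) with h | h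
  · obtain ⟨i1, hne⟩ : ∃ i1, i1 ≠ i0 := Fintype.exists_ne_of_one_lt_card (by simp; omega) i0
    let y : Fin n → F := fun i => if i = i0 then -s i1 else if i = i1 then s i0 else 0
    have hy : s ⬝ᵥ y = 0 := by
      rw [dotProduct, Finset.sum_eq_add i0 i1 (Ne.symm hne)]
      · simp [y, hne]; ring
      · intro c _ hc; simp [y, hc.1, hc.2]
      · simp
      · simp
    let a0 : Fin d := ⟨0, by omega⟩
    let x : Fin d × Fin n → F := fun p => if p.1 = a0 then y p.2 else 0
    have hx : (P : 𝕄) *ᵥ (x ∘ e) ∈ W := by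
      rw [hW, tmat_mulVec, show ((1 : Matrix (Fin d) (Fin d) F) ⊗ₖ Z) *ᵥ x = 0 from ?_]
      · exact mulVec_zero _
      ext ⟨p, q⟩
      simp only [mulVec, dotProduct, Fintype.sum_prod_type, x, kroneckerMap_apply, Z, vecMulVec_apply,
        Matrix.one_apply, Pi.zero_apply, ite_mul, mul_ite, one_mul, zero_mul, mul_zero]
      rw [Finset.sum_comm]
      simp only [Finset.sum_ite_eq', Finset.mem_univ, if_true]
      by_cases hp : p = a0
      · simp only [hp, if_true, mul_assoc, ← Finset.mul_sum]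
        rw [show (∑ i, s i * y i) = 0 from hy, mul_zero]
      · simp [hp]
    rw [h, Submodule.mem_bot] at hx
    have h0 := mulVec_injective_of_isUnit P.isUnit (hx.trans (mulVec_zero _).symm)
    have h1' := congrFun h0 (e.symm (a0, i1))
    simp [x, y, hne, hsi] at h1'
  · have hz : tmat e P ((1 : Matrix (Fin d) (Fin d) F) ⊗ₖ Z) = 0 :=
      Matrix.ext_of_mulVec_single fun i => by
        rw [zero_mulVec]; exact (hW _).1 (h ▸ Submodule.mem_top)
    have hz' := (tmat e P).injective (hz.trans (map_zero _).symm)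
    have h3 := congrFun (congrFun hz' (⟨0, by omega⟩, i0)) (⟨0, by omega⟩, i0)
    simp [Z, vecMulVec_apply, hsi] at h3

/-- The tensor product case of the core theorem. -/
theorem case_tensor [Fintype F] {H G L : Subgroup (GL ιS F)} (hH : H ≤ Cfsg.spGL m F) (hHG : H ≤ G)
    (hG : G ≤ similarityGroup (Cfsg.sympForm m F)) (hLG : L ≤ G) {d n : ℕ} (hd : 2 ≤ d) (hn : 2 ≤ n)
    (e : ιS ≃ Fin d × Fin n) (P : GL ιS F) (hA : (alg L : Set 𝕄) = Set.range (leftFactor e P))
    (hle : G ≤ tensorProductSubgroup d n e P) : Case H := by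
  classical
  haveI : NeZero d := ⟨by omega⟩
  haveI : NeZero n := ⟨by omega⟩
  obtain ⟨G1, G2, hgram⟩ := gram_split e P fun x => by
    have hx : leftFactor e P x ∈ alg L := by
      rw [← SetLike.mem_coe, hA]; exact ⟨x, rfl⟩
    have h := adj_mem_alg (hLG.trans hG) hx
    rw [← SetLike.mem_coe, hA] at h
    obtain ⟨y, hy⟩ := h
    exact ⟨y, hy.symm⟩
  obtain ⟨hu1, hu2⟩ := isUnit_kron_factors (hgram ▸ gram_isUnit e P : IsUnit (G1 ⊗ₖ G2))
  have hfac : ∀ g ∈ H, ∃ (a : GL (Fin d) F) (b : GL (Fin n) F),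
      (g : 𝕄) = tmat e P ((a : Matrix (Fin d) (Fin d) F) ⊗ₖ (b : Matrix (Fin n) (Fin n) F)) := fun g hg =>
    exists_tmat_of_mem (hle (hHG hg))
  have ht := gram_transpose e P
  rw [hgram, ← kroneckerMap_transpose,
    show -(G1 ⊗ₖ G2) = (-G1) ⊗ₖ G2 by ext p q; simp] at ht
  obtain ⟨t, ht0, ht1, ht2⟩ := kron_cancel ht (fun h => hu1.ne_zero (transpose_eq_zero.1 h))
    (fun h => hu2.ne_zero (transpose_eq_zero.1 h))
  have hG2 : G2ᵀ = t • G2 := by
    conv_rhs => rw [ht2, smul_smul, mul_inv_cancel₀ ht0, one_smul]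
  have hG1 : G1ᵀ = (-t⁻¹) • G1 := by
    have h : t⁻¹ • (-G1) = G1ᵀ := by rw [ht1, smul_smul, inv_mul_cancel₀ ht0, one_smul]
    rw [← h, neg_smul, smul_neg]
  have ht21 : t * t = 1 := by
    obtain ⟨i, j, hij⟩ : ∃ i j, G2 i j ≠ 0 := by
      by_contra h; push Not at h; exact hu2.ne_zero (Matrix.ext h)
    have h := congrFun (congrFun hG2 j) i
    have h' := congrFun (congrFun hG2 i) j
    simp only [transpose_apply, Matrix.smul_apply, smul_eq_mul] at h h'
    rw [h', ← mul_assoc] at h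
    exact mul_right_cancel₀ hij (by rw [one_mul]; exact h.symm)
  have hdiag : ∀ i j, G1 i i * G2 j j = 0 := fun i j => by
    have h := gram_diag e P (i, j)
    rwa [hgram] at h
  by_cases h20 : (2 : F) = 0
  · have ht1' : t = 1 := by
      have h : (t - 1) * (t - 1) = 0 := by linear_combination ht21 + (1 - t) * h20
      exact sub_eq_zero.1 (mul_self_eq_zero.1 h)
    have hn1 : (-1 : F) = 1 := by linear_combination -h20
    subst ht1'
    rw [one_smul] at hG2
    have hG1' : G1ᵀ = G1 := by rw [hG1, inv_one, hn1, one_smul]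
    by_cases hd1 : ∀ i, G1 i i = 0
    · exact case_tensor_aux hH hd hn e P G1 G2 hgram (by rw [hG1, inv_one, neg_smul, one_smul]) hd1 hG2 hfac
    push Not at hd1
    obtain ⟨i, hi⟩ := hd1
    refine case_tensor_swap hH hd hn e P G1 G2 hgram hG1'
      (by rw [hG2, ← neg_one_smul F G2, hn1, one_smul])
      (fun j => (mul_eq_zero.1 (hdiag i j)).resolve_left hi) hfac
  rcases mul_self_eq_one_iff.1 ht21 with rfl | rfl
  · rw [one_smul] at hG2
    refine case_tensor_aux hH hd hn e P G1 G2 hgram (by rw [hG1, inv_one, neg_smul, one_smul]) (fun i => ?_)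
      hG2 hfac
    have h := congrFun (congrFun hG1 i) i
    simp only [transpose_apply, Matrix.smul_apply, smul_eq_mul, inv_one] at h
    exact (mul_eq_zero.1 (show (2 : F) * G1 i i = 0 by linear_combination h)).resolve_left h20
  · refine case_tensor_swap hH hd hn e P G1 G2 hgram (by rw [hG1, inv_neg, inv_one, neg_neg, one_smul])
      (by rw [hG2, neg_smul, one_smul]) (fun i => ?_) hfac
    have h := congrFun (congrFun hG2 i) i
    simp only [transpose_apply, Matrix.smul_apply, smul_eq_mul] at h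
    exact (mul_eq_zero.1 (show (2 : F) * G2 i i = 0 by linear_combination h)).resolve_left h20
where
  case_tensor_swap {H : Subgroup (GL ιS F)} (hH : H ≤ Cfsg.spGL m F) {d n : ℕ} (hd : 2 ≤ d) (hn : 2 ≤ n)
      (e : ιS ≃ Fin d × Fin n) (P : GL ιS F) (G1 : Matrix (Fin d) (Fin d) F) (G2 : Matrix (Fin n) (Fin n) F)
      (hgram : gram e P = G1 ⊗ₖ G2) (h1 : G1ᵀ = G1) (h2 : G2ᵀ = -G2) (h2d : ∀ i, G2 i i = 0)
      (hfac : ∀ g ∈ H, ∃ (a : GL (Fin d) F) (b : GL (Fin n) F),
        (g : 𝕄) = tmat e P ((a : Matrix (Fin d) (Fin d) F) ⊗ₖ (b : Matrix (Fin n) (Fin n) F))) :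
      Case H := by
    have hswap : ∀ (X : Matrix (Fin d) (Fin d) F) (Y : Matrix (Fin n) (Fin n) F),
        tmat (e.trans (Equiv.prodComm _ _)) P (Y ⊗ₖ X) = tmat e P (X ⊗ₖ Y) := fun X Y => by
      refine congrArg (cj P) ?_
      ext i j
      simp [mul_comm]
    refine case_tensor_aux hH hn hd (e.trans (Equiv.prodComm _ _)) P G2 G1 ?_ h2 h2d h1 fun g hg => ?_
    · ext p q
      have h := congrFun (congrFun hgram p.swap) q.swap
      simp only [gram, Matrix.reindex_apply, Matrix.submatrix_apply, kroneckerMap_apply] at h ⊢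
      rw [mul_comm]
      exact h
    · obtain ⟨a, b, hab⟩ := hfac g hg
      exact ⟨b, a, by rw [hswap]; exact hab⟩

end CfsgLib.AschSp
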