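import Cfsg.Agent.Lib.AschSp.Tensor
import Cfsg.Agent.Lib.AschU.Tensor
import Cfsg.Agent.Lib.Char.Burnside

/-!
Tensor powers: the symplectic form is a tensor power of an alternating form in odd characteristic, and a
quadratic form is preserved in even characteristic.
-/

set_option autoImplicit false
set_option linter.unusedSectionVars false
set_option linter.style.haveILetI false

namespace CfsgLib.AschSp

open Matrix Cfsg.Geo CfsgLib.Aschbacher
open CfsgLib.AschU (slotHom slotHom_apply exists_inner_of_range smul_of_pureMat_eq pureMat_smul map_conj_mul)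
open scoped MatrixGroups

variable {m : ℕ} {F : Type*} [Field F] {κ : Type} [Fintype κ] [DecidableEq κ]

local notation "ιS" => (Fin m ⊕ Fin m)
local notation "𝕄" => Matrix (Fin m ⊕ Fin m) (Fin m ⊕ Fin m) F
local notation "sf" => Cfsg.sympForm m F

theorem slotFactor_tmat {d t : ℕ} (e : ιS ≃ (Fin t → Fin d)) (P : GL ιS F) (i : Fin t)
    (x : Matrix (Fin d) (Fin d) F) :
    slotFactor e P i x = tmat e P (pureMat (Function.update (fun _ => 1) i x)) := rfl

theorem gram_similitude (e : ιS ≃ κ) (P : GL ιS F) {g : GL ιS F}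
    (hg : g ∈ similarityGroup (Cfsg.sympForm m F)) {U : Matrix κ κ F} (hU : (g : 𝕄) = tmat e P U) :
    ∃ c : F, c ≠ 0 ∧ Uᵀ * gram e P * U = c • gram e P := by
  obtain ⟨c, hc0, hc⟩ := adj_similitude hg
  obtain ⟨Y, hY, hY'⟩ := exists_adj_tmat e P U
  have hYU : Y * U = c • 1 := (tmat e P).injective (by
    rw [map_mul, ← hY', ← hU, hc, map_smul, map_one, Matrix.smul_mul, ← Units.val_mul, inv_mul_cancel,
      Units.val_one])
  exact ⟨c, hc0, by rw [hY, mul_assoc, hYU, Matrix.mul_smul, mul_one]⟩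

theorem tmat_change (e : ιS ≃ κ) (P : GL ιS F) (Q : GL κ F) (X : Matrix κ κ F) :
    tmat e (P * glReindex e.symm Q) X = tmat e P (cj Q X) := by
  show cj (P * glReindex e.symm Q) (Matrix.reindexAlgEquiv F F e.symm X) =
    cj P (Matrix.reindexAlgEquiv F F e.symm (cj Q X))
  rw [cj_mul]
  congr 1
  rw [cj_apply, cj_apply, map_mul, map_mul]
  rfl

theorem gram_change (e : ιS ≃ κ) (P : GL ιS F) (Q : GL κ F) :
    gram e (P * glReindex e.symm Q) = (Q : Matrix κ κ F)ᵀ * gram e P * (Q : Matrix κ κ F) := by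
  set R := Matrix.reindexAlgEquiv F F e with hR
  have hQ : R ((glReindex e.symm Q : GL ιS F) : 𝕄) = (Q : Matrix κ κ F) := by
    ext i j; simp [hR, glReindex]
  have hT : ∀ x : 𝕄, R xᵀ = (R x)ᵀ := fun x => by ext i j; rfl
  show R (((P * glReindex e.symm Q : GL ιS F) : 𝕄)ᵀ * Matrix.J (Fin m) F *
    ((P * glReindex e.symm Q : GL ιS F) : 𝕄)) = (Q : Matrix κ κ F)ᵀ *
      R ((P : 𝕄)ᵀ * Matrix.J (Fin m) F * (P : 𝕄)) * (Q : Matrix κ κ F)
  rw [Units.val_mul, Matrix.transpose_mul]
  simp only [map_mul, hT, hQ, mul_assoc]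

theorem pureMat_transpose {t : ℕ} (a : Fin t → Matrix κ κ F) :
    (pureMat a)ᵀ = pureMat fun j => (a j)ᵀ := by
  ext p q; rfl

theorem permMat_one {t : ℕ} :
    (permMat (1 : Equiv.Perm (Fin t)) : Matrix (Fin t → κ) (Fin t → κ) F) = 1 := by
  ext p q
  simp [permMat, Matrix.one_apply, eq_comm]

theorem permMat_transpose {t : ℕ} (σ : Equiv.Perm (Fin t)) :
    (permMat σ : Matrix (Fin t → κ) (Fin t → κ) F)ᵀ = permMat σ.symm := by
  ext p q
  simp only [permMat, transpose_apply, Matrix.of_apply]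
  refine if_congr ⟨fun h => ?_, fun h => ?_⟩ rfl rfl <;>
  · subst h; funext j; simp

theorem permMat_mul {t : ℕ} (σ τ : Equiv.Perm (Fin t)) :
    (permMat σ : Matrix (Fin t → κ) (Fin t → κ) F) * permMat τ = permMat (σ * τ) := by
  ext p q
  rw [permMat_mul_apply]
  rfl

/-- A permutation matrix conjugates pure tensors. -/
theorem permMat_conj {t : ℕ} (σ : Equiv.Perm (Fin t)) (A : Fin t → Matrix κ κ F) :
    (permMat σ : Matrix (Fin t → κ) (Fin t → κ) F)ᵀ * pureMat A * permMat σ =
      pureMat fun j => A (σ j) := by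
  have h := pureMat_mul_permMat σ fun j => A (σ j)
  simp only [Equiv.apply_symm_apply] at h
  rw [mul_assoc, h, ← mul_assoc, permMat_transpose, permMat_mul]
  rw [show σ.symm * σ = 1 from inv_mul_cancel σ, permMat_one, one_mul]

theorem exists_perm_pure {d t : ℕ} {g : GL (Fin t → Fin d) F} (hg : g ∈ tensorWreathStandard d t F) :
    ∃ (σ : Equiv.Perm (Fin t)) (a : Fin t → GL (Fin d) F),
      (g : Matrix (Fin t → Fin d) (Fin t → Fin d) F) =
        permMat σ * pureMat fun j => (a j : Matrix (Fin d) (Fin d) F) := by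
  induction hg using Subgroup.closure_induction with
  | mem g hg =>
    rcases hg with ⟨gs, h⟩ | ⟨σ, h⟩
    · exact ⟨1, gs, by rw [permMat_one, one_mul]; ext p q; exact h p q⟩
    · refine ⟨σ, fun _ => 1, ?_⟩
      simp only [Units.val_one, pureMat_one, mul_one]
      ext p q; exact h p q
  | one => exact ⟨1, fun _ => 1, by simp [permMat_one, pureMat_one]⟩
  | mul g g' _ _ ih ih' =>
    obtain ⟨σ, a, h⟩ := ih
    obtain ⟨τ, b, h'⟩ := ih'
    refine ⟨σ * τ, fun j => a (τ j) * b j, ?_⟩
    have hh := pureMat_mul_permMat τ fun j => (a (τ j) : Matrix (Fin d) (Fin d) F)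
    simp only [Equiv.apply_symm_apply] at hh
    rw [Units.val_mul, h, h', mul_assoc, ← mul_assoc (pureMat _), hh, mul_assoc, pureMat_mul, ← mul_assoc,
      permMat_mul]
    simp only [Units.val_mul]
  | inv g _ ih =>
    obtain ⟨σ, a, h⟩ := ih
    refine ⟨σ.symm, fun j => (a (σ.symm j))⁻¹, Units.inv_eq_of_mul_eq_one_right ?_⟩
    have hh := pureMat_mul_permMat σ.symm fun j => (a (σ.symm j) : Matrix (Fin d) (Fin d) F)
    simp only [Equiv.symm_symm, Equiv.symm_apply_apply] at hh
    rw [h, mul_assoc, ← mul_assoc (pureMat _), hh, mul_assoc, pureMat_mul, ← mul_assoc, permMat_mul,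
      show σ * σ.symm = 1 from mul_inv_cancel σ, permMat_one, one_mul]
    simp [pureMat_one]

theorem exists_perm_tmat {d t : ℕ} {e : ιS ≃ (Fin t → Fin d)} {P g : GL ιS F}
    (hg : g ∈ tensorWreathSubgroup d t e P) :
    ∃ (σ : Equiv.Perm (Fin t)) (a : Fin t → GL (Fin d) F),
      (g : 𝕄) = tmat e P (permMat σ * pureMat fun j => (a j : Matrix (Fin d) (Fin d) F)) := by
  obtain ⟨_, ⟨k, hk, rfl⟩, rfl⟩ := hg
  obtain ⟨σ, a, h⟩ := exists_perm_pure hk
  exact ⟨σ, a, by rw [← h]; rfl⟩

theorem cj_slot {d t : ℕ} {e : ιS ≃ (Fin t → Fin d)} {P g : GL ιS F} {σ : Equiv.Perm (Fin t)}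
    {a : Fin t → GL (Fin d) F}
    (h : (g : 𝕄) = tmat e P (permMat σ * pureMat fun j => (a j : Matrix (Fin d) (Fin d) F)))
    (i : Fin t) (x : Matrix (Fin d) (Fin d) F) :
    cj g (slotFactor e P i x) = slotFactor e P (σ i) (cj (a i) x) := by
  rw [slotFactor_tmat, slotFactor_tmat]
  refine cj_tmat e P h ?_
  have : Function.update (fun _ : Fin t => (1 : Matrix (Fin d) (Fin d) F)) (σ i) (cj (a i) x) =
      fun j => Function.update (fun _ : Fin t => (1 : Matrix (Fin d) (Fin d) F)) i (cj (a i) x) (σ.symm j) := by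
    funext j
    rcases eq_or_ne j (σ i) with rfl | hj
    · simp
    · rw [Function.update_of_ne hj, Function.update_of_ne]
      exact fun h => hj (by rw [← h]; simp)
  rw [this, ← mul_assoc, pureMat_mul_permMat, mul_assoc, mul_assoc, pureMat_mul, pureMat_mul]
  congr 2
  funext j
  rcases eq_or_ne j i with rfl | hj
  · simp [cj_apply, mul_assoc]
  · simp [Function.update_of_ne hj]

theorem commute_slot {d t : ℕ} (e : ιS ≃ (Fin t → Fin d)) (P : GL ιS F) {i j : Fin t} (hij : i ≠ j)
    (x y : Matrix (Fin d) (Fin d) F) : Commute (slotFactor e P i x) (slotFactor e P j y) := by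
  rw [slotFactor_tmat, slotFactor_tmat, Commute, SemiconjBy, ← map_mul, ← map_mul, pureMat_mul, pureMat_mul]
  congr 2
  funext l
  rcases eq_or_ne l i with rfl | hl
  · simp [Function.update_of_ne hij]
  · simp [Function.update_of_ne hl]

theorem slot_inj {d t : ℕ} (e : ιS ≃ (Fin t → Fin d)) (P : GL ιS F) (hd : 2 ≤ d) {i j : Fin t}
    (h : Set.range (slotFactor e P i) ⊆ Set.range (slotFactor e P j)) : i = j := by
  by_contra hij
  obtain ⟨y, hy⟩ := h ⟨Matrix.single ⟨0, by omega⟩ ⟨1, by omega⟩ 1, rfl⟩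
  rw [slotFactor_tmat, slotFactor_tmat] at hy
  have h2 := congrFun (congrFun ((tmat e P).injective hy) fun _ => ⟨0, by omega⟩)
    (Function.update (fun _ => ⟨0, by omega⟩) i ⟨1, by omega⟩)
  rw [slot_apply, slot_apply, if_neg (fun h => by simpa [Fin.ext_iff] using h i hij),
    if_pos (fun l hl => by rw [Function.update_of_ne hl])] at h2
  simp at h2

/-- Stable slots: the Gram matrix is a pure tensor. -/
theorem exists_pure_gram {d t : ℕ} [NeZero d] (ht : 0 < t) (e : ιS ≃ (Fin t → Fin d)) (P : GL ιS F)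
    (hA : ∀ i x, ∃ x', adj (slotFactor e P i x) = slotFactor e P i x') :
    ∃ A : Fin t → Matrix (Fin d) (Fin d) F, gram e P = pureMat A ∧ ∀ j, IsUnit (A j) := by
  classical
  have hNu : IsUnit (gram e P) := gram_isUnit e P
  have hrange : ∀ i y, ∃ y', slotHom i y * gram e P = gram e P * slotHom i y' := by
    intro i y
    obtain ⟨x', hx'⟩ := hA i yᵀ
    rw [slotFactor_tmat, slotFactor_tmat] at hx'
    have h := of_adj_tmat e P hx'
    rw [pureMat_transpose] at h
    refine ⟨x', ?_⟩
    rw [slotHom_apply, slotHom_apply, ← h]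
    congr 2
    funext j
    rcases eq_or_ne j i with rfl | hj
    · simp
    · simp [Function.update_of_ne hj]
  choose a ha using fun i => exists_inner_of_range (slotHom i) hNu (hrange i)
  have hcomm : ∀ i x, Commute (gram e P * pureMat fun j => (a j : Matrix (Fin d) (Fin d) F))
      (pureMat (Function.update (fun _ => 1) i x)) := by
    intro i x
    have hsplit : (pureMat fun j => (a j : Matrix (Fin d) (Fin d) F)) =
        slotHom i (a i : Matrix (Fin d) (Fin d) F) *
          pureMat (Function.update (fun j => (a j : Matrix (Fin d) (Fin d) F)) i 1) := by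
      rw [slotHom_apply, pureMat_mul]
      congr 1
      funext j
      rcases eq_or_ne j i with rfl | hj
      · simp
      · simp [Function.update_of_ne hj]
    rw [hsplit, ← mul_assoc]
    refine Commute.mul_left (ha i x).symm ?_
    show _ * _ = _ * _
    rw [pureMat_mul, pureMat_mul]
    congr 1
    funext j
    rcases eq_or_ne j i with rfl | hj
    · simp
    · simp [Function.update_of_ne hj]
  obtain ⟨c, hc⟩ := scalar_of_commute_slots _ hcomm
  let i₀ : Fin t := ⟨0, ht⟩
  let A : Fin t → Matrix (Fin d) (Fin d) F :=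
    Function.update (fun j => (((a j)⁻¹ : GL (Fin d) F) : Matrix (Fin d) (Fin d) F)) i₀
      (c • (((a i₀)⁻¹ : GL (Fin d) F) : Matrix (Fin d) (Fin d) F))
  have hN : gram e P = pureMat A := by
    have h := congrArg (· * pureMat fun j => (((a j)⁻¹ : GL (Fin d) F) : Matrix (Fin d) (Fin d) F)) hc
    simp only [mul_assoc, pureMat_mul, Units.mul_inv, pureMat_one, mul_one, Matrix.smul_mul,
      one_mul] at h
    rw [h, pureMat_smul_update]
  have hc0 : c ≠ 0 := by
    intro h0
    refine hNu.ne_zero ?_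
    rw [hN, pureMat_smul_update, h0, zero_smul]
  refine ⟨A, hN, fun j => ?_⟩
  rcases eq_or_ne j i₀ with rfl | hj
  · simp only [A, Function.update_self]
    rw [Matrix.isUnit_iff_isUnit_det, Matrix.det_smul]
    exact ((isUnit_iff_ne_zero.2 hc0).pow _).mul ((Matrix.isUnit_iff_isUnit_det _).1 (a i₀)⁻¹.isUnit)
  · simp only [A, Function.update_of_ne hj]
    exact Units.isUnit _

/-- The slots are equivalent: after a change of basis the Gram matrix is a tensor power. -/
theorem exists_power_gram [Fintype F] {G : Subgroup (GL ιS F)}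
    (hG : G ≤ similarityGroup (Cfsg.sympForm m F)) {t d : ℕ} [NeZero d] (ht : 0 < t)
    {e : ιS ≃ (Fin t → Fin d)} {P : GL ιS F}
    (hA : ∀ i x, ∃ x', adj (slotFactor e P i x) = slotFactor e P i x')
    (hle : G ≤ tensorWreathSubgroup d t e P)
    (htrans : ∀ j : Fin t, ∃ g ∈ G, ∀ x, ∃ y,
      cj g (slotFactor e P ⟨0, ht⟩ x) = slotFactor e P j y) (hd : 2 ≤ d) :
    ∃ (P' : GL ιS F) (A0 : Matrix (Fin d) (Fin d) F) (C : F), C ≠ 0 ∧ IsUnit A0 ∧
      gram e P' = C • pureMat (fun _ => A0) ∧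
      tensorWreathSubgroup d t e P' = tensorWreathSubgroup d t e P ∧
      ∀ i, Set.range (slotFactor e P' i) = Set.range (slotFactor e P i) := by
  classical
  obtain ⟨A, hN, hAu⟩ := exists_pure_gram ht e P hA
  set i₀ : Fin t := ⟨0, ht⟩
  have hstep : ∀ j, ∃ (u : GL (Fin d) F) (ν : F),
      (u : Matrix (Fin d) (Fin d) F)ᵀ * A j * (u : Matrix (Fin d) (Fin d) F) = ν • A i₀ := by
    intro j
    obtain ⟨g, hg, hgj⟩ := htrans j
    obtain ⟨σ, a, h⟩ := exists_perm_tmat (hle hg)
    have hσ : σ i₀ = j := by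
      refine slot_inj e P hd ?_
      rintro _ ⟨x, rfl⟩
      obtain ⟨y, hy⟩ := hgj (cj (a i₀)⁻¹ x)
      rw [cj_slot h, cj_cj_inv] at hy
      exact ⟨y, hy.symm⟩
    obtain ⟨c, hc0, hc⟩ := gram_similitude e P (hG hg) h
    rw [hN, transpose_mul, ← mul_assoc, mul_assoc _ _ (pureMat A), mul_assoc _ _ (permMat σ),
      permMat_conj, pureMat_transpose, pureMat_mul, pureMat_mul, ← pureMat_smul_update A i₀ c] at hc
    have hne : ∀ l, Function.update A i₀ (c • A i₀) l ≠ 0 := by
      intro l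
      rcases eq_or_ne l i₀ with rfl | hl
      · rw [Function.update_self]; exact smul_ne_zero hc0 (hAu _).ne_zero
      · rw [Function.update_of_ne hl]; exact (hAu _).ne_zero
    obtain ⟨c', hc'⟩ := smul_of_pureMat_eq hne hc.symm i₀
    rw [hσ, Function.update_self, smul_smul] at hc'
    exact ⟨a i₀, c' * c, hc'⟩
  choose u ν hu using hstep
  let Q : GL (Fin t → Fin d) F :=
    { val := pureMat fun j => (u j : Matrix (Fin d) (Fin d) F)
      inv := pureMat fun j => (((u j)⁻¹ : GL (Fin d) F) : Matrix (Fin d) (Fin d) F)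
      val_inv := by rw [pureMat_mul]; simp [pureMat_one]
      inv_val := by rw [pureMat_mul]; simp [pureMat_one] }
  have hgram : gram e (P * glReindex e.symm Q) = (∏ j, ν j) • pureMat fun _ => A i₀ := by
    rw [gram_change, hN]
    show (pureMat fun j => (u j : Matrix (Fin d) (Fin d) F))ᵀ * pureMat A * pureMat (fun j => (u j : _)) = _
    rw [pureMat_transpose, pureMat_mul, pureMat_mul, ← pureMat_smul]
    exact congrArg pureMat (funext hu)
  refine ⟨P * glReindex e.symm Q, A i₀, ∏ j, ν j, fun h0 => ?_, hAu _, hgram, ?_, fun i => ?_⟩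
  · rw [h0, zero_smul] at hgram
    exact (gram_isUnit e _).ne_zero hgram
  · exact map_conj_mul _ P ⟨Q, Subgroup.subset_closure (Or.inl ⟨u, fun p q => rfl⟩), rfl⟩
  · have hcj : ∀ x, slotFactor e (P * glReindex e.symm Q) i x = slotFactor e P i (cj (u i) x) := fun x => by
      rw [slotFactor_tmat, slotFactor_tmat, tmat_change]
      congr 1
      show (pureMat fun j => (u j : Matrix (Fin d) (Fin d) F)) *
        pureMat (Function.update (fun _ => 1) i x) *
        (pureMat fun j => (((u j)⁻¹ : GL (Fin d) F) : Matrix (Fin d) (Fin d) F)) = _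
      rw [pureMat_mul, pureMat_mul]
      congr 1
      funext j
      rcases eq_or_ne j i with rfl | hj
      · simp [cj_apply]
      · simp [Function.update_of_ne hj]
    ext z
    exact ⟨fun ⟨x, hx⟩ => ⟨_, (hcj x).symm.trans hx⟩,
      fun ⟨x, hx⟩ => ⟨cj (u i)⁻¹ x, by rw [hcj, cj_cj_inv, hx]⟩⟩

/-- A perfect group spanning a slot of dimension two forces more than three elements in the field. -/
theorem not_three_two [Fintype F] {t d : ℕ} (e : ιS ≃ (Fin t → Fin d)) (P : GL ιS F) (i : Fin t)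
    {L : Subgroup (GL ιS F)} (hperf : ⁅L, L⁆ = L)
    (hA : (alg L : Set 𝕄) = Set.range (slotFactor e P i)) : ¬ (Fintype.card F = 3 ∧ d = 2) := by
  classical
  rintro ⟨h3, rfl⟩
  haveI : Nonempty ιS := ⟨e.symm fun _ => 0⟩
  let E : Matrix (Fin 2) (Fin 2) F →ₐ[F] 𝕄 := ((tmat e P).toAlgHom).comp (slotHom i)
  have hE : ∀ x, E x = slotFactor e P i x := fun x => rfl
  let φ : GL (Fin 2) F →* GL ιS F := Units.map E.toRingHom.toMonoidHom
  have hinj : Function.Injective E := E.toRingHom.injective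
  have hL : L ≤ φ.range := by
    intro g hg
    have h : (g : 𝕄) ∈ (alg L : Set 𝕄) := coe_mem_alg hg
    rw [hA] at h
    obtain ⟨x, hx⟩ := h
    have h' : ((g⁻¹ : GL ιS F) : 𝕄) ∈ (alg L : Set 𝕄) := coe_mem_alg (L.inv_mem hg)
    rw [hA] at h'
    obtain ⟨y, hy⟩ := h'
    refine ⟨⟨x, y, hinj ?_, hinj ?_⟩, Units.ext hx⟩
    · rw [map_mul, map_one, hE, hE, hx, hy, ← Units.val_mul, mul_inv_cancel, Units.val_one]
    · rw [map_mul, map_one, hE, hE, hx, hy, ← Units.val_mul, inv_mul_cancel, Units.val_one]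
  have hsol : Group.IsSolvable (GL (Fin 2) F) := by
    refine CfsgLib.Char.burnside_pq 2 3 Nat.prime_two Nat.prime_three 4 1 _ ?_
    rw [Matrix.card_GL_field, Fin.prod_univ_two, h3]
    rfl
  haveI := hsol
  have hφ : Function.Injective φ := fun a b h => Units.ext (hinj (congrArg Units.val h))
  have hbot : L = ⊥ := by
    rw [← Subgroup.map_comap_eq_self hL]
    have hperf' : ⁅L.comap φ, L.comap φ⁆ = L.comap φ := by
      refine Subgroup.map_injective hφ ?_
      rw [Subgroup.map_commutator, Subgroup.map_comap_eq_self hL, hperf]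
    by_contra hne
    refine (Group.IsSolvable.commutator_lt_of_ne_bot (G := GL (Fin 2) F) fun h => hne ?_).ne hperf'
    rw [h, Subgroup.map_bot]
  have h1 : slotFactor e P i (Matrix.single 0 1 1) ∈ (alg L : Set 𝕄) := by rw [hA]; exact ⟨_, rfl⟩
  have hbot' : alg L = ⊥ := by
    rw [alg, hbot, ← le_bot_iff]
    refine Algebra.adjoin_le ?_
    rintro _ ⟨g, hg, rfl⟩
    rw [show g = 1 from hg]
    exact one_mem _
  rw [SetLike.mem_coe, hbot', Algebra.mem_bot] at h1
  obtain ⟨c, hc⟩ := h1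
  have h2 : E (algebraMap F _ c) = E (Matrix.single 0 1 1) := by rw [AlgHom.commutes, hE, hc]
  have h01 := congrFun (congrFun (hinj h2) 0) 1
  simp [Matrix.algebraMap_matrix_apply] at h01

/-- The tensor-induced case of the core theorem. -/
theorem case_wreath [Fintype F] {H G : Subgroup (GL ιS F)} (hH : H ≤ Cfsg.spGL m F) (hHG : H ≤ G)
    (hG : G ≤ similarityGroup (Cfsg.sympForm m F)) {t d : ℕ} (L : Fin t → Subgroup (GL ιS F))
    (hLG : ∀ i, L i ≤ G)
    (htrans : ∀ i j, ∃ g ∈ G, (L i).map (MulAut.conj g).toMonoidHom = L j)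
    (hperf : ∀ i, L i = ⁅L i, L i⁆ ⊔ scalars ιS F ∧ ⁅⁅L i, L i⁆, ⁅L i, L i⁆⁆ = ⁅L i, L i⁆ ∧
      ¬ L i ≤ scalars ιS F) (e : ιS ≃ (Fin t → Fin d)) (P : GL ιS F) (ht : 2 ≤ t) (hd : 2 ≤ d)
    (hA : ∀ i, (alg (L i) : Set 𝕄) = Set.range (slotFactor e P i))
    (hle : G ≤ tensorWreathSubgroup d t e P) : Case H := by
  classical
  haveI : NeZero d := ⟨by omega⟩
  have hadj : ∀ i x, ∃ x', adj (slotFactor e P i x) = slotFactor e P i x' := fun i x => by
    have hx : slotFactor e P i x ∈ (alg (L i) : Set 𝕄) := by rw [hA]; exact ⟨x, rfl⟩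
    have h : adj (slotFactor e P i x) ∈ (alg (L i) : Set 𝕄) := adj_mem_alg ((hLG i).trans hG) hx
    rw [hA] at h
    obtain ⟨y, hy⟩ := h
    exact ⟨y, hy.symm⟩
  have htr : ∀ j : Fin t, ∃ g ∈ G, ∀ x, ∃ y,
      cj g (slotFactor e P ⟨0, by omega⟩ x) = slotFactor e P j y := by
    intro j
    obtain ⟨g, hg, hgL⟩ := htrans ⟨0, by omega⟩ j
    refine ⟨g, hg, fun x => ?_⟩
    have hsub : alg (L ⟨0, by omega⟩) ≤ (alg (L j)).comap (cj g).toAlgHom := by
      refine Algebra.adjoin_le ?_
      rintro _ ⟨h, hh, rfl⟩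
      show cj g (h : 𝕄) ∈ alg (L j)
      rw [cj_coe]
      exact coe_mem_alg (hgL ▸ ⟨h, hh, rfl⟩)
    have hx : slotFactor e P ⟨0, by omega⟩ x ∈ (alg (L ⟨0, by omega⟩) : Set 𝕄) := by
      rw [hA]; exact ⟨x, rfl⟩
    have h : cj g (slotFactor e P ⟨0, by omega⟩ x) ∈ (alg (L j) : Set 𝕄) := hsub hx
    rw [hA] at h
    obtain ⟨y, hy⟩ := h
    exact ⟨y, hy.symm⟩
  obtain ⟨P', A0, C, hC, hA0, hgram, hwr, hrange⟩ :=
    exists_power_gram hG (by omega) hadj hle htr hd
  rw [← hwr] at hle
  haveI : Nonempty (Fin d) := ⟨⟨0, by omega⟩⟩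
  -- symmetry of the factor
  have hskew := gram_transpose e P'
  rw [hgram, transpose_smul, ← smul_neg, pureMat_transpose] at hskew
  have hsk : pureMat (fun _ : Fin t => A0ᵀ) = -pureMat (fun _ : Fin t => A0) := smul_right_injective _ hC hskew
  have hsk' : pureMat (fun _ : Fin t => A0) =
      pureMat (Function.update (fun _ : Fin t => A0ᵀ) ⟨0, by omega⟩ ((-1 : F) • A0ᵀ)) := by
    rw [pureMat_smul_update, hsk, neg_one_smul, neg_neg]
  have hu1 : ∀ _ : Fin t, A0 ≠ 0 := fun _ => hA0.ne_zero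
  obtain ⟨ε, hε⟩ : ∃ ε : F, A0ᵀ = ε • A0 := by
    obtain ⟨c, hc⟩ := smul_of_pureMat_eq hu1 hsk' ⟨1, by omega⟩
    rw [Function.update_of_ne (by simp [Fin.ext_iff])] at hc
    exact ⟨c, hc⟩
  have hne : pureMat (fun _ : Fin t => A0) ≠ 0 := fun h =>
    (gram_isUnit e P').ne_zero (by rw [hgram, h, smul_zero])
  have hεt : ε ^ t = -1 := by
    rw [hε, pureMat_smul, Finset.prod_const, Finset.card_univ, Fintype.card_fin,
      ← neg_one_smul F (pureMat fun _ => A0)] at hsk
    exact smul_left_injective _ hne hsk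
  have hεε : ε * ε = 1 := by
    have h : A0 = (ε * ε) • A0 := by
      have h := congrArg transpose hε
      rw [transpose_transpose, transpose_smul, hε, smul_smul] at h
      exact h
    exact smul_left_injective _ hA0.ne_zero (by simpa using h.symm)
  by_cases hodd : Odd (Fintype.card F)
  · have h2 := two_ne_zero_of_odd hodd
    have hn1 : (-1 : F) ≠ 1 := fun h => h2 (by linear_combination -h)
    have hε1 : ε = -1 := by
      rcases mul_self_eq_one_iff.1 hεε with h | h
      · exact absurd (by rw [← hεt, h, one_pow]) hn1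
      · exact h
    have htodd : Odd t := by
      rcases Nat.even_or_odd t with he | ho
      · exact absurd (by rw [← hεt, hε1, he.neg_one_pow]) hn1
      · exact ho
    have hd0 : ∀ i, A0 i i = 0 := fun i => by
      have h := congrFun (congrFun hε i) i
      rw [hε1] at h
      simp only [transpose_apply, Matrix.smul_apply, smul_eq_mul] at h
      exact (mul_eq_zero.1 (show (2 : F) * A0 i i = 0 by linear_combination h)).resolve_left h2
    have halg : ∀ i, alg ⁅L i, L i⁆ = alg (L i) := by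
      intro i
      refine le_antisymm (Algebra.adjoin_mono (Set.image_mono
        (Subgroup.commutator_le_self (L i)))) (Algebra.adjoin_le ?_)
      rintro _ ⟨g, hg, rfl⟩
      rw [(hperf i).1] at hg
      obtain ⟨x, hx, z, hz, rfl⟩ := Subgroup.mem_sup_of_normal_right.1 hg
      obtain ⟨c, hc⟩ := (mem_scalars_iff z).1 hz
      show ((x * z : GL ιS F) : 𝕄) ∈ alg ⁅L i, L i⁆
      rw [Units.val_mul, hc, Matrix.mul_smul, mul_one]
      exact Subalgebra.smul_mem _ (coe_mem_alg hx) _
    refine .wreath d t e P' (matForm A0) hodd htodd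
      (by rcases htodd with ⟨l, hl⟩; omega)
      (not_three_two e P _ (hperf ⟨0, by omega⟩).2.1 (by rw [halg]; exact hA _))
      (matForm_symplectic hA0 (by rw [hε, hε1, neg_one_smul]) hd0) ⟨C, hC, fun x y => ?_⟩ (hHG.trans hle)
    rw [form_coords, hgram, gramMatrix_matForm, smul_mulVec, dotProduct_smul, smul_eq_mul]
    congr 1
    simp only [dotProduct, mulVec, Finset.mul_sum, id, pureMat, Matrix.of_apply]
    exact Finset.sum_congr rfl fun a _ => Finset.sum_congr rfl fun b _ => by ring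
  have h20 := two_eq_zero_of_not_odd hodd
  have hn1 : (-1 : F) = 1 := by linear_combination -h20
  have hε1 : ε = 1 := by
    rcases mul_self_eq_one_iff.1 hεε with h | h
    · exact h
    · exact h.trans hn1
  have hd0 : ∀ i, A0 i i = 0 := fun i => by
    have h := gram_diag e P' fun _ => i
    rw [hgram] at h
    simp only [Matrix.smul_apply, pureMat, Matrix.of_apply, Finset.prod_const, smul_eq_mul, mul_eq_zero, hC,
      false_or] at h
    exact pow_eq_zero_iff (by simp; omega) |>.1 h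
  have hsym : A0ᵀ = -A0 := by rw [hε, hε1, ← neg_one_smul F A0, hn1]
  obtain ⟨x, x', hx, hxx⟩ := exists_half hA0 hsym hd0 h20
  have hkadj : ∀ i, adj (slotFactor e P' i x) = slotFactor e P' i x' := by
    intro i
    rw [slotFactor_tmat, slotFactor_tmat]
    apply adj_tmat
    rw [hgram, Matrix.mul_smul, Matrix.smul_mul, pureMat_transpose, pureMat_mul, pureMat_mul]
    congr 2
    funext j
    rcases eq_or_ne j i with rfl | hj
    · simp [hx]
    · simp [Function.update_of_ne hj]
  have hk : ∀ i, slotFactor e P' i x + adj (slotFactor e P' i x) = 1 := by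
    intro i
    rw [hkadj, slotFactor_tmat, slotFactor_tmat, ← map_add, ← slotHom_apply, ← slotHom_apply, ← map_add, hxx,
      map_one, map_one]
  let i₀ : Fin t := ⟨0, by omega⟩
  let i₁ : Fin t := ⟨1, by omega⟩
  have h01 : i₀ ≠ i₁ := by simp [i₀, i₁, Fin.ext_iff]
  have hall : ∀ j v, qOf (slotFactor e P' j x) v = qOf (slotFactor e P' i₀ x) v := by
    intro j v
    rcases eq_or_ne j i₀ with rfl | hj
    · rfl
    · exact qOf_eq_of_commute h20 (hk j) (hk i₀) (by rw [hkadj]; exact commute_slot e P' hj _ _) v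
  refine case_of_qOf hH hodd _ (hk i₀) fun g hg v => ?_
  obtain ⟨σ, a, h⟩ := exists_perm_tmat (hle (hHG hg))
  have hk' : cj g (slotFactor e P' i₀ x) + adj (cj g (slotFactor e P' i₀ x)) = 1 := by
    rw [adj_cj (hG (hHG hg)), ← map_add, hk, map_one]
  obtain ⟨j, hj⟩ : ∃ j, σ i₀ ≠ j := by
    by_cases h' : σ i₀ = i₀
    · exact ⟨i₁, by rw [h']; exact h01⟩
    · exact ⟨i₀, h'⟩
  rw [qOf_eq_of_commute h20 hk' (hk j) (by
    rw [adj_cj (hG (hHG hg)), hkadj, cj_slot h]; exact commute_slot e P' hj _ _) v, hall]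

end CfsgLib.AschSp
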