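import Cfsg.Agent.Lib.AschSp.CentreCases
import Cfsg.Agent.Lib.AschSp.Tensor
import Cfsg.Agent.Lib.AschSp.Wreath
import Cfsg.Agent.Lib.AschSp.SympType
import Cfsg.Agent.Lib.AschSp.AlmostSimple

/-!
Aschbacher's theorem for the symplectic groups.
-/

set_option autoImplicit false
set_option linter.unusedSectionVars false
set_option linter.style.haveILetI false

namespace CfsgLib.AschSp

open Matrix Cfsg.Geo CfsgLib.Aschbacher
open scoped MatrixGroups

variable {m : ℕ} {F : Type*} [Field F]

local notation "ιS" => (Fin m ⊕ Fin m)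

/-- Every subgroup of the symplectic group falls in one of the cases. -/
theorem case_all [Fintype F] (hm : 0 < m) {H : Subgroup (GL ιS F)} (hH : H ≤ Cfsg.spGL m F) : Case H := by
  classical
  by_cases hirr : ActsIrreducibly (matrixSet H)
  swap
  · exact case_reducible hH hirr
  have hG : H ⊔ scalars ιS F ≤ similarityGroup (Cfsg.sympForm m F) :=
    sup_le (hH.trans spGL_le_similarityGroup) scalars_le_similarityGroup
  have hHG : H ≤ H ⊔ scalars ιS F := le_sup_left
  have hirrG : ActsIrreducibly (matrixSet (H ⊔ scalars ιS F)) := fun W hW =>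
    hirr W fun s hs => hW s (Set.image_mono hHG hs)
  rcases core (by rw [Fintype.card_sum, Fintype.card_fin]; omega) hirrG le_sup_right with
    ⟨L, hLG, _, t, E, hE⟩ | ⟨L, hLG, hL, hinv, hdim⟩ | ⟨L, hLG, _, d, n, e, P, hd, hn, hA, hle⟩ |
    ⟨t, d, L, hLG, _, htrans, e, P, ht, hd, hA, hle, hperf⟩ | ⟨r, k, R, hRG, hR, hdata⟩ | ⟨P, hP⟩
  · exact case_idemSystem hH hHG hG hLG hE
  · exact case_field hH hHG hG hLG hL hinv hdim
  · exact case_tensor hH hHG hG hLG hd hn e P hA hle
  · exact case_wreath hH hHG hG L hLG htrans hperf e P ht hd hA hle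
  · exact case_sympType hH hHG hG hm hRG hR hdata
  · exact case_almostSimple hH hm hP

end CfsgLib.AschSp
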