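import Cfsg.Agent.Lib.AschSp.TwoFactor

/-!
Symmetric forms of plus type in four variables: they are tensor squares of the alternating form in two
variables, and their similitudes are pure tensors up to the exchange of the factors.
-/

set_option autoImplicit false
set_option linter.unusedSectionVars false

namespace CfsgLib.AschSp.PlusFour

open Matrix Cfsg.Geo CfsgLib.Aschbacher
open scoped MatrixGroups Kronecker

variable {F : Type*} [Field F]

local notation "M₂" => Matrix (Fin 2) (Fin 2) F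
local notation "κ₂" => (Fin 2 × Fin 2)
local notation "G₄" => ((Two.alt : Matrix (Fin 2) (Fin 2) F) ⊗ₖ (Two.alt : Matrix (Fin 2) (Fin 2) F))

theorem g4_sq : G₄ * G₄ = 1 := by
  rw [← mul_kronecker_mul, Two.alt_sq]
  ext p q
  simp [Matrix.one_apply, Prod.ext_iff]
  split_ifs <;> simp_all

theorem g4_form (x y : κ₂ → F) : x ⬝ᵥ (G₄ *ᵥ y) =
    x (0, 0) * y (1, 1) + x (1, 1) * y (0, 0) - x (0, 1) * y (1, 0) - x (1, 0) * y (0, 1) := by
  simp [dotProduct, mulVec, Fintype.sum_prod_type, Fin.sum_univ_two, kroneckerMap_apply, Two.alt]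
  ring

/-- Singular vectors are pure. -/
theorem exists_pure {x : κ₂ → F} (hx : x (0, 0) * x (1, 1) = x (0, 1) * x (1, 0)) :
    ∃ a b : Fin 2 → F, ∀ p, x p = a p.1 * b p.2 := by
  by_cases h00 : x (0, 0) = 0
  · rw [h00, zero_mul, eq_comm, mul_eq_zero] at hx
    rcases hx with h | h
    · refine ⟨![0, 1], ![x (1, 0), x (1, 1)], ?_⟩
      rintro ⟨i, k⟩; fin_cases i <;> fin_cases k <;> simp [h00, h]
    · refine ⟨![x (0, 1), x (1, 1)], ![0, 1], ?_⟩
      rintro ⟨i, k⟩; fin_cases i <;> fin_cases k <;> simp [h00, h]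
  · refine ⟨![x (0, 0), x (1, 0)], ![1, x (0, 1) / x (0, 0)], ?_⟩
    rintro ⟨i, k⟩; fin_cases i <;> fin_cases k <;> simp
    · field_simp
    · field_simp; linear_combination hx

/-- The exchange of the two factors. -/
def swapMat : Matrix κ₂ κ₂ F := Matrix.of fun r p => if r = (p.2, p.1) then 1 else 0

theorem swapMat_sq : (swapMat : Matrix κ₂ κ₂ F) * swapMat = 1 := by
  ext ⟨a, b⟩ ⟨c, d⟩
  fin_cases a <;> fin_cases b <;> fin_cases c <;> fin_cases d <;>
    simp [swapMat, Matrix.mul_apply, Fintype.sum_prod_type, Fin.sum_univ_two, Matrix.one_apply]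

theorem diag_kron (r : F) : (!![1, 0; 0, r⁻¹] : M₂) ⊗ₖ (!![1, 0; 0, r] : M₂) =
    Matrix.diagonal fun p : κ₂ => (![1, r⁻¹] : Fin 2 → F) p.1 * (![1, r] : Fin 2 → F) p.2 := by
  ext ⟨a, b⟩ ⟨c, d⟩
  fin_cases a <;> fin_cases b <;> fin_cases c <;> fin_cases d <;> simp [Matrix.diagonal]

/-- The similitudes of the plus form in four variables. -/
theorem exists_factor (h2 : (2 : F) ≠ 0) {C : Matrix κ₂ κ₂ F} {μ : F} (hμ : μ ≠ 0)
    (hC : Cᵀ * G₄ * C = μ • G₄) :
    ∃ A B : M₂, C = A ⊗ₖ B ∨ C = A ⊗ₖ B * swapMat := by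
  classical
  have hform : ∀ {C : Matrix κ₂ κ₂ F} {μ : F}, Cᵀ * G₄ * C = μ • G₄ → ∀ p q,
      C (0, 0) p * C (1, 1) q + C (1, 1) p * C (0, 0) q - C (0, 1) p * C (1, 0) q - C (1, 0) p * C (0, 1) q =
        μ * (G₄ p q) := by
    intro C μ hC p q
    rw [← g4_form (fun r => C r p) (fun r => C r q)]
    have h := congrFun (congrFun hC p) q
    rw [mul_assoc, Matrix.smul_apply, smul_eq_mul] at h
    rw [← h]
    rfl
  have hsing : ∀ p, C (0, 0) p * C (1, 1) p = C (0, 1) p * C (1, 0) p := fun p => by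
    have h := hform hC p p
    have hd : G₄ p p = 0 := by
      obtain ⟨a, b⟩ := p
      fin_cases a <;> fin_cases b <;> simp [Two.alt]
    rw [hd, mul_zero] at h
    exact mul_left_cancel₀ h2 (by linear_combination h)
  obtain ⟨a₀, b₀, h₀⟩ := exists_pure (x := fun r => C r (0, 0)) (hsing _)
  obtain ⟨a₁, b₁, h₁⟩ := exists_pure (x := fun r => C r (1, 1)) (hsing _)
  obtain ⟨A, hA⟩ : ∃ A : M₂, A = !![a₀ 0, a₁ 0; a₀ 1, a₁ 1] := ⟨_, rfl⟩
  obtain ⟨B, hB⟩ : ∃ B : M₂, B = !![b₀ 0, b₁ 0; b₀ 1, b₁ 1] := ⟨_, rfl⟩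
  have hdet : A.det * B.det = μ := by
    have h := hform hC (0, 0) (1, 1)
    have e₀ := fun r => h₀ r
    have e₁ := fun r => h₁ r
    rw [e₀, e₀, e₀, e₀, e₁, e₁, e₁, e₁] at h
    simp [Two.alt] at h
    rw [hA, hB, Matrix.det_fin_two_of, Matrix.det_fin_two_of]
    linear_combination h
  have hAu : IsUnit A := (Matrix.isUnit_iff_isUnit_det _).2
    (isUnit_iff_ne_zero.2 fun h => hμ (by rw [← hdet, h, zero_mul]))
  have hBu : IsUnit B := (Matrix.isUnit_iff_isUnit_det _).2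
    (isUnit_iff_ne_zero.2 fun h => hμ (by rw [← hdet, h, mul_zero]))
  obtain ⟨⟨a, rfl⟩, ⟨b, rfl⟩⟩ := And.intro hAu hBu
  obtain ⟨D, hD⟩ : ∃ D, D = (((a⁻¹ : GL (Fin 2) F) : M₂) ⊗ₖ ((b⁻¹ : GL (Fin 2) F) : M₂)) * C := ⟨_, rfl⟩
  have hCD : C = ((a : M₂) ⊗ₖ (b : M₂)) * D := by
    rw [hD, ← mul_assoc, ← mul_kronecker_mul, Units.mul_inv, Units.mul_inv, one_kronecker_one, one_mul]
  have hDform : Dᵀ * G₄ * D = (1 : F) • G₄ := by
    have h : ((a : M₂) ⊗ₖ (b : M₂))ᵀ * G₄ * ((a : M₂) ⊗ₖ (b : M₂)) = μ • G₄ := by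
      rw [← kroneckerMap_transpose, ← mul_kronecker_mul, ← mul_kronecker_mul, Two.alt_conj, Two.alt_conj,
        smul_kronecker, kronecker_smul, smul_smul, hdet]
    have h' : Dᵀ * (((a : M₂) ⊗ₖ (b : M₂))ᵀ * G₄ * ((a : M₂) ⊗ₖ (b : M₂))) * D = μ • G₄ := by
      rw [← hC, hCD, transpose_mul]; simp only [mul_assoc]
    rw [h, Matrix.mul_smul, Matrix.smul_mul] at h'
    rw [one_smul]
    exact smul_right_injective _ hμ h'
  have hcol : ∀ s : Fin 2, ∀ r : κ₂, D r (s, s) = if r = (s, s) then 1 else 0 := by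
    intro s r
    have hv : ∀ r : κ₂, C r (s, s) = (a : M₂) r.1 s * (b : M₂) r.2 s := by
      intro r
      rw [hA, hB]
      obtain ⟨i, k⟩ := r
      rcases (by omega : s = 0 ∨ s = 1) with rfl | rfl
      · rw [show C (i, k) (0, 0) = a₀ i * b₀ k from h₀ (i, k)]; fin_cases i <;> fin_cases k <;> simp
      · rw [show C (i, k) (1, 1) = a₁ i * b₁ k from h₁ (i, k)]; fin_cases i <;> fin_cases k <;> simp
    rw [hD, Matrix.mul_apply, Fintype.sum_prod_type]
    simp only [kroneckerMap_apply, hv]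
    have ea : ∑ x, ((a⁻¹ : GL (Fin 2) F) : M₂) r.1 x * (a : M₂) x s = if r.1 = s then 1 else 0 := by
      rw [← Matrix.mul_apply, Units.inv_mul, Matrix.one_apply]
    have eb : ∑ x, ((b⁻¹ : GL (Fin 2) F) : M₂) r.2 x * (b : M₂) x s = if r.2 = s then 1 else 0 := by
      rw [← Matrix.mul_apply, Units.inv_mul, Matrix.one_apply]
    calc _ = (∑ x, ((a⁻¹ : GL (Fin 2) F) : M₂) r.1 x * (a : M₂) x s) *
        (∑ x, ((b⁻¹ : GL (Fin 2) F) : M₂) r.2 x * (b : M₂) x s) := by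
          rw [Finset.sum_mul_sum]
          exact Finset.sum_congr rfl fun x _ => Finset.sum_congr rfl fun y _ => by ring
      _ = _ := by
          rw [ea, eb]
          obtain ⟨i, k⟩ := r
          by_cases h1 : i = s <;> by_cases h2 : k = s <;> simp [h1, h2]
  have z := hform hDform
  have x11 : D (1, 1) (0, 1) = 0 := by
    have h := z (0, 0) (0, 1); simp [hcol, Two.alt] at h; exact h
  have x00 : D (0, 0) (0, 1) = 0 := by
    have h := z (1, 1) (0, 1); simp [hcol, Two.alt] at h; exact h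
  have y11 : D (1, 1) (1, 0) = 0 := by
    have h := z (0, 0) (1, 0); simp [hcol, Two.alt] at h; exact h
  have y00 : D (0, 0) (1, 0) = 0 := by
    have h := z (1, 1) (1, 0); simp [hcol, Two.alt] at h; exact h
  have hx : D (0, 1) (0, 1) * D (1, 0) (0, 1) = 0 := by
    have h := z (0, 1) (0, 1)
    simp [x00, Two.alt] at h
    exact mul_left_cancel₀ h2 (by linear_combination -h)
  have hy : D (0, 1) (1, 0) * D (1, 0) (1, 0) = 0 := by
    have h := z (1, 0) (1, 0)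
    simp [y00, Two.alt] at h
    exact mul_left_cancel₀ h2 (by linear_combination -h)
  have hxy : D (0, 1) (0, 1) * D (1, 0) (1, 0) + D (1, 0) (0, 1) * D (0, 1) (1, 0) = 1 := by
    have h := z (0, 1) (1, 0)
    simp [x00, y00, x11, y11, Two.alt] at h
    linear_combination -h
  obtain ⟨r, hr⟩ : ∃ r, r = D (0, 1) (0, 1) + D (0, 1) (1, 0) := ⟨_, rfl⟩
  rcases mul_eq_zero.1 hx with h | h
  · -- exchanged
    rw [h, zero_mul, zero_add] at hxy
    have hy' : D (1, 0) (1, 0) = 0 := (mul_eq_zero.1 hy).resolve_left (right_ne_zero_of_mul_eq_one hxy)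
    rw [h, zero_add] at hr
    subst hr
    have hne : D (0, 1) (1, 0) ≠ 0 := right_ne_zero_of_mul_eq_one hxy
    have hr' : D (1, 0) (0, 1) = (D (0, 1) (1, 0))⁻¹ := eq_inv_of_mul_eq_one_left hxy
    refine ⟨(a : M₂) * !![1, 0; 0, (D (0, 1) (1, 0))⁻¹], (b : M₂) * !![1, 0; 0, D (0, 1) (1, 0)], Or.inr ?_⟩
    rw [mul_kronecker_mul, mul_assoc, diag_kron, hCD]
    congr 1
    ext ⟨i, k⟩ ⟨i', k'⟩
    fin_cases i <;> fin_cases k <;> fin_cases i' <;> fin_cases k' <;>
      simp [swapMat, Matrix.diagonal, Matrix.mul_apply, Fintype.sum_prod_type, Fin.sum_univ_two, hcol, x00, x11,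
        y00, y11, h, hy', hr', inv_mul_cancel₀ hne]
  · rw [h, zero_mul, add_zero] at hxy
    have hy' : D (0, 1) (1, 0) = 0 := (mul_eq_zero.1 hy).resolve_right (right_ne_zero_of_mul_eq_one hxy)
    rw [hy', add_zero] at hr
    subst hr
    have hne : D (0, 1) (0, 1) ≠ 0 := left_ne_zero_of_mul_eq_one hxy
    have hr' : D (1, 0) (1, 0) = (D (0, 1) (0, 1))⁻¹ := eq_inv_of_mul_eq_one_right hxy
    refine ⟨(a : M₂) * !![1, 0; 0, (D (0, 1) (0, 1))⁻¹], (b : M₂) * !![1, 0; 0, D (0, 1) (0, 1)], Or.inl ?_⟩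
    rw [mul_kronecker_mul, diag_kron, hCD]
    congr 1
    ext ⟨i, k⟩ ⟨i', k'⟩
    fin_cases i <;> fin_cases k <;> fin_cases i' <;> fin_cases k' <;>
      simp [Matrix.diagonal, hcol, x00, x11, y00, y11, h, hy', hr', inv_mul_cancel₀ hne]

/-- A symmetric form of plus type in four variables has a basis with Gram matrix `alt ⊗ alt`. -/
theorem exists_basis (h2 : (2 : F) ≠ 0) {f : (Fin 4 → F) → (Fin 4 → F) → F} (hf : IsSymmetricForm f)
    (hplus : IsPlusTypeOn (fun v : Fin 4 → F => f v v) ⊤) :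
    ∃ w : κ₂ → Fin 4 → F, ∀ p q, f (w p) (w q) = G₄ p q := by
  classical
  obtain ⟨U, -, hU, hdim⟩ := hplus
  rw [finrank_top, Module.finrank_fin_fun] at hdim
  have hU2 : Module.finrank F U = 2 := by omega
  have hts : ∀ x ∈ U, ∀ y ∈ U, f x y = 0 := fun x hx y hy => by
    have h := hU (x + y) (U.add_mem hx hy)
    have hxx : f x x = 0 := hU x hx
    have hyy : f y y = 0 := hU y hy
    simp only [hf.bilinear.add_left, hf.bilinear.add_right, hxx, hyy, hf.symm y x, zero_add, add_zero] at h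
    exact mul_left_cancel₀ h2 (by linear_combination h)
  let b : Module.Basis (Fin 2) F U := Module.finBasisOfFinrankEq F _ hU2
  obtain ⟨u₀, hu₀⟩ : ∃ u, u = (b 0 : Fin 4 → F) := ⟨_, rfl⟩
  obtain ⟨u₁, hu₁⟩ : ∃ u, u = (b 1 : Fin 4 → F) := ⟨_, rfl⟩
  have m₀ : u₀ ∈ U := hu₀ ▸ (b 0).2
  have m₁ : u₁ ∈ U := hu₁ ▸ (b 1).2
  let φ : (Fin 4 → F) →ₗ[F] (Fin 2 → F) :=
    { toFun := fun v => ![f u₀ v, f u₁ v]
      map_add' := fun x y => by funext i; fin_cases i <;> exact hf.bilinear.add_right _ _ _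
      map_smul' := fun c x => by funext i; fin_cases i <;> exact hf.bilinear.smul_right _ _ _ }
  have hφ : Function.Surjective φ := by
    rw [← LinearMap.range_eq_top]
    by_contra hne
    obtain ⟨x, -, hx⟩ := SetLike.exists_of_lt (lt_top_iff_ne_top.2 hne)
    obtain ⟨ξ, hξ, hξ0⟩ := Submodule.exists_dual_map_eq_bot_of_notMem (p := LinearMap.range φ) hx inferInstance
    have hcomb : ∀ v, f (ξ (Pi.single 0 1) • u₀ + ξ (Pi.single 1 1) • u₁) v = 0 := fun v => by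
      have h0 : ξ (φ v) = 0 := (Submodule.mem_bot F).1 (hξ0 ▸ Submodule.mem_map_of_mem ⟨v, rfl⟩)
      have e : φ v = f u₀ v • (Pi.single 0 1 : Fin 2 → F) + f u₁ v • Pi.single 1 1 := by
        funext i; fin_cases i <;> simp [φ]
      rw [e, map_add, map_smul, map_smul, smul_eq_mul, smul_eq_mul] at h0
      rw [hf.bilinear.add_left, hf.bilinear.smul_left, hf.bilinear.smul_left]
      linear_combination h0
    have hz : ξ (Pi.single 0 1) • u₀ + ξ (Pi.single 1 1) • u₁ = 0 := by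
      by_contra hne'
      obtain ⟨-, y, hy⟩ := hf.nondegenerate _ hne'
      exact hy (hcomb y)
    have hz' : ξ (Pi.single 0 1) • b 0 + ξ (Pi.single 1 1) • b 1 = 0 := Subtype.ext (by
      rw [Submodule.coe_add, Submodule.coe_smul, Submodule.coe_smul, ← hu₀, ← hu₁, hz, Submodule.coe_zero])
    have c0 := congrArg (fun v => b.repr v 0) hz'
    have c1 := congrArg (fun v => b.repr v 1) hz'
    simp at c0 c1
    refine hξ ?_
    rw [show x = x 0 • (Pi.single 0 1 : Fin 2 → F) + x 1 • Pi.single 1 1 by funext i; fin_cases i <;> simp,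
      map_add, map_smul, map_smul, c0, c1, smul_zero, smul_zero, add_zero]
  obtain ⟨v₀', hv₀'⟩ := hφ ![1, 0]
  obtain ⟨v₁', hv₁'⟩ := hφ ![0, 1]
  have a00 : f u₀ v₀' = 1 := congrFun hv₀' 0
  have a10 : f u₁ v₀' = 0 := congrFun hv₀' 1
  have a01 : f u₀ v₁' = 0 := congrFun hv₁' 0
  have a11 : f u₁ v₁' = 1 := congrFun hv₁' 1
  obtain ⟨v₀, hv₀⟩ : ∃ v, v = v₀' + (-(f v₀' v₀') / 2) • u₀ := ⟨_, rfl⟩
  obtain ⟨v₁, hv₁⟩ : ∃ v, v = v₁' + (-(f v₁' v₁') / 2) • u₁ + (-(f v₀ v₁')) • u₀ := ⟨_, rfl⟩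
  have s00 := hts u₀ m₀ u₀ m₀
  have s01 := hts u₀ m₀ u₁ m₁
  have s11 := hts u₁ m₁ u₁ m₁
  have s10 := hts u₁ m₁ u₀ m₀
  have b00 : f u₀ v₀ = 1 := by rw [hv₀, hf.bilinear.add_right, hf.bilinear.smul_right, a00, s00]; ring
  have b10 : f u₁ v₀ = 0 := by rw [hv₀, hf.bilinear.add_right, hf.bilinear.smul_right, a10, s10]; ring
  have b01 : f u₀ v₁ = 0 := by
    rw [hv₁, hf.bilinear.add_right, hf.bilinear.add_right, hf.bilinear.smul_right, hf.bilinear.smul_right, a01,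
      s01, s00]; ring
  have b11 : f u₁ v₁ = 1 := by
    rw [hv₁, hf.bilinear.add_right, hf.bilinear.add_right, hf.bilinear.smul_right, hf.bilinear.smul_right, a11,
      s11, s10]; ring
  have c00 : f v₀ v₀ = 0 := by
    rw [hv₀]
    simp only [hf.bilinear.add_left, hf.bilinear.add_right, hf.bilinear.smul_left, hf.bilinear.smul_right,
      hf.symm v₀' u₀, a00, s00]
    field_simp; ring
  have c01 : f v₀ v₁ = 0 := by
    rw [hv₁, hf.bilinear.add_right, hf.bilinear.add_right, hf.bilinear.smul_right, hf.bilinear.smul_right,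
      hf.symm v₀ u₁, hf.symm v₀ u₀, b10, b00]
    ring
  have c11 : f v₁ v₁ = 0 := by
    have e : f v₀ v₁' = f v₁' v₀ := hf.symm _ _
    rw [hv₁]
    simp only [hf.bilinear.add_left, hf.bilinear.add_right, hf.bilinear.smul_left, hf.bilinear.smul_right,
      hf.symm v₁' u₁, hf.symm v₁' u₀, a11, a01, s11, s00, s01, s10]
    field_simp; ring
  refine ⟨fun p => if p.1 = 0 then (if p.2 = 0 then u₀ else u₁) else (if p.2 = 0 then (-1 : F) • v₁ else v₀),
    ?_⟩
  rintro ⟨i, k⟩ ⟨i', k'⟩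
  have negl : ∀ x y, f (-x) y = -f x y := fun x y => by
    rw [← neg_one_smul F x, hf.bilinear.smul_left, neg_one_mul]
  have negr : ∀ x y, f x (-y) = -f x y := fun x y => by
    rw [← neg_one_smul F y, hf.bilinear.smul_right, neg_one_mul]
  fin_cases i <;> fin_cases k <;> fin_cases i' <;> fin_cases k' <;>
    simp [Two.alt, negl, negr, s00, s01, s10, s11, b00, b01, b10, b11, c00, c01, c11, hf.symm v₀ u₀,
      hf.symm v₀ u₁, hf.symm v₁ u₀, hf.symm v₁ u₁, hf.symm v₁ v₀]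

end CfsgLib.AschSp.PlusFour
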