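import Cfsg.Agent.Lib.AschSp.Cases
import Cfsg.Agent.Lib.Aschbacher.Realise

/-!
An absolutely irreducible subgroup of the symplectic group written over a subfield: the symplectic form is
rational up to a scalar, giving a member of class 5.
-/

set_option autoImplicit false
set_option linter.unusedSectionVars false
set_option linter.style.haveILetI false

namespace CfsgLib.AschSp

open Matrix Cfsg.Geo CfsgLib.Aschbacher
open scoped MatrixGroups

variable {m : ℕ} {F : Type*} [Field F]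

local notation "ιS" => (Fin m ⊕ Fin m)
local notation "𝕄" => Matrix (Fin m ⊕ Fin m) (Fin m ⊕ Fin m) F
local notation "sf" => Cfsg.sympForm m F

theorem transpose_J_of_mem {g : GL ιS F} (hg : g ∈ Cfsg.spGL m F) :
    (g : 𝕄)ᵀ * Matrix.J (Fin m) F * (g : 𝕄) = Matrix.J (Fin m) F := by
  refine J_left_cancel ?_
  have h : adj (g : 𝕄) * (g : 𝕄) = 1 := mat_ext fun u v => by
    rw [← mulVec_mulVec, ← adj_spec, one_mulVec]
    exact hg u v
  rw [← J_adj, mul_assoc (Matrix.J (Fin m) F) (adj (g : 𝕄)), h, mul_one]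

/-- A matrix which is fixed by a rational absolutely irreducible group is rational up to a scalar. -/
theorem exists_rational_form {P : Subgroup (GL ιS F)} (hP : P ≤ Cfsg.spGL m F) (halg : alg P = ⊤)
    (hm : 0 < m) {F₁ : Subfield F} {B : GL ιS F}
    (hrat : ∀ x ∈ P, ∀ i j, cj B⁻¹ (x : 𝕄) i j ∈ F₁) :
    ∃ ζ : F, ζ ≠ 0 ∧ ∀ i j, ζ * ((B : 𝕄)ᵀ * Matrix.J (Fin m) F * (B : 𝕄)) i j ∈ F₁ := by
  classical
  obtain ⟨N, hN⟩ : ∃ N, N = (B : 𝕄)ᵀ * Matrix.J (Fin m) F * (B : 𝕄) := ⟨_, rfl⟩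
  have hNu : IsUnit N := hN ▸
    (((Matrix.isUnit_transpose (A := (B : 𝕄))).2 B.isUnit).mul
      ((Matrix.isUnit_iff_isUnit_det _).2 (Matrix.isUnit_det_J _ _))).mul B.isUnit
  haveI : Nonempty ιS := ⟨Sum.inl ⟨0, hm⟩⟩
  obtain ⟨i₀, j₀, h0⟩ : ∃ i j, N i j ≠ 0 := by
    by_contra h; push Not at h; exact hNu.ne_zero (Matrix.ext h)
  obtain ⟨ζ, hζ⟩ : ∃ ζ, ζ = (N i₀ j₀)⁻¹ := ⟨_, rfl⟩
  have hζ0 : ζ ≠ 0 := hζ ▸ inv_ne_zero h0
  refine ⟨ζ, hζ0, ?_⟩
  rw [← hN]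
  obtain ⟨π, hπ⟩ := LinearMap.exists_leftInverse_of_injective (Algebra.linearMap F₁ F)
    (LinearMap.ker_eq_bot.2 (FaithfulSMul.algebraMap_injective F₁ F))
  have hπ1 : ∀ c : F₁, π (c : F) = c := fun c => LinearMap.congr_fun hπ c
  let M : 𝕄 := Matrix.of fun i j => ((π (ζ * N i j) : F₁) : F)
  have hfix : ∀ x ∈ P, (cj B⁻¹ (x : 𝕄))ᵀ * M * cj B⁻¹ (x : 𝕄) = M := by
    intro x hx
    obtain ⟨y, hy⟩ : ∃ y, y = cj B⁻¹ (x : 𝕄) := ⟨_, rfl⟩
    rw [← hy]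
    have h1 : yᵀ * N * y = N := by
      have h2 := transpose_J_of_mem (hP hx)
      have hBy : (B : 𝕄) * y = (x : 𝕄) * (B : 𝕄) := by
        rw [hy, cj_apply, inv_inv, ← mul_assoc, ← mul_assoc, ← Units.val_mul, mul_inv_cancel, Units.val_one,
          one_mul]
      calc yᵀ * N * y = ((B : 𝕄) * y)ᵀ * Matrix.J (Fin m) F * ((B : 𝕄) * y) := by
            rw [hN, transpose_mul]; simp only [mul_assoc]
        _ = (B : 𝕄)ᵀ * ((x : 𝕄)ᵀ * Matrix.J (Fin m) F * (x : 𝕄)) * (B : 𝕄) := by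
            rw [hBy, transpose_mul]; simp only [mul_assoc]
        _ = N := by rw [h2, hN]
    ext i j
    have h1' := congrFun (congrFun h1 i) j
    simp only [Matrix.mul_apply, transpose_apply, Finset.sum_mul, M, Matrix.of_apply] at h1' ⊢
    have hyF : ∀ a b, y a b ∈ F₁ := fun a b => hy ▸ hrat x hx a b
    conv_rhs => rw [← h1']
    simp only [Finset.mul_sum, map_sum, AddSubmonoidClass.coe_finsetSum]
    refine Finset.sum_congr rfl fun b _ => Finset.sum_congr rfl fun a _ => ?_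
    have h3 : ζ * (y a i * N a b * y b j) = ((⟨y a i, hyF a i⟩ : F₁) * ⟨y b j, hyF b j⟩) • (ζ * N a b) := by
      show _ = (y a i * y b j) * (ζ * N a b)
      ring
    rw [h3, map_smul, smul_eq_mul]
    show _ = y a i * y b j * _
    ring
  obtain ⟨u, hu⟩ := hNu
  have hcomm : ∀ x ∈ P, Commute (x : 𝕄) (cj B ((↑u⁻¹ : 𝕄) * M)) := by
    intro x hx
    obtain ⟨y, hy⟩ : ∃ y, y = cj B⁻¹ (x : 𝕄) := ⟨_, rfl⟩
    have h1 : yᵀ * N * y = N := by
      have h2 := transpose_J_of_mem (hP hx)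
      have hBy : (B : 𝕄) * y = (x : 𝕄) * (B : 𝕄) := by
        rw [hy, cj_apply, inv_inv, ← mul_assoc, ← mul_assoc, ← Units.val_mul, mul_inv_cancel, Units.val_one,
          one_mul]
      calc yᵀ * N * y = ((B : 𝕄) * y)ᵀ * Matrix.J (Fin m) F * ((B : 𝕄) * y) := by
            rw [hN, transpose_mul]; simp only [mul_assoc]
        _ = (B : 𝕄)ᵀ * ((x : 𝕄)ᵀ * Matrix.J (Fin m) F * (x : 𝕄)) * (B : 𝕄) := by
            rw [hBy, transpose_mul]; simp only [mul_assoc]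
        _ = N := by rw [h2, hN]
    have hM := hfix x hx
    rw [← hy] at hM
    rw [← hu] at h1
    have h4 : ((↑u⁻¹ : 𝕄) * (yᵀ * (u : 𝕄))) * y = 1 := by
      rw [mul_assoc, h1, Units.inv_mul]
    have h5 : y * ((↑u⁻¹ : 𝕄) * M) = ((↑u⁻¹ : 𝕄) * M) * y := by
      calc y * ((↑u⁻¹ : 𝕄) * M) = y * (((↑u⁻¹ : 𝕄) * (yᵀ * (u : 𝕄))) * ((↑u⁻¹ : 𝕄) * (M * y))) := by
            congr 1
            calc (↑u⁻¹ : 𝕄) * M = (↑u⁻¹ : 𝕄) * (yᵀ * M * y) := by rw [hM]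
              _ = ((↑u⁻¹ : 𝕄) * (yᵀ * (u : 𝕄))) * ((↑u⁻¹ : 𝕄) * (M * y)) := by
                  simp only [mul_assoc, Units.mul_inv_cancel_left]
        _ = _ := by rw [← mul_assoc, mul_eq_one_comm.1 h4, one_mul, mul_assoc]
    have h6 : (x : 𝕄) = cj B y := by rw [hy, cj_cj_inv]
    show _ * _ = _ * _
    rw [h6, ← map_mul, ← map_mul, h5]
  obtain ⟨c, hc⟩ := scalar_of_commute halg hcomm
  have h7 : (↑u⁻¹ : 𝕄) * M = c • 1 := (cj B).injective (by rw [hc, map_smul, map_one])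
  have hMN : M = c • N := by
    have h8 := congrArg ((u : 𝕄) * ·) h7
    simp only [Units.mul_inv_cancel_left, Matrix.mul_smul, mul_one] at h8
    rw [h8, hu]
  have hone : M i₀ j₀ = 1 := by
    show ((π (ζ * N i₀ j₀) : F₁) : F) = 1
    rw [hζ, inv_mul_cancel₀ h0, ← OneMemClass.coe_one F₁, hπ1]
  rw [hMN, Matrix.smul_apply, smul_eq_mul] at hone
  intro i j
  have hij : M i j = ζ * N i j := by
    rw [hMN, Matrix.smul_apply, smul_eq_mul, eq_inv_of_mul_eq_one_left hone, hζ]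
  rw [← hij]
  exact (π (ζ * N i j)).2

/-- An absolutely irreducible normal subgroup realisable over a proper subfield gives class 5. -/
theorem case_subfield [Fintype F] {H G P : Subgroup (GL ιS F)} (hHG : H ≤ G) (hm : 0 < m)
    (hN : Normalized G P) (hP : P ≤ Cfsg.spGL m F) (halg : alg P = ⊤) {F₀ : Subfield F} (h₀ : F₀ ≠ ⊤)
    (hreal : RealisableOver F₀ (matrixSet P)) : Case H := by
  classical
  haveI : Nonempty ιS := ⟨Sum.inl ⟨0, hm⟩⟩
  obtain ⟨F₁, r, B, -, hr, hcard, hle, hrat⟩ := le_subfield_of_realisable hN halg h₀ hreal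
  obtain ⟨ζ, hζ, hζB⟩ := exists_rational_form hP halg hm hrat
  refine .subfield F₁ r B ζ hr hcard hζ (fun u v hu hv => ?_) (hHG.trans hle)
  have h : sf ((B : 𝕄) *ᵥ u) ((B : 𝕄) *ᵥ v) =
      u ⬝ᵥ (((B : 𝕄)ᵀ * Matrix.J (Fin m) F * (B : 𝕄)) *ᵥ v) := by
    rw [Cfsg.sympForm, mulVec_mulVec, mul_assoc, ← mulVec_mulVec _ ((B : 𝕄)ᵀ), dotProduct_mulVec _ ((B : 𝕄)ᵀ),
      vecMul_transpose]
  rw [h, dotProduct, Finset.mul_sum]
  refine F₁.sum_mem fun i _ => ?_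
  rw [mulVec, dotProduct, Finset.mul_sum, Finset.mul_sum]
  refine F₁.sum_mem fun j _ => ?_
  rw [show ζ * (u i * (((B : 𝕄)ᵀ * Matrix.J (Fin m) F * (B : 𝕄)) i j * v j)) =
    u i * (ζ * ((B : 𝕄)ᵀ * Matrix.J (Fin m) F * (B : 𝕄)) i j) * v j by ring]
  exact F₁.mul_mem (F₁.mul_mem (hu i) (hζB i j)) (hv j)

end CfsgLib.AschSp
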