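import Cfsg.Agent.Lib.AschSp.PlusFour
import Cfsg.Agent.Lib.AschSp.GenSymp
import Cfsg.Agent.Lib.AschSp.Wreath
import Cfsg.Agent.Lib.MaxSub.TensorFrameOdd

/-!
Degree eight: a tensor member with an orthogonal factor of plus type lies in a tensor-induced member, and
over three elements in a member of class 6.
-/

set_option autoImplicit false
set_option linter.unusedSectionVars false

namespace CfsgLib.AschSp

open Matrix Cfsg.Geo CfsgLib.Aschbacher CfsgLib.MaxSub
open scoped MatrixGroups Kronecker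

variable {m : ℕ} {F : Type*} [Field F]

local notation "ιS" => (Fin m ⊕ Fin m)
local notation "𝕄" => Matrix (Fin m ⊕ Fin m) (Fin m ⊕ Fin m) F
local notation "sf" => Cfsg.sympForm m F
local notation "M₂" => Matrix (Fin 2) (Fin 2) F
local notation "κ₃" => (Fin 3 → Fin 2)

theorem mem_wreath_of_tmat {d t : ℕ} {e : ιS ≃ (Fin t → Fin d)} {P g : GL ιS F} (σ : Equiv.Perm (Fin t))
    (a : Fin t → GL (Fin d) F)
    (h : (g : 𝕄) = tmat e P (permMat σ * pureMat fun j => (a j : Matrix (Fin d) (Fin d) F))) :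
    g ∈ tensorWreathSubgroup d t e P := by
  let k₁ : GL (Fin t → Fin d) F :=
    { val := permMat σ
      inv := permMat σ.symm
      val_inv := by rw [permMat_mul, show σ * σ.symm = 1 from mul_inv_cancel σ, permMat_one]
      inv_val := by rw [permMat_mul, show σ.symm * σ = 1 from inv_mul_cancel σ, permMat_one] }
  let k₂ : GL (Fin t → Fin d) F :=
    { val := pureMat fun j => (a j : Matrix (Fin d) (Fin d) F)
      inv := pureMat fun j => (((a j)⁻¹ : GL (Fin d) F) : Matrix (Fin d) (Fin d) F)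
      val_inv := by rw [pureMat_mul]; simp [pureMat_one]
      inv_val := by rw [pureMat_mul]; simp [pureMat_one] }
  have hk : k₁ * k₂ ∈ tensorWreathStandard d t F :=
    mul_mem (Subgroup.subset_closure (Or.inr ⟨σ, fun p q => rfl⟩))
      (Subgroup.subset_closure (Or.inl ⟨a, fun p q => rfl⟩))
  exact ⟨glReindex e.symm (k₁ * k₂), ⟨k₁ * k₂, hk, rfl⟩, Units.ext h.symm⟩

theorem perm_pure_apply {d t : ℕ} (σ : Equiv.Perm (Fin t)) (A : Fin t → Matrix (Fin d) (Fin d) F)
    (r p : Fin t → Fin d) :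
    (permMat σ * pureMat A : Matrix (Fin t → Fin d) (Fin t → Fin d) F) r p = ∏ i, A i (r (σ i)) (p i) := by
  rw [permMat_mul_apply]
  rfl

/-- The slots of a power of `alt` give a member of class 6 over three elements. -/
theorem symp_of_slots [Fintype F] (hm : 2 ≤ m) (hq : Fintype.card F = 3) (h8 : 2 * m = 8) {H : Subgroup (GL ιS F)}
    (hH : H ≤ Cfsg.spGL m F) (e : ιS ≃ κ₃) (P : GL ιS F) {C : F}
    (hgram : gram e P = C • pureMat (fun _ : Fin 3 => (Two.alt : M₂)))
    (hle : H ≤ tensorWreathSubgroup 2 3 e P) :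
    ∃ R : Subgroup (GL ιS F), IsSymplecticTypeGroup 2 R ∧ ActsAbsolutelyIrreducibly (matrixSet R) ∧
      R ≤ similarityGroup (Cfsg.sympForm m F) ∧ Nat.card R = 2 ^ (1 + 2 * 3) ∧
      Nat.card (Subgroup.center R) = 2 ∧ IsOfMinusType 3 R ∧ H ≤ subgroupNormalizer R ∧
      ¬ Cfsg.spGL m F ≤ subgroupNormalizer R := by
  classical
  obtain ⟨h3, h2, -, -⟩ := TensorFrame.three hq
  let S : Set (GL ιS F) := {g | ∃ (i : Fin 3) (q : M₂), q * q = -1 ∧ (g : 𝕄) = slotFactor e P i q}
  have hsmul : ∀ (i : Fin 3) (c : F) (q : M₂), slotFactor e P i (c • q) = c • slotFactor e P i q := by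
    intro i c q
    rw [slotFactor_tmat, slotFactor_tmat, ← map_smul,
      ← pureMat_smul_update _ i c]
    congr 2
    funext j
    rcases eq_or_ne j i with rfl | hj
    · simp
    · simp [Function.update_of_ne hj]
  have hmul : ∀ (i : Fin 3) (x y : M₂), slotFactor e P i (x * y) = slotFactor e P i x * slotFactor e P i y := by
    intro i x y
    rw [slotFactor_tmat, slotFactor_tmat, slotFactor_tmat, ← map_mul, pureMat_mul]
    congr 2
    funext j
    rcases eq_or_ne j i with rfl | hj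
    · simp
    · simp [Function.update_of_ne hj]
  have hone : ∀ i : Fin 3, slotFactor e P i (1 : M₂) = 1 := by
    intro i
    rw [slotFactor_tmat, show Function.update (fun _ : Fin 3 => (1 : M₂)) i 1 = fun _ => 1 by simp,
      pureMat_one, map_one]
  refine symp_of_gens hm h2 (by rw [h8]; norm_num) S ?_ ?_ ?_ ?_
  · rintro g ⟨i, q, hq', hg⟩
    refine tmat_mem_spGL e P (hg.trans (slotFactor_tmat e P i q)) ?_
    rw [hgram, Matrix.mul_smul, Matrix.smul_mul, pureMat_transpose, pureMat_mul, pureMat_mul]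
    congr 2
    funext j
    rcases eq_or_ne j i with rfl | hj
    · rw [Function.update_self, Two.alt_conj, Two.det_of_sq hq hq', one_smul]
    · rw [Function.update_of_ne hj, transpose_one, one_mul, mul_one]
  · rintro x ⟨i, q, hq', hx⟩ y ⟨k, q', hq'', hy⟩
    show (x : 𝕄) * y = y * x ∨ (x : 𝕄) * y = -((y : 𝕄) * x)
    rw [hx, hy]
    rcases eq_or_ne i k with rfl | hik
    · rw [← hmul, ← hmul]
      rcases Two.pm_of_sq hq hq' hq'' with h | h
      · exact Or.inl (by rw [h])
      · exact Or.inr (by rw [h, ← neg_one_smul F (q' * q), hsmul, neg_one_smul])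
    · exact Or.inl (commute_slot e P hik q q').eq
  · obtain ⟨A, hA⟩ : ∃ A, A = Algebra.adjoin F ((fun g : GL ιS F => (g : 𝕄)) '' S) := ⟨_, rfl⟩
    rw [← hA]
    have hslot : ∀ i x, slotFactor e P i x ∈ A := by
      intro i x
      let L : Subalgebra F M₂ :=
        { carrier := {x | slotFactor e P i x ∈ A}
          mul_mem' := fun {x y} hx hy => by
            show slotFactor e P i (x * y) ∈ A
            rw [hmul]; exact A.mul_mem hx hy
          add_mem' := fun {x y} hx hy => by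
            show slotFactor e P i (x + y) ∈ A
            have h : slotFactor e P i (x + y) = slotFactor e P i x + slotFactor e P i y := by
              rw [slotFactor_tmat, slotFactor_tmat, slotFactor_tmat, ← map_add]
              congr 1
              ext r s
              rw [Matrix.add_apply, slot_apply, slot_apply, slot_apply]
              split_ifs <;> simp
            rw [h]; exact A.add_mem hx hy
          algebraMap_mem' := fun r => by
            show slotFactor e P i (algebraMap F M₂ r) ∈ A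
            rw [Algebra.algebraMap_eq_smul_one, hsmul, hone]
            exact A.smul_mem A.one_mem r }
      have hLmem : ∀ q : M₂, q * q = -1 → q ∈ L := fun q hq' => by
        have hneg : slotFactor e P i q * slotFactor e P i (-q) = 1 := by
          rw [← hmul, mul_neg, hq', neg_neg, hone]
        obtain ⟨g, hg⟩ := IsUnit.of_mul_eq_one _ hneg
        show slotFactor e P i q ∈ A
        rw [← hg, hA]; exact Algebra.subset_adjoin ⟨g, ⟨i, q, hq', hg⟩, rfl⟩
      have htop := Two.top_of_quat h2 L (hLmem _ Two.alt_sq) (hLmem _ (Two.quat_sq h3))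
      exact show x ∈ L by rw [htop]; exact Algebra.mem_top
    rw [eq_top_iff]
    intro X _
    obtain ⟨Y, rfl⟩ := (tmat e P).surjective X
    rw [Matrix.matrix_eq_sum_single Y, map_sum]
    refine A.sum_mem fun r _ => ?_
    rw [map_sum]
    refine A.sum_mem fun s _ => ?_
    have hsingle : Matrix.single r s (Y r s) =
        Y r s • pureMat (fun j : Fin 3 => Matrix.single (r j) (s j) (1 : F)) := by
      ext r' s'
      simp only [Matrix.smul_apply, pureMat, Matrix.of_apply, Matrix.single_apply, smul_eq_mul, Fin.prod_univ_three]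
      by_cases h : r = r' ∧ s = s'
      · obtain ⟨rfl, rfl⟩ := h; simp
      · rw [if_neg h]
        have : ∃ j, ¬ (r j = r' j ∧ s j = s' j) := by
          by_contra hc; push Not at hc; exact h ⟨funext fun j => (hc j).1, funext fun j => (hc j).2⟩
        obtain ⟨j, hj⟩ := this
        fin_cases j <;> simp_all
    have hprod : tmat e P (pureMat fun j : Fin 3 => Matrix.single (r j) (s j) (1 : F)) =
        slotFactor e P 0 (Matrix.single (r 0) (s 0) 1) * slotFactor e P 1 (Matrix.single (r 1) (s 1) 1) *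
          slotFactor e P 2 (Matrix.single (r 2) (s 2) 1) := by
      rw [slotFactor_tmat, slotFactor_tmat, slotFactor_tmat, ← map_mul, ← map_mul, pureMat_mul, pureMat_mul]
      congr 2
      funext j
      fin_cases j <;> simp
    rw [hsingle, map_smul, hprod]
    exact A.smul_mem (A.mul_mem (A.mul_mem (hslot _ _) (hslot _ _)) (hslot _ _)) _
  · rintro g hg x ⟨i, q, hq', hx⟩
    obtain ⟨σ, a, hga⟩ := exists_perm_tmat (hle hg)
    refine Subgroup.subset_closure ⟨σ i, cj (a i) q, by rw [← map_mul, hq', map_neg, map_one], ?_⟩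
    rw [← cj_slot hga, ← hx, cj_apply, Units.val_mul, Units.val_mul]

/-- A tensor member with a plus-type orthogonal factor in four variables is inside a tensor-induced one. -/
theorem wreath_of_plus [Fintype F] (h2 : (2 : F) ≠ 0) (e : ιS ≃ Fin 2 × Fin 4) (P : GL ιS F)
    {f₁ : (Fin 2 → F) → (Fin 2 → F) → F} {f₂ : (Fin 4 → F) → (Fin 4 → F) → F}
    (hf₁ : IsSymplecticForm f₁) (hf₂ : IsSymmetricForm f₂)
    (hplus : IsPlusTypeOn (fun v : Fin 4 → F => f₂ v v) ⊤)
    (hfs : IsTensorFormStructure id (Cfsg.sympForm m F) f₁ f₂ e P) :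
    ∃ (e' : ιS ≃ κ₃) (P' : GL ιS F) (C : F), C ≠ 0 ∧
      gram e' P' = C • pureMat (fun _ : Fin 3 => (Two.alt : M₂)) ∧
      tensorProductSubgroup 2 4 e P ⊓ Cfsg.spGL m F ≤ tensorWreathSubgroup 2 3 e' P' := by
  classical
  obtain ⟨w, hw⟩ := PlusFour.exists_basis h2 hf₂ hplus
  obtain ⟨c, hc, hform⟩ := TensorFrame.form_pure (σ := id) (fun _ _ => rfl) hfs
    (TensorFrame.formOfGram_gram id f₁ hf₁.bilinear.add_left hf₁.bilinear.smul_left hf₁.bilinear.add_right
      hf₁.bilinear.smul_right)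
    (TensorFrame.formOfGram_gram id f₂ hf₂.bilinear.add_left hf₂.bilinear.smul_left hf₂.bilinear.add_right
      hf₂.bilinear.smul_right)
  let b : Fin 2 → Fin 2 → F := fun i => Pi.single i 1
  obtain ⟨d, hd⟩ : ∃ d, d = f₁ (b 0) (b 1) := ⟨_, rfl⟩
  have hb : ∀ i k, f₁ (b i) (b k) = d * (Two.alt : M₂) i k := fun i k => by
    fin_cases i <;> fin_cases k
    · simp [Two.alt, hf₁.alternating]
    · simp [Two.alt, hd]
    · simp [Two.alt]; rw [hf₁.skew, hd]
    · simp [Two.alt, hf₁.alternating]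
  have hd0 : d ≠ 0 := by
    intro h0
    have hne : b 0 ≠ 0 := by simp [b]
    obtain ⟨-, y, hy⟩ := hf₁.nondegenerate (b 0) hne
    refine hy ?_
    rw [show y = y 0 • b 0 + y 1 • b 1 by funext i; fin_cases i <;> simp [b], hf₁.bilinear.add_right,
      hf₁.bilinear.smul_right, hf₁.bilinear.smul_right, hf₁.alternating, ← hd, h0]
    ring
  let T := TensorFrame.pure e P
  let W : κ₃ → ιS → F := fun p => T (b (p 0)) (w (p 1, p 2))
  obtain ⟨e'⟩ : Nonempty (ιS ≃ κ₃) := ⟨Fintype.equivOfCardEq (by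
    have := Fintype.card_congr e; simp at this ⊢; omega)⟩
  have hgu : IsUnit ((c * d) • pureMat (fun _ : Fin 3 => (Two.alt : M₂))) := by
    refine IsUnit.of_mul_eq_one ((c * d)⁻¹ • pureMat (fun _ : Fin 3 => -(Two.alt : M₂))) ?_
    rw [Matrix.smul_mul, Matrix.mul_smul, smul_smul, mul_inv_cancel₀ (mul_ne_zero hc hd0), one_smul, pureMat_mul]
    simp only [mul_neg, Two.alt_sq, neg_neg, pureMat_one]
  obtain ⟨P', hP', hPW⟩ := exists_coords_of_gram e' W hgu (fun p q => by
    show sf (T _ _) (T _ _) = _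
    rw [hform, hb, hw, Matrix.smul_apply, smul_eq_mul]
    simp only [pureMat, Matrix.of_apply, Fin.prod_univ_three, kroneckerMap_apply]
    ring)
  refine ⟨e', P', c * d, mul_ne_zero hc hd0, hP', ?_⟩
  rintro g ⟨hgT, hgS⟩
  obtain ⟨a, B, hab⟩ := TensorFrame.tensor_mem hgT
  have hwli : LinearIndependent F w := by
    rw [Fintype.linearIndependent_iff]
    intro z hz p
    have hzero : ∀ q, ∑ r, z r * ((Two.alt : M₂) ⊗ₖ Two.alt) r q = 0 := fun q => by
      let φ : (Fin 4 → F) →ₗ[F] F :=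
        { toFun := fun x => f₂ x (w q)
          map_add' := fun x y => hf₂.bilinear.add_left _ _ _
          map_smul' := fun a x => hf₂.bilinear.smul_left _ _ _ }
      have h := congrArg φ hz
      rw [map_sum, map_zero] at h
      rw [← h]
      exact Finset.sum_congr rfl fun r _ => by rw [map_smul]; show _ = z r • f₂ (w r) (w q); rw [hw]; rfl
    have h : Matrix.vecMul z ((Two.alt : M₂) ⊗ₖ Two.alt) = 0 := funext hzero
    have h' := congrArg (fun x => Matrix.vecMul x ((Two.alt : M₂) ⊗ₖ Two.alt)) h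
    simp only [Matrix.vecMul_vecMul, PlusFour.g4_sq, Matrix.vecMul_one, Matrix.zero_vecMul] at h'
    exact congrFun h' p
  let bw := basisOfLinearIndependentOfCardEqFinrank hwli (by simp)
  have hbw : ∀ p, bw p = w p := fun p => by simp [bw]
  obtain ⟨D, hD⟩ : ∃ D : Matrix (Fin 2 × Fin 2) (Fin 2 × Fin 2) F,
      ∀ p, (B : Matrix (Fin 4) (Fin 4) F) *ᵥ w p = ∑ r, D r p • w r := by
    refine ⟨Matrix.of fun r p => bw.repr ((B : Matrix (Fin 4) (Fin 4) F) *ᵥ w p) r, fun p => ?_⟩
    simp only [Matrix.of_apply, ← hbw]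
    exact (bw.sum_repr _).symm
  have hga : ∀ x y, sf (T ((a : M₂) *ᵥ x) ((B : Matrix (Fin 4) (Fin 4) F) *ᵥ y))
      (T ((a : M₂) *ᵥ b 1) ((B : Matrix (Fin 4) (Fin 4) F) *ᵥ y)) = sf (T x y) (T (b 1) y) := fun x y => by
    rw [← hab, ← hab]; exact hgS _ _
  obtain ⟨ν, hν⟩ : ∃ ν, ν = f₁ ((a : M₂) *ᵥ b 0) ((a : M₂) *ᵥ b 1) := ⟨_, rfl⟩
  have hpres : ∀ y y', ν * f₂ ((B : Matrix (Fin 4) (Fin 4) F) *ᵥ y) ((B : Matrix (Fin 4) (Fin 4) F) *ᵥ y') =
      d * f₂ y y' := fun y y' => by
    have h : sf ((g : 𝕄) *ᵥ T (b 0) y) ((g : 𝕄) *ᵥ T (b 1) y') = sf (T (b 0) y) (T (b 1) y') := hgS _ _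
    rw [hab, hab, hform, hform, ← hν, ← hd] at h
    exact mul_left_cancel₀ hc h
  have hν0 : ν ≠ 0 := fun h => by
    have h' := hpres (w (0, 0)) (w (1, 1))
    rw [h, zero_mul, hw] at h'
    simp [Two.alt] at h'
    exact hd0 h'.symm
  have hDform : Dᵀ * ((Two.alt : M₂) ⊗ₖ Two.alt) * D = (ν⁻¹ * d) • ((Two.alt : M₂) ⊗ₖ Two.alt) := by
    ext p q
    rw [Matrix.smul_apply, ← hw p q, smul_eq_mul, mul_assoc ν⁻¹ d, ← hpres (w p) (w q), inv_mul_cancel_left₀ hν0, hD, hD]
    let β : LinearMap.BilinForm F (Fin 4 → F) :=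
      LinearMap.mk₂ F f₂ hf₂.bilinear.add_left hf₂.bilinear.smul_left hf₂.bilinear.add_right
        hf₂.bilinear.smul_right
    show _ = β (∑ r, D r p • w r) (∑ r, D r q • w r)
    rw [map_sum β, LinearMap.sum_apply, Matrix.mul_assoc, Matrix.mul_apply]
    refine Finset.sum_congr rfl fun r _ => ?_
    rw [map_smul, LinearMap.smul_apply, map_sum, transpose_apply, Matrix.mul_apply, smul_eq_mul]
    congr 1
    refine Finset.sum_congr rfl fun s _ => ?_
    rw [map_smul, smul_eq_mul]
    show _ = D s q * f₂ (w r) (w s)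
    rw [hw, mul_comm]
  obtain ⟨A₁, A₂, hA⟩ := PlusFour.exists_factor h2 (mul_ne_zero (inv_ne_zero hν0) hd0) hDform
  have hu : IsUnit (A₁ ⊗ₖ A₂) := by
    have hDu : IsUnit D := by
      rw [Matrix.isUnit_iff_isUnit_det]
      have h := congrArg Matrix.det hDform
      rw [det_mul, det_mul, det_transpose, det_smul] at h
      refine isUnit_iff_ne_zero.2 fun h0 => ?_
      rw [h0, zero_mul, zero_mul] at h
      have hG : (((Two.alt : M₂) ⊗ₖ Two.alt)).det ≠ 0 :=
        ((Matrix.isUnit_iff_isUnit_det _).1 (IsUnit.of_mul_eq_one _ PlusFour.g4_sq)).ne_zero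
      exact mul_ne_zero (pow_ne_zero _ (mul_ne_zero (inv_ne_zero hν0) hd0)) hG h.symm
    rcases hA with h | h
    · exact h ▸ hDu
    · have := hDu.mul (IsUnit.of_mul_eq_one _ (PlusFour.swapMat_sq (F := F)))
      rwa [h, mul_assoc, PlusFour.swapMat_sq, mul_one] at this
  obtain ⟨⟨a₁, rfl⟩, ⟨a₂, rfl⟩⟩ := isUnit_kron_factors hu
  have hcol : ∀ p, (g : 𝕄) *ᵥ W p = ∑ r : κ₃, ((a : M₂) (r 0) (p 0) * D (r 1, r 2) (p 1, p 2)) • W r := by
    intro p
    have hab' : (a : M₂) *ᵥ b (p 0) = ∑ i, (a : M₂) i (p 0) • b i := by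
      funext i; simp [b, Fin.sum_univ_two]; fin_cases i <;> simp
    show (g : 𝕄) *ᵥ T _ _ = _
    rw [hab, hab', hD]
    simp only [map_smul, LinearMap.smul_apply, map_sum, LinearMap.sum_apply, smul_smul, Finset.smul_sum]
    let E : κ₃ ≃ (Fin 2 × Fin 2) × Fin 2 :=
      { toFun := fun r => ((r 1, r 2), r 0)
        invFun := fun x => ![x.2, x.1.1, x.1.2]
        left_inv := fun r => by funext j; fin_cases j <;> rfl
        right_inv := fun x => rfl }
    rw [← Fintype.sum_prod_type', ← Equiv.sum_comp E]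
    exact Finset.sum_congr rfl fun r _ => by
      rw [mul_comm ((a : M₂) (r 0) (p 0))]
      rfl
  obtain ⟨σ, A, hσA⟩ : ∃ (σ : Equiv.Perm (Fin 3)) (A : Fin 3 → GL (Fin 2) F), ∀ r p : κ₃,
      (permMat σ * pureMat fun j => (A j : M₂) : Matrix κ₃ κ₃ F) r p =
        (a : M₂) (r 0) (p 0) * D (r 1, r 2) (p 1, p 2) := by
    rcases hA with h | h
    · refine ⟨1, ![a, a₁, a₂], fun r p => ?_⟩
      rw [perm_pure_apply, h, Fin.prod_univ_three, kroneckerMap_apply]
      simp [mul_assoc]
    · refine ⟨Equiv.swap 1 2, ![a, a₂, a₁], fun r p => ?_⟩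
      rw [perm_pure_apply, h, Fin.prod_univ_three, Matrix.mul_apply, Finset.sum_eq_single (p 2, p 1)]
      · simp [PlusFour.swapMat, Equiv.swap_apply_of_ne_of_ne, mul_left_comm, mul_comm]
      · intro x _ hx; simp [PlusFour.swapMat, hx]
      · simp
  refine mem_wreath_of_tmat σ A ?_
  refine mat_ext fun u v => ?_
  obtain ⟨x, rfl⟩ := coords_surj e' P' v
  congr 1
  have hx : (P' : 𝕄) *ᵥ (x ∘ e') = ∑ p, x p • ((P' : 𝕄) *ᵥ ((Pi.single p 1) ∘ e')) := by
    simp only [← mulVec_smul, ← mulVec_sum]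
    congr 1
    funext i
    rw [Finset.sum_apply, Finset.sum_eq_single (e' i)]
    · simp
    · intro r _ hr; simp [hr.symm]
    · simp
  simp only [hx, mulVec_sum, mulVec_smul]
  refine Finset.sum_congr rfl fun p _ => ?_
  rw [tmat_single, hPW, hcol]
  simp only [hPW, hσA]

end CfsgLib.AschSp
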