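import Cfsg.Agent.Lib.AschSp.Tensor
import Cfsg.Agent.Lib.AschSp.SympType
import Mathlib.LinearAlgebra.Matrix.Notation

/-!
Two by two matrices over three elements, and coordinates from a family of vectors.
-/

set_option autoImplicit false
set_option linter.unusedSectionVars false

namespace CfsgLib.AschSp

namespace Two

open Matrix

variable {F : Type*} [Field F]

local notation "M₂" => Matrix (Fin 2) (Fin 2) F

/-- The alternating matrix. -/
def alt : M₂ := !![0, 1; -1, 0]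

theorem sq_iff (a b c d : F) : (!![a, b; c, d] : M₂) * !![a, b; c, d] = -1 ↔
    (a * a + b * c = -1 ∧ a * b + b * d = 0) ∧ c * a + d * c = 0 ∧ c * b + d * d = -1 := by
  rw [Matrix.mul_fin_two, ← Matrix.ext_iff]
  simp [Fin.forall_fin_two]

theorem orth_iff (a b c d : F) : (!![a, b; c, d] : M₂)ᵀ * !![a, b; c, d] = 1 ↔
    (a * a + c * c = 1 ∧ a * b + c * d = 0) ∧ b * a + d * c = 0 ∧ b * b + d * d = 1 := by
  rw [← Matrix.ext_iff]
  simp [Fin.forall_fin_two, Matrix.mul_apply, Fin.sum_univ_two]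

theorem pm_of_entries {a b c d a' b' c' d' : F}
    (h : (a * a' + b * c' = a' * a + b' * c ∧ a * b' + b * d' = a' * b + b' * d) ∧
        (c * a' + d * c' = c' * a + d' * c ∧ c * b' + d * d' = c' * b + d' * d) ∨
      (a * a' + b * c' = -(a' * a + b' * c) ∧ a * b' + b * d' = -(a' * b + b' * d)) ∧
        (c * a' + d * c' = -(c' * a + d' * c) ∧ c * b' + d * d' = -(c' * b + d' * d))) :
    (!![a, b; c, d] : M₂) * !![a', b'; c', d'] = !![a', b'; c', d'] * !![a, b; c, d] ∨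
      (!![a, b; c, d] : M₂) * !![a', b'; c', d'] = -(!![a', b'; c', d'] * !![a, b; c, d]) := by
  rw [Matrix.mul_fin_two, Matrix.mul_fin_two]
  rcases h with ⟨⟨e₁, e₂⟩, e₃, e₄⟩ | ⟨⟨e₁, e₂⟩, e₃, e₄⟩
  · left; rw [e₁, e₂, e₃, e₄]
  · right; rw [e₁, e₂, e₃, e₄]; simp

/-- The scalar facts about matrices of square minus one over three elements. -/
theorem sq_facts : ∀ a b c d : ZMod 3,
    ((a * a + b * c = -1 ∧ a * b + b * d = 0) ∧ c * a + d * c = 0 ∧ c * b + d * d = -1) →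
    a * d - b * c = 1 ∧ ∀ a' b' c' d' : ZMod 3,
      ((a' * a' + b' * c' = -1 ∧ a' * b' + b' * d' = 0) ∧ c' * a' + d' * c' = 0 ∧
        c' * b' + d' * d' = -1) →
      ((a * a' + b * c' = a' * a + b' * c ∧ a * b' + b * d' = a' * b + b' * d) ∧
          (c * a' + d * c' = c' * a + d' * c ∧ c * b' + d * d' = c' * b + d' * d) ∨
        (a * a' + b * c' = -(a' * a + b' * c) ∧ a * b' + b * d' = -(a' * b + b' * d)) ∧
          (c * a' + d * c' = -(c' * a + d' * c) ∧ c * b' + d * d' = -(c' * b + d' * d))) := by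
  decide +kernel

/-- The scalar facts about orthogonal matrices over three elements. -/
theorem orth_facts : ∀ a b c d : ZMod 3,
    ((a * a + c * c = 1 ∧ a * b + c * d = 0) ∧ b * a + d * c = 0 ∧ b * b + d * d = 1) →
    ∀ a' b' c' d' : ZMod 3,
      ((a' * a' + c' * c' = 1 ∧ a' * b' + c' * d' = 0) ∧ b' * a' + d' * c' = 0 ∧
        b' * b' + d' * d' = 1) →
      ((a * a' + b * c' = a' * a + b' * c ∧ a * b' + b * d' = a' * b + b' * d) ∧
          (c * a' + d * c' = c' * a + d' * c ∧ c * b' + d * d' = c' * b + d' * d) ∨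
        (a * a' + b * c' = -(a' * a + b' * c) ∧ a * b' + b * d' = -(a' * b + b' * d)) ∧
          (c * a' + d * c' = -(c' * a + d' * c) ∧ c * b' + d * d' = -(c' * b + d' * d))) := by
  decide +kernel

theorem exists_iso [Fintype F] (hq : Fintype.card F = 3) :
    ∃ φ : ZMod 3 →+* F, Function.Surjective φ :=
  ⟨(ZMod.ringEquivOfPrime F Nat.prime_three hq : ZMod 3 ≃+* F).toRingHom,
    (ZMod.ringEquivOfPrime F Nat.prime_three hq : ZMod 3 ≃+* F).surjective⟩

theorem exists_lift [Fintype F] (hq : Fintype.card F = 3) :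
    ∃ φ : ZMod 3 →+* F, ∀ x : M₂, ∃ a b c d : ZMod 3, x = (!![a, b; c, d] : Matrix _ _ _).map φ := by
  obtain ⟨φ, hφ⟩ := exists_iso (F := F) hq
  refine ⟨φ, fun x => ?_⟩
  obtain ⟨a, ha⟩ := hφ (x 0 0)
  obtain ⟨b, hb⟩ := hφ (x 0 1)
  obtain ⟨c, hc⟩ := hφ (x 1 0)
  obtain ⟨d, hd⟩ := hφ (x 1 1)
  refine ⟨a, b, c, d, ?_⟩
  ext i j
  fin_cases i <;> fin_cases j <;> simp [ha, hb, hc, hd]

theorem det_of_sq [Fintype F] (hq : Fintype.card F = 3) {x : M₂} (hx : x * x = -1) : x.det = 1 := by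
  obtain ⟨φ, hφ⟩ := exists_lift (F := F) hq
  obtain ⟨a, b, c, d, rfl⟩ := hφ x
  have hinj := Matrix.map_injective (m := Fin 2) (n := Fin 2) φ.injective
  have h : (!![a, b; c, d] : Matrix _ _ _) * !![a, b; c, d] = -1 := hinj <| by
    refine (Matrix.map_mul (f := φ)).trans (hx.trans ?_)
    ext i j; fin_cases i <;> fin_cases j <;> simp
  have := congrArg φ (sq_facts a b c d ((sq_iff a b c d).1 h)).1
  rw [map_sub, map_mul, map_mul, map_one] at this
  rw [Matrix.det_fin_two]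
  simpa using this

theorem pm_of_sq [Fintype F] (hq : Fintype.card F = 3) {x y : M₂} (hx : x * x = -1) (hy : y * y = -1) :
    x * y = y * x ∨ x * y = -(y * x) := by
  obtain ⟨φ, hφ⟩ := exists_lift (F := F) hq
  obtain ⟨a, b, c, d, rfl⟩ := hφ x
  obtain ⟨a', b', c', d', rfl⟩ := hφ y
  have hinj := Matrix.map_injective (m := Fin 2) (n := Fin 2) φ.injective
  have hneg : ((-1 : Matrix (Fin 2) (Fin 2) (ZMod 3))).map φ = -1 := by
    ext i j; fin_cases i <;> fin_cases j <;> simp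
  have h1 := hinj ((Matrix.map_mul (f := φ)).trans (hx.trans hneg.symm))
  have h2 := hinj ((Matrix.map_mul (f := φ)).trans (hy.trans hneg.symm))
  rcases pm_of_entries ((sq_facts a b c d ((sq_iff a b c d).1 h1)).2 a' b' c' d'
    ((sq_iff a' b' c' d').1 h2)) with h | h
  · left; rw [← Matrix.map_mul, ← Matrix.map_mul, h]
  · right
    rw [← Matrix.map_mul, ← Matrix.map_mul, h]
    exact (Matrix.ext fun i j => map_neg φ _)

theorem pm_of_orth [Fintype F] (hq : Fintype.card F = 3) {x y : M₂} (hx : xᵀ * x = 1) (hy : yᵀ * y = 1) :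
    x * y = y * x ∨ x * y = -(y * x) := by
  obtain ⟨φ, hφ⟩ := exists_lift (F := F) hq
  obtain ⟨a, b, c, d, rfl⟩ := hφ x
  obtain ⟨a', b', c', d', rfl⟩ := hφ y
  have hinj := Matrix.map_injective (m := Fin 2) (n := Fin 2) φ.injective
  have hone : ((1 : Matrix (Fin 2) (Fin 2) (ZMod 3))).map φ = 1 := Matrix.map_one φ φ.map_zero φ.map_one
  rw [← Matrix.transpose_map] at hx hy
  have h1 := hinj ((Matrix.map_mul (f := φ)).trans (hx.trans hone.symm))
  have h2 := hinj ((Matrix.map_mul (f := φ)).trans (hy.trans hone.symm))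
  rcases pm_of_entries (orth_facts a b c d ((orth_iff a b c d).1 h1) a' b' c' d'
    ((orth_iff a' b' c' d').1 h2)) with h | h
  · left; rw [← Matrix.map_mul, ← Matrix.map_mul, h]
  · right
    rw [← Matrix.map_mul, ← Matrix.map_mul, h]
    exact (Matrix.ext fun i j => map_neg φ _)

/-- Two anticommuting traceless pairs span: a subalgebra of two by two matrices containing `alt` and
`!![1, 1; 1, -1]` is everything. -/
theorem top_of_quat (h2 : (2 : F) ≠ 0) (A : Subalgebra F M₂) (hi : alt ∈ A)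
    (hk : (!![1, 1; 1, -1] : M₂) ∈ A) : A = ⊤ := by
  rw [eq_top_iff]
  intro x _
  have hx : x = ((x 0 0 + x 1 1) / 2) • (1 : M₂) + ((x 0 1 - x 1 0) / 2) • alt +
      (((x 0 0 - x 1 1) / 2 + (x 0 1 + x 1 0) / 2) / 2) • (!![1, 1; 1, -1] : M₂) +
      (((x 0 0 - x 1 1) / 2 - (x 0 1 + x 1 0) / 2) / 2) • (alt * (!![1, 1; 1, -1] : M₂)) := by
    ext i j
    fin_cases i <;> fin_cases j <;>
    · simp [alt, Matrix.mul_apply, Fin.sum_univ_two]
      field_simp
      ring
  rw [hx]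
  exact A.add_mem (A.add_mem (A.add_mem (A.smul_mem A.one_mem _) (A.smul_mem hi _)) (A.smul_mem hk _))
    (A.smul_mem (A.mul_mem hi hk) _)

/-- The same for the dihedral pair. -/
theorem top_of_dihedral (h2 : (2 : F) ≠ 0) (A : Subalgebra F M₂) (hi : alt ∈ A)
    (hk : (!![1, 0; 0, -1] : M₂) ∈ A) : A = ⊤ := by
  rw [eq_top_iff]
  intro x _
  have hx : x = ((x 0 0 + x 1 1) / 2) • (1 : M₂) + ((x 0 1 - x 1 0) / 2) • alt +
      ((x 0 0 - x 1 1) / 2) • (!![1, 0; 0, -1] : M₂) +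
      (-(x 0 1 + x 1 0) / 2) • (alt * (!![1, 0; 0, -1] : M₂)) := by
    ext i j
    fin_cases i <;> fin_cases j <;>
    · simp [alt, Matrix.mul_apply, Fin.sum_univ_two]
      field_simp
      ring
  rw [hx]
  exact A.add_mem (A.add_mem (A.add_mem (A.smul_mem A.one_mem _) (A.smul_mem hi _)) (A.smul_mem hk _))
    (A.smul_mem (A.mul_mem hi hk) _)

theorem alt_sq : (alt : M₂) * alt = -1 := by
  ext i j; fin_cases i <;> fin_cases j <;> simp [alt]

theorem alt_transpose : (alt : M₂)ᵀ = -alt := by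
  ext i j; fin_cases i <;> fin_cases j <;> simp [alt]

theorem alt_orth : (alt : M₂)ᵀ * alt = 1 := by rw [alt_transpose, neg_mul, alt_sq, neg_neg]

theorem alt_conj (b : M₂) : bᵀ * alt * b = b.det • alt := two_by_two_skew_conj b

theorem alt_conj' (b : M₂) : b * alt * bᵀ = b.det • alt := by
  have h := alt_conj bᵀ
  rwa [Matrix.transpose_transpose, Matrix.det_transpose] at h

theorem dih_orth : (!![1, 0; 0, -1] : M₂)ᵀ * !![1, 0; 0, -1] = 1 := by
  ext i j; fin_cases i <;> fin_cases j <;> simp [Matrix.mul_apply, Fin.sum_univ_two]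

theorem quat_sq (h3 : (3 : F) = 0) : (!![1, 1; 1, -1] : M₂) * !![1, 1; 1, -1] = -1 := by
  ext i j; fin_cases i <;> fin_cases j <;> simp <;> linear_combination h3

end Two

open Matrix Cfsg.Geo
open scoped MatrixGroups

variable {m : ℕ} {F : Type*} [Field F]

local notation "ιS" => (Fin m ⊕ Fin m)
local notation "𝕄" => Matrix (Fin m ⊕ Fin m) (Fin m ⊕ Fin m) F
local notation "sf" => Cfsg.sympForm m F

variable {κ : Type} [Fintype κ] [DecidableEq κ]

/-- Coordinates adapted to a family of vectors with invertible Gram matrix. -/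
theorem exists_coords_of_gram (e : ιS ≃ κ) (w : κ → ιS → F) {G : Matrix κ κ F} (hG : IsUnit G)
    (hw : ∀ p q, sf (w p) (w q) = G p q) :
    ∃ P : GL ιS F, gram e P = G ∧ ∀ p, (P : 𝕄) *ᵥ ((Pi.single p 1) ∘ e) = w p := by
  obtain ⟨M, hM⟩ : ∃ M : 𝕄, M = Matrix.of fun i j => w (e j) i := ⟨_, rfl⟩
  have hcol : ∀ p, M *ᵥ ((Pi.single p 1) ∘ e) = w p := by
    intro p
    funext i
    rw [hM, mulVec, dotProduct, Finset.sum_eq_single (e.symm p)]
    · simp
    · intro j _ hj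
      have : e j ≠ p := fun h => hj (by rw [← h, Equiv.symm_apply_apply])
      simp [this]
    · simp
  have hgram : Matrix.reindex e e (Mᵀ * Matrix.J (Fin m) F * M) = G := by
    ext p q
    rw [← hw, Matrix.reindex_apply, Matrix.submatrix_apply, hM, mul_assoc]
    simp only [Matrix.mul_apply, transpose_apply, Matrix.of_apply, Equiv.apply_symm_apply, Cfsg.sympForm,
      dotProduct, mulVec]
  have hdet : IsUnit M := by
    rw [Matrix.isUnit_iff_isUnit_det] at hG ⊢
    rw [← hgram, Matrix.det_reindex_self, Matrix.det_mul, Matrix.det_mul] at hG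
    exact isUnit_of_mul_isUnit_right hG
  obtain ⟨P, rfl⟩ := hdet
  exact ⟨P, hgram, hcol⟩

theorem tmat_single (e : ιS ≃ κ) {P : GL ιS F} (U : Matrix κ κ F) (p : κ) :
    tmat e P U *ᵥ ((P : 𝕄) *ᵥ ((Pi.single p 1) ∘ e)) = ∑ r, U r p • ((P : 𝕄) *ᵥ ((Pi.single r 1) ∘ e)) := by
  rw [tmat_mulVec]
  simp only [← mulVec_smul, ← mulVec_sum]
  congr 1
  funext i
  rw [Function.comp_apply, Matrix.mulVec_single_one, Finset.sum_apply, Finset.sum_eq_single (e i)]
  · simp
  · intro r _ hr; simp [hr.symm]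
  · simp

theorem coeff_injective (e : ιS ≃ κ) (P : GL ιS F) {a b : κ → F}
    (h : ∑ r, a r • ((P : 𝕄) *ᵥ ((Pi.single r 1) ∘ e)) = ∑ r, b r • ((P : 𝕄) *ᵥ ((Pi.single r 1) ∘ e))) :
    a = b := by
  have key : ∀ a : κ → F, ∑ r, a r • ((P : 𝕄) *ᵥ ((Pi.single r 1) ∘ e)) = (P : 𝕄) *ᵥ (a ∘ e) := by
    intro a
    simp only [← mulVec_smul, ← mulVec_sum]
    congr 1
    funext i
    rw [Finset.sum_apply, Finset.sum_eq_single (e i)]
    · simp
    · intro r _ hr; simp [hr.symm]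
    · simp
  rw [key, key] at h
  have h' := mulVec_injective_of_isUnit P.isUnit h
  funext r
  simpa using congrFun h' (e.symm r)

theorem tmat_mem_spGL (e : ιS ≃ κ) (P : GL ιS F) {g : GL ιS F} {X : Matrix κ κ F}
    (hg : (g : 𝕄) = tmat e P X) (h : Xᵀ * gram e P * X = gram e P) : g ∈ Cfsg.spGL m F := by
  intro u v
  show sf ((g : 𝕄) *ᵥ u) ((g : 𝕄) *ᵥ v) = sf u v
  obtain ⟨x, rfl⟩ := coords_surj e P u
  obtain ⟨y, rfl⟩ := coords_surj e P v
  rw [hg, tmat_mulVec, tmat_mulVec, form_coords, form_coords]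
  conv_rhs => rw [← h]
  rw [← mulVec_mulVec, ← mulVec_mulVec, dotProduct_mulVec _ Xᵀ, vecMul_transpose]

theorem exists_gl_tmat (e : ιS ≃ κ) (P : GL ιS F) {X : Matrix κ κ F} (hX : IsUnit X) :
    ∃ g : GL ιS F, (g : 𝕄) = tmat e P X := by
  obtain ⟨u, hu⟩ := hX.map (tmat e P)
  exact ⟨u, hu⟩

end CfsgLib.AschSp
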