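import Cfsg.Agent.Lib.AschSp.GenSymp
import Cfsg.Agent.Lib.AschSp.TwoFactor
import Cfsg.Agent.Lib.AschSp.Cases
import Cfsg.Agent.Lib.MaxSub.TensorFrameOdd

/-!
The symplectic group of degree four over three elements: the stabilisers of a pair of totally isotropic
lines and of a skew quadratic extension are not maximal.
-/

set_option autoImplicit false
set_option linter.unusedSectionVars false

namespace CfsgLib.AschSp

open Matrix Cfsg.Geo CfsgLib.Aschbacher
open scoped MatrixGroups Kronecker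

variable {F : Type*} [Field F]

local notation "ι₂" => (Fin 2 ⊕ Fin 2)
local notation "𝕄" => Matrix (Fin 2 ⊕ Fin 2) (Fin 2 ⊕ Fin 2) F
local notation "sf" => Cfsg.sympForm 2 F
local notation "M₂" => Matrix (Fin 2) (Fin 2) F
local notation "κ₂" => (Fin 2 × Fin 2)

theorem exists_equiv_four : Nonempty (ι₂ ≃ κ₂) := ⟨Fintype.equivOfCardEq (by simp)⟩

theorem alt_kron_one_unit : IsUnit ((Two.alt : M₂) ⊗ₖ (1 : M₂)) := by
  refine IsUnit.of_mul_eq_one (-((Two.alt : M₂) ⊗ₖ (1 : M₂))) ?_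
  rw [mul_neg, ← mul_kronecker_mul, Two.alt_sq, one_mul, ← neg_one_smul F (1 : M₂), smul_kronecker,
    one_kronecker_one, neg_one_smul, neg_neg]

theorem det_cases [Fintype F] (hq : Fintype.card F = 3) {a : F} (ha : a ≠ 0) : a = 1 ∨ a = -1 :=
  (MaxSub.TensorFrame.three hq).2.2.2 a ha

/-- Coordinates with Gram matrix `alt ⊗ 1` adapted to a pair of totally isotropic lines. -/
theorem exists_pair_coords {D : Fin 2 → Submodule F (ι₂ → F)} (hD : IsMDecomposition 2 D)
    (hts : ∀ i, IsTotallySingularFor (Cfsg.sympForm 2 F) (D i)) (e : ι₂ ≃ κ₂) :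
    ∃ P : GL ι₂ F, gram e P = (Two.alt : M₂) ⊗ₖ (1 : M₂) ∧
      ∀ p : κ₂, (P : 𝕄) *ᵥ ((Pi.single p 1) ∘ e) ∈ D p.1 := by
  classical
  let b₀ : Module.Basis (Fin 2) F (D 0) := Module.finBasisOfFinrankEq F _ (hD.finrank_eq 0)
  let L : D 1 →ₗ[F] (Fin 2 → F) :=
    { toFun := fun v a => sf (b₀ a : ι₂ → F) v
      map_add' := fun v w => funext fun a => MaxSub.sympForm_add_right _ _ _
      map_smul' := fun c v => funext fun a => MaxSub.sympForm_smul_right _ _ _ }
  have hinj : Function.Injective L := by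
    rw [injective_iff_map_eq_zero]
    intro v hv
    refine Subtype.ext (form_sep_right fun u => ?_)
    obtain ⟨x, hx, y, hy, rfl⟩ : ∃ x ∈ D 0, ∃ y ∈ D 1, x + y = u := by
      have hu : u ∈ iSup D := hD.iSup_eq_top ▸ Submodule.mem_top
      have h01 : iSup D ≤ D 0 ⊔ D 1 := iSup_le fun i => by
        fin_cases i
        · exact le_sup_left
        · exact le_sup_right
      exact Submodule.mem_sup.1 (h01 hu)
    rw [MaxSub.sympForm_add_left, hts 1 y hy _ v.2, add_zero]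
    have h0 : x = ∑ a, b₀.repr ⟨x, hx⟩ a • (b₀ a : ι₂ → F) := by
      have h := congrArg Subtype.val (b₀.sum_repr ⟨x, hx⟩)
      rw [Submodule.coe_sum] at h
      exact h.symm
    rw [h0, Fin.sum_univ_two, MaxSub.sympForm_add_left, MaxSub.sympForm_smul_left,
      MaxSub.sympForm_smul_left, show sf (b₀ 0 : ι₂ → F) (v : ι₂ → F) = 0 from congrFun hv 0,
      show sf (b₀ 1 : ι₂ → F) (v : ι₂ → F) = 0 from congrFun hv 1, mul_zero, mul_zero, add_zero]
  have hsurj : Function.Surjective L :=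
    (LinearMap.injective_iff_surjective_of_finrank_eq_finrank
      (by rw [hD.finrank_eq, Module.finrank_fin_fun])).1 hinj
  choose v hv using fun a => hsurj (Pi.single a 1)
  let w : κ₂ → ι₂ → F := fun p => if p.1 = 0 then (b₀ p.2 : ι₂ → F) else (v p.2 : ι₂ → F)
  have hw : ∀ p, w p ∈ D p.1 := by
    rintro ⟨s, a⟩
    fin_cases s
    · exact (b₀ a).2
    · exact (v a).2
  have hdual : ∀ a c, sf (b₀ a : ι₂ → F) (v c : ι₂ → F) = if a = c then 1 else 0 := fun a c => by
    have := congrFun (hv c) a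
    simpa [L, Pi.single_apply] using this
  obtain ⟨P, hP, hPw⟩ := exists_coords_of_gram e w alt_kron_one_unit (G := (Two.alt : M₂) ⊗ₖ (1 : M₂)) (by
    rintro ⟨s, a⟩ ⟨s', c⟩
    rw [kroneckerMap_apply]
    fin_cases s <;> fin_cases s'
    · simpa [w, Two.alt] using hts 0 _ (b₀ a).2 _ (b₀ c).2
    · simp [w, Two.alt, hdual, Matrix.one_apply]
    · simp [w, Two.alt, Matrix.one_apply]; rw [MaxSub.sympForm_swap, hdual]; split_ifs <;> simp_all
    · simpa [w, Two.alt] using hts 1 _ (v a).2 _ (v c).2)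
  exact ⟨P, hP, fun p => by rw [hPw]; exact hw p⟩

theorem neg_alt_mul_alt (A : M₂) : -(Two.alt * A * Two.alt) = !![A 1 1, -A 1 0; -A 0 1, A 0 0] := by
  conv_lhs => rw [Matrix.eta_fin_two A]
  simp [Two.alt]

/-- A block matrix made from `A` and its inverse transpose normalises `alt ⊗ alt`. -/
theorem pair_comm (A : M₂) (hd : A.det * A.det = 1) {s t : Fin 2} (hst : s ≠ t) :
    (Matrix.single s (0 : Fin 2) (1 : F) ⊗ₖ A + Matrix.single t (1 : Fin 2) (1 : F) ⊗ₖ
        ((Two.alt : M₂) s t • A.det • -(Two.alt * A * Two.alt))) * ((Two.alt : M₂) ⊗ₖ Two.alt) =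
      (A.det • ((Two.alt : M₂) ⊗ₖ Two.alt)) *
        (Matrix.single s (0 : Fin 2) (1 : F) ⊗ₖ A + Matrix.single t (1 : Fin 2) (1 : F) ⊗ₖ
          ((Two.alt : M₂) s t • A.det • -(Two.alt * A * Two.alt))) := by
  rw [neg_alt_mul_alt, add_mul, mul_add]
  simp only [Matrix.smul_mul, ← mul_kronecker_mul]
  obtain ⟨rfl, rfl⟩ | ⟨rfl, rfl⟩ : (s = 0 ∧ t = 1) ∨ (s = 1 ∧ t = 0) := by omega
  all_goals
    generalize A.det = δ at hd ⊢
    have e₀₀ : Matrix.single (0 : Fin 2) (0 : Fin 2) (1 : F) = !![1, 0; 0, 0] := by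
      ext i j; fin_cases i <;> fin_cases j <;> simp
    have e₀₁ : Matrix.single (0 : Fin 2) (1 : Fin 2) (1 : F) = !![0, 1; 0, 0] := by
      ext i j; fin_cases i <;> fin_cases j <;> simp
    have e₁₀ : Matrix.single (1 : Fin 2) (0 : Fin 2) (1 : F) = !![0, 0; 1, 0] := by
      ext i j; fin_cases i <;> fin_cases j <;> simp
    have e₁₁ : Matrix.single (1 : Fin 2) (1 : Fin 2) (1 : F) = !![0, 0; 0, 1] := by
      ext i j; fin_cases i <;> fin_cases j <;> simp
    simp only [e₀₀, e₀₁, e₁₀, e₁₁]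
    rw [Matrix.eta_fin_two A]
    ext ⟨x, a⟩ ⟨y, c⟩
    fin_cases x <;> fin_cases y <;> fin_cases a <;> fin_cases c <;>
      simp [Two.alt, Matrix.mul_apply, Fin.sum_univ_two, Matrix.single_apply, smul_eq_mul] <;>
      grind

/-- An involution fixed by the adjoint and negated or fixed by a group gives a decomposition. -/
theorem decomp_of_involution [Fintype F] {H : Subgroup (GL ι₂ F)} (h2 : (2 : F) ≠ 0) {J : 𝕄}
    (hJJ : J * J = 1) (hadjJ : adj J = J) (hJne : ∀ c : F, J ≠ c • 1)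
    (key : ∀ g ∈ H, cj g J = J ∨ cj g J = -J) (hswap : ∃ g : GL ι₂ F, cj g J = -J) :
    ∃ (k : ℕ) (D' : Fin 2 → Submodule F (ι₂ → F)), IsNondegenerateMDecomposition (Cfsg.sympForm 2 F) k D' ∧
      H ≤ decompositionStabilizer D' := by
  obtain ⟨g₀, hg₀⟩ := hswap
  obtain ⟨E₀, hE₀⟩ : ∃ E₀, E₀ = (2 : F)⁻¹ • (1 + J) := ⟨_, rfl⟩
  obtain ⟨E₁, hE₁⟩ : ∃ E₁, E₁ = (2 : F)⁻¹ • (1 - J) := ⟨_, rfl⟩
  have i₀ : E₀ * E₀ = E₀ := by
    rw [hE₀, Matrix.smul_mul, Matrix.mul_smul, smul_smul, add_mul, mul_add, mul_add, hJJ, one_mul, one_mul,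
      mul_one]
    match_scalars <;> field_simp <;> ring
  have i₁ : E₁ * E₁ = E₁ := by
    rw [hE₁, Matrix.smul_mul, Matrix.mul_smul, smul_smul, sub_mul, mul_sub, mul_sub, hJJ, one_mul, one_mul,
      mul_one]
    match_scalars <;> field_simp <;> ring
  have o₀₁ : E₀ * E₁ = 0 ∧ E₁ * E₀ = 0 := by
    constructor <;> rw [hE₀, hE₁, Matrix.smul_mul, Matrix.mul_smul, smul_smul] <;>
      rw [show ∀ x : 𝕄, x = 0 → ((2 : F)⁻¹ * (2 : F)⁻¹) • x = 0 from fun x h => by rw [h, smul_zero]]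
    · rw [add_mul, mul_sub, mul_sub, hJJ, one_mul, one_mul, mul_one]; abel
    · rw [sub_mul, mul_add, mul_add, hJJ, one_mul, one_mul, mul_one]; abel
  have n₀ : E₀ ≠ 0 := fun h => by
    rw [hE₀, smul_eq_zero, inv_eq_zero] at h
    exact hJne (-1) (by rw [neg_one_smul]; exact eq_neg_of_add_eq_zero_right (h.resolve_left h2))
  have n₁ : E₁ ≠ 0 := fun h => by
    rw [hE₁, smul_eq_zero, inv_eq_zero] at h
    exact hJne 1 (by rw [one_smul]; exact (sub_eq_zero.1 (h.resolve_left h2)).symm)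
  have hneg : ∀ g : GL ι₂ F, cj g J = -J → cj g E₀ = E₁ ∧ cj g E₁ = E₀ := fun g hg => by
    constructor <;> simp [hE₀, hE₁, map_add, map_sub, hg, sub_eq_add_neg]
  exact decomp_of_idem (κ := Fin 2) ![E₀, E₁] le_rfl (Fin.forall_fin_two.2 ⟨i₀, i₁⟩) (Fin.forall_fin_two.2 ⟨n₀, n₁⟩)
    (fun i j hij => by fin_cases i <;> fin_cases j <;> first | exact absurd rfl hij | exact o₀₁.1 | exact o₀₁.2)
    (by rw [Fin.sum_univ_two]; show E₀ + E₁ = 1; rw [hE₀, hE₁]; match_scalars <;> field_simp <;> ring)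
    (Fin.forall_fin_two.2 ⟨show adj E₀ = E₀ by rw [hE₀, adj_smul, adj_add, adj_one, hadjJ],
      show adj E₁ = E₁ by rw [hE₁, adj_smul, adj_sub, adj_one, hadjJ]⟩)
    (fun g hg i => by
      rcases key g hg with h | h
      · refine ⟨i, ?_⟩
        fin_cases i <;> simp [hE₀, hE₁, map_add, map_sub, h]
      · fin_cases i
        · exact ⟨1, (hneg g h).1⟩
        · exact ⟨0, (hneg g h).2⟩)
    (fun i j => by
      fin_cases i <;> fin_cases j
      · exact ⟨1, by rw [cj_apply]; simp⟩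
      · exact ⟨g₀, (hneg g₀ hg₀).1⟩
      · exact ⟨g₀, (hneg g₀ hg₀).2⟩
      · exact ⟨1, by rw [cj_apply]; simp⟩)

/-- Over three elements a pair of totally isotropic lines refines to an orthogonal decomposition. -/
theorem decomp_of_tsPair [Fintype F] (hq : Fintype.card F = 3) {D : Fin 2 → Submodule F (ι₂ → F)}
    (hD : IsMDecomposition 2 D) (hts : ∀ i, IsTotallySingularFor (Cfsg.sympForm 2 F) (D i)) :
    ∃ (k : ℕ) (D' : Fin 2 → Submodule F (ι₂ → F)), IsNondegenerateMDecomposition (Cfsg.sympForm 2 F) k D' ∧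
      decompositionStabilizer D ⊓ Cfsg.spGL 2 F ≤ decompositionStabilizer D' := by
  classical
  obtain ⟨h3, h2, -, -⟩ := MaxSub.TensorFrame.three hq
  obtain ⟨e⟩ := exists_equiv_four
  obtain ⟨P, hgram, hPD⟩ := exists_pair_coords hD hts e
  obtain ⟨J, hJ⟩ : ∃ J, J = tmat e P ((Two.alt : M₂) ⊗ₖ Two.alt) := ⟨_, rfl⟩
  have hJJ : J * J = 1 := by
    rw [hJ, ← map_mul, ← mul_kronecker_mul, Two.alt_sq, ← neg_one_smul F (1 : M₂), smul_kronecker,
      kronecker_smul, one_kronecker_one, smul_smul, neg_one_mul, neg_neg, one_smul, map_one]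
  have hadjJ : adj J = J := by
    rw [hJ]
    refine adj_tmat e P ?_
    rw [hgram, ← mul_kronecker_mul, ← kroneckerMap_transpose, ← mul_kronecker_mul, Two.alt_transpose,
      neg_mul, Two.alt_sq, neg_neg, mul_one, one_mul]
    ext p q; simp
  have hJne : ∀ c : F, J ≠ c • 1 := by
    intro c h
    rw [hJ, ← map_one (tmat e P), ← map_smul] at h
    have := congrFun (congrFun ((tmat e P).injective h) (0, 0)) (1, 1)
    simp [Two.alt] at this
  have key : ∀ g ∈ decompositionStabilizer D ⊓ Cfsg.spGL 2 F, cj g J = J ∨ cj g J = -J := by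
    rintro g ⟨⟨σ, hσ⟩, hgS⟩
    obtain ⟨U, hU⟩ : ∃ U, (g : 𝕄) = tmat e P U := ⟨_, ((tmat e P).apply_symm_apply _).symm⟩
    have hblock : ∀ r p : κ₂, r.1 ≠ σ p.1 → U r p = 0 := by
      intro r p hr
      have himg : ∑ r', U r' p • ((P : 𝕄) *ᵥ ((Pi.single r' 1) ∘ e)) ∈ D (σ p.1) := by
        rw [← tmat_single, ← hU, ← hσ]
        exact ⟨_, hPD p, rfl⟩
      let A : κ₂ → F := fun r' => if r'.1 = σ p.1 then 0 else U r' p
      have hA : ∑ r', A r' • ((P : 𝕄) *ᵥ ((Pi.single r' 1) ∘ e)) ∈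
          D (σ p.1) ⊓ ⨆ j, ⨆ (_ : j ≠ σ p.1), D j := by
        refine ⟨?_, Submodule.sum_mem _ fun r' _ => ?_⟩
        · have hrest : ∑ r', (U r' p - A r') • ((P : 𝕄) *ᵥ ((Pi.single r' 1) ∘ e)) ∈ D (σ p.1) := by
            refine Submodule.sum_mem _ fun r' _ => ?_
            by_cases h : r'.1 = σ p.1
            · exact Submodule.smul_mem _ _ (h ▸ hPD r')
            · simp [A, h]
          have h := Submodule.sub_mem _ himg hrest
          simpa [← Finset.sum_sub_distrib, ← sub_smul] using h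
        · by_cases h : r'.1 = σ p.1
          · simp [A, h]
          · exact Submodule.smul_mem _ _ (Submodule.mem_iSup_of_mem r'.1 (Submodule.mem_iSup_of_mem h (hPD r')))
      rw [disjoint_iff.1 (iSupIndep_def.1 hD.indep (σ p.1)), Submodule.mem_bot] at hA
      have h0 := congrFun (coeff_injective e P (a := A) (b := 0) (hA.trans (by simp))) r
      simpa [A, hr] using h0
    have hG := gram_invariant e P hgS hU
    rw [hgram] at hG
    obtain ⟨A, hA⟩ : ∃ A : M₂, A = Matrix.of fun a c => U (σ 0, a) (0, c) := ⟨_, rfl⟩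
    obtain ⟨B, hB⟩ : ∃ B : M₂, B = Matrix.of fun a c => U (σ 1, a) (1, c) := ⟨_, rfl⟩
    have hUeq : U = Matrix.single (σ 0) (0 : Fin 2) (1 : F) ⊗ₖ A +
        Matrix.single (σ 1) (1 : Fin 2) (1 : F) ⊗ₖ B := by
      ext ⟨s, a⟩ ⟨s', c⟩
      rw [Matrix.add_apply, kroneckerMap_apply, kroneckerMap_apply, hA, hB]
      fin_cases s'
      · by_cases h : σ 0 = s
        · subst h; simp
        · have := hblock (s, a) (0, c) (Ne.symm h)
          simp [this, Matrix.single_apply, h]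
      · by_cases h : σ 1 = s
        · subst h; simp
        · have := hblock (s, a) (1, c) (Ne.symm h)
          simp [this, Matrix.single_apply, h]
    obtain ⟨ε, hε⟩ : ∃ ε : F, ε = Two.alt (σ 0) (σ 1) := ⟨_, rfl⟩
    have hε1 : ε * ε = 1 := by
      have hne : σ 0 ≠ σ 1 := fun h => by simpa using σ.injective h
      have : (σ 0 = 0 ∧ σ 1 = 1) ∨ (σ 0 = 1 ∧ σ 1 = 0) := by omega
      rcases this with ⟨h0, h1⟩ | ⟨h0, h1⟩ <;> simp [hε, h0, h1, Two.alt]
    have hAB : ε • (Aᵀ * B) = 1 := by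
      ext a c
      have h := congrFun (congrFun hG (0, a)) (1, c)
      rw [hUeq] at h
      simp only [transpose_add, ← kroneckerMap_transpose, add_mul, mul_add, ← mul_kronecker_mul,
        transpose_single, Matrix.add_apply, kroneckerMap_apply] at h
      simp [Two.alt, Matrix.mul_apply, Matrix.single_apply, Fin.sum_univ_two] at h
      rw [hε]
      simpa [Matrix.mul_apply, Fin.sum_univ_two, Two.alt] using h
    have hdA : A.det * B.det = 1 := by
      have h := congrArg Matrix.det hAB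
      rw [det_smul, det_mul, det_transpose, det_one, Fintype.card_fin, pow_two, hε1, one_mul] at h
      exact h
    have hB' : B = ε • (A.det • (-(Two.alt * A * Two.alt))) := by
      have hinv : Aᵀ * (-(Two.alt * A * Two.alt)) = A.det • (1 : M₂) := by
        rw [mul_neg, ← mul_assoc, ← mul_assoc, Two.alt_conj, Matrix.smul_mul, Two.alt_sq, smul_neg, neg_neg]
      have hAinv : IsUnit Aᵀ :=
        (Matrix.isUnit_iff_isUnit_det _).2 (by rw [det_transpose]; exact IsUnit.of_mul_eq_one _ hdA)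
      refine hAinv.mul_left_cancel ?_
      have hd2 : A.det * A.det = 1 := by
        rcases det_cases hq (a := A.det) (left_ne_zero_of_mul_eq_one hdA) with h | h <;> rw [h] <;> ring
      rw [Matrix.mul_smul, Matrix.mul_smul, hinv, smul_smul, smul_smul, mul_assoc, hd2, mul_one]
      conv_lhs => rw [← one_smul F (Aᵀ * B), ← hε1, ← smul_smul, hAB]
    refine (show ∃ c : F, (c = 1 ∨ c = -1) ∧ cj g J = c • J from ?_).elim fun c h => ?_
    swap
    · rcases h.1 with rfl | rfl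
      · left; rw [h.2, one_smul]
      · right; rw [h.2, neg_one_smul]
    have hc : ∃ c : F, (c = 1 ∨ c = -1) ∧
        U * ((Two.alt : M₂) ⊗ₖ Two.alt) = (c • ((Two.alt : M₂) ⊗ₖ Two.alt)) * U :=
      ⟨A.det, det_cases hq (left_ne_zero_of_mul_eq_one hdA), by
        rw [hUeq, hB', hε]
        exact pair_comm A (by
          rcases det_cases hq (a := A.det) (left_ne_zero_of_mul_eq_one hdA) with h | h <;> rw [h] <;> ring)
          (fun h => by simpa using σ.injective h)⟩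
    obtain ⟨c, hc1, hc2⟩ := hc
    exact ⟨c, hc1, by rw [hJ, cj_tmat e P hU hc2, map_smul]⟩
  obtain ⟨k, D', hD', hle⟩ := decomp_of_involution h2 hJJ hadjJ hJne key (by
    let d : M₂ := !![1, 0; 0, -1]
    have hd : d * d = 1 := by ext a c; fin_cases a <;> fin_cases c <;> simp [d]
    obtain ⟨g, hg⟩ := exists_gl_tmat e P (X := d ⊗ₖ (1 : M₂))
      (IsUnit.of_mul_eq_one (d ⊗ₖ (1 : M₂)) (by
        rw [← mul_kronecker_mul, hd, one_mul, one_kronecker_one]))
    refine ⟨g, ?_⟩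
    rw [hJ, cj_tmat e P hg (Y := -((Two.alt : M₂) ⊗ₖ Two.alt)) ?_, map_neg]
    rw [neg_mul, ← mul_kronecker_mul, ← mul_kronecker_mul, one_mul, mul_one]
    ext ⟨s, a⟩ ⟨s', c⟩
    fin_cases s <;> fin_cases s' <;> simp [d, Two.alt])
  exact ⟨k, D', hD', hle⟩

end CfsgLib.AschSp
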