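import Cfsg.Agent.Lib.AschSp.GenSymp
import Cfsg.Agent.Lib.AschSp.TwoFactor
import Cfsg.Agent.Lib.AschSp.SpFourThree

/-!
The symplectic group of degree four over three elements: the normaliser of a skew quadratic extension
normalises an extraspecial group of order 32.
-/

set_option autoImplicit false
set_option linter.unusedSectionVars false

namespace CfsgLib.AschSp

open Matrix Cfsg.Geo CfsgLib.Aschbacher
open scoped MatrixGroups Kronecker

variable {F : Type*} [Field F]

local notation "ι₂" => (Fin 2 ⊕ Fin 2)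
local notation "𝕄" => Matrix (Fin 2 ⊕ Fin 2) (Fin 2 ⊕ Fin 2) F
local notation "sf" => Cfsg.sympForm 2 F
local notation "M₂" => Matrix (Fin 2) (Fin 2) F
local notation "κ₂" => (Fin 2 × Fin 2)

/-- A skew quadratic extension contains a skew square root of minus one that spans it. -/
theorem exists_root [Fintype F] (hq : Fintype.card F = 3) {K : Subalgebra F 𝕄} (hK : IsFieldSubalgebra 2 K)
    (hac : IsAdjointClosedFor (Cfsg.sympForm 2 F) K) (hns : ¬ IsSelfAdjointFor (Cfsg.sympForm 2 F) K) :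
    ∃ j ∈ K, adj j = -j ∧ j * j = -1 ∧ ∀ k ∈ K, ∃ a b : F, k = a • 1 + b • j := by
  classical
  obtain ⟨-, h2, -, -⟩ := MaxSub.TensorFrame.three hq
  have h1ne := one_ne_zero_mat (F := F) (m := 2) two_pos
  have hadj : ∀ k ∈ K, adj k ∈ K := fun k hk => by
    obtain ⟨k', hk', h⟩ := hac k hk
    have : adj k = k' := mat_ext fun u v => by rw [← adj_spec, h u v]
    rwa [this]
  obtain ⟨k, hk, hka⟩ : ∃ k ∈ K, adj k ≠ k := by
    by_contra hcon
    push Not at hcon
    exact hns fun k hk u v => by rw [adj_spec, hcon k hk]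
  obtain ⟨j, hj⟩ : ∃ j, j = k - adj k := ⟨_, rfl⟩
  have hjK : j ∈ K := hj ▸ K.sub_mem hk (hadj k hk)
  have hjs : adj j = -j := by rw [hj, adj_sub, adj_adj, neg_sub]
  have hj0 : j ≠ 0 := fun h => hka (sub_eq_zero.1 (hj.symm.trans h)).symm
  have hjsc : ∀ c : F, j ≠ c • 1 := fun c h => by
    rw [h, adj_smul, adj_one, ← neg_smul] at hjs
    have hc : c = -c := smul_left_injective F h1ne hjs
    exact hj0 (by rw [h, show c = 0 from (mul_eq_zero.1 (show (2 : F) * c = 0 by linear_combination hc)).resolve_left h2,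
      zero_smul])
  have hli : LinearIndependent F ![(1 : 𝕄), j] := by
    rw [LinearIndependent.pair_iff' h1ne]
    exact fun a => (hjsc a).symm
  have hspan : Submodule.span F (Set.range ![(1 : 𝕄), j]) = Subalgebra.toSubmodule K := by
    refine Submodule.eq_of_le_of_finrank_eq (Submodule.span_le.2 ?_) ?_
    · rintro _ ⟨i, rfl⟩; fin_cases i
      · exact K.one_mem
      · exact hjK
    · rw [finrank_span_eq_card hli, Subalgebra.finrank_toSubmodule, hK.finrank_eq, Fintype.card_fin]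
  have hrep : ∀ x ∈ K, ∃ a b : F, x = a • 1 + b • j := fun x hx => by
    have hx' : x ∈ Submodule.span F (Set.range ![(1 : 𝕄), j]) := hspan ▸ hx
    rw [Matrix.range_cons, Matrix.range_cons, Matrix.range_empty, Set.union_empty, Set.singleton_union,
      Submodule.mem_span_pair] at hx'
    obtain ⟨a, b, rfl⟩ := hx'
    exact ⟨a, b, rfl⟩
  refine ⟨j, hjK, hjs, ?_, hrep⟩
  obtain ⟨a, b, hab⟩ := hrep _ (K.mul_mem hjK hjK)
  have h := congrArg adj hab
  rw [adj_mul, hjs, adj_add, adj_smul, adj_smul, adj_one, hjs, neg_mul, mul_neg, neg_neg, hab, smul_neg] at h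
  have hb : b = 0 := by
    have h' : ((2 : F) * b) • j = 0 := by
      rw [mul_smul, two_smul]
      calc b • j + b • j = (a • (1 : 𝕄) + b • j) - (a • 1 + -(b • j)) := by abel
        _ = 0 := by rw [← h, sub_self]
    exact (mul_eq_zero.1 ((smul_eq_zero.1 h').resolve_right hj0)).resolve_left h2
  rw [hb, zero_smul, add_zero] at hab
  obtain ⟨y, hy, hjy⟩ := hK.inv j hjK hj0
  have ha : a ≠ 0 := fun h => hj0 (by
    rw [← mul_one j, ← hjy, ← mul_assoc, hab, h, zero_smul, zero_mul])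
  rcases det_cases hq ha with rfl | rfl
  · exfalso
    rw [one_smul] at hab
    obtain ⟨z, hz, hz'⟩ := hK.inv (j - 1) (K.sub_mem hjK K.one_mem) (sub_ne_zero.2 (by simpa using hjsc 1))
    refine hjsc (-1) ?_
    have h0 : (j + 1) * (j - 1) = 0 := by rw [add_mul, mul_sub, hab, mul_one, one_mul]; abel
    have h1 : j + 1 = 0 := by
      calc j + 1 = (j + 1) * ((j - 1) * z) := by rw [hz', mul_one]
        _ = 0 := by rw [← mul_assoc, h0, zero_mul]
    rw [neg_one_smul]; exact eq_neg_of_add_eq_zero_left h1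
  · rw [hab, neg_one_smul]

/-- Coordinates in which the root is `1 ⊗ alt` and the form is `alt ⊗ 1`. -/
theorem exists_root_coords [Fintype F] (hq : Fintype.card F = 3) {j : 𝕄} (hjs : adj j = -j) (hj2 : j * j = -1)
    (e : ι₂ ≃ κ₂) :
    ∃ P : GL ι₂ F, gram e P = (Two.alt : M₂) ⊗ₖ (1 : M₂) ∧ j = tmat e P ((1 : M₂) ⊗ₖ Two.alt) := by
  classical
  obtain ⟨h3, h2, hsq, hpm⟩ := MaxSub.TensorFrame.three hq
  have hskew : ∀ u v, sf (j *ᵥ u) v = -sf u (j *ᵥ v) := fun u v => by
    rw [adj_spec, hjs, neg_mulVec, ← neg_one_smul F (j *ᵥ v), MaxSub.sympForm_smul_right, neg_one_mul]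
  have hjj : ∀ u, j *ᵥ (j *ᵥ u) = -u := fun u => by rw [mulVec_mulVec, hj2, neg_mulVec, one_mulVec]
  have hisom : ∀ u v, sf (j *ᵥ u) (j *ᵥ v) = sf u v := fun u v => by
    rw [hskew, hjj, ← neg_one_smul F v, MaxSub.sympForm_smul_right]; ring
  have hsym : ∀ u v, sf v (j *ᵥ u) = sf u (j *ᵥ v) := fun u v => by
    rw [MaxSub.sympForm_swap, hskew, neg_neg]
  have hnr : ∀ a b : F, a * a + b * b = 0 → a = 0 ∧ b = 0 := by
    intro a b h
    rcases eq_or_ne a 0 with rfl | ha
    · exact ⟨rfl, mul_self_eq_zero.1 (by linear_combination h)⟩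
    · exfalso
      rcases eq_or_ne b 0 with rfl | hb
      · exact ha (mul_self_eq_zero.1 (by linear_combination h))
      · exact h2 (by linear_combination h - hsq a ha - hsq b hb)
  -- an isotropic vector
  obtain ⟨u₁, hu₁0, hu₁⟩ : ∃ u, u ≠ 0 ∧ sf u (j *ᵥ u) = 0 := by
    obtain ⟨u, hu⟩ : ∃ u : ι₂ → F, u ≠ 0 := ⟨Pi.single (Sum.inl 0) 1, by simp⟩
    by_cases ha : sf u (j *ᵥ u) = 0
    · exact ⟨u, hu, ha⟩
    let φ : (ι₂ → F) →ₗ[F] (Fin 2 → F) :=
      { toFun := fun w => ![sf u w, sf (j *ᵥ u) w]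
        map_add' := fun x y => by
          funext i; fin_cases i <;> exact MaxSub.sympForm_add_right _ _ _
        map_smul' := fun c x => by
          funext i; fin_cases i <;> exact MaxSub.sympForm_smul_right _ _ _ }
    obtain ⟨w, hw, hw0⟩ : ∃ w, φ w = 0 ∧ w ≠ 0 := by
      have h := φ.finrank_range_add_finrank_ker
      have h' := Submodule.finrank_le (LinearMap.range φ)
      rw [Module.finrank_fin_fun] at h'
      rw [Module.finrank_pi, Fintype.card_sum, Fintype.card_fin] at h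
      have hker : LinearMap.ker φ ≠ ⊥ := fun hb => by rw [hb, finrank_bot] at h; omega
      obtain ⟨w, hw, hw0⟩ := (LinearMap.ker φ).exists_mem_ne_zero_of_ne_bot hker
      exact ⟨w, hw, hw0⟩
    have w1 : sf u w = 0 := congrFun hw 0
    have w2 : sf (j *ᵥ u) w = 0 := congrFun hw 1
    have w3 : sf u (j *ᵥ w) = 0 := neg_eq_zero.1 ((hskew u w).symm.trans w2)
    have w4 : sf w (j *ᵥ u) = 0 := by rw [hsym, w3]
    by_cases hb : sf w (j *ᵥ w) = 0
    · exact ⟨w, hw0, hb⟩
    have hne : ∀ z, (z = w ∨ z = w + j *ᵥ w) → u + z ≠ 0 := by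
      intro z hz h
      have hz' : u = -z := eq_neg_of_add_eq_zero_left h
      refine ha ?_
      have he : sf (-z) (j *ᵥ u) = 0 := by
        rcases hz with rfl | rfl
        · rw [← neg_one_smul F z, MaxSub.sympForm_smul_left, w4, mul_zero]
        · rw [← neg_one_smul F (w + j *ᵥ w), MaxSub.sympForm_smul_left, MaxSub.sympForm_add_left, w4, hisom,
            MaxSub.sympForm_swap, w1]
          ring
      rwa [← hz'] at he
    rcases eq_or_ne (sf w (j *ᵥ w)) (-sf u (j *ᵥ u)) with hb' | hb'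
    · refine ⟨u + w, hne w (Or.inl rfl), ?_⟩
      rw [mulVec_add, MaxSub.sympForm_add_left, MaxSub.sympForm_add_right, MaxSub.sympForm_add_right, w3, w4, hb']
      ring
    · have hb'' : sf w (j *ᵥ w) = sf u (j *ᵥ u) := by
        rcases hpm _ ha with h1 | h1 <;> rcases hpm _ hb with h1' | h1' <;> rw [h1, h1'] at hb' ⊢ <;>
          first | rfl | exact absurd (by ring) hb'
      refine ⟨u + (w + j *ᵥ w), hne _ (Or.inr rfl), ?_⟩
      have w5 : sf (j *ᵥ w) (j *ᵥ u) = 0 := by rw [hisom, MaxSub.sympForm_swap, w1, neg_zero]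
      have w6 : sf u w = 0 := w1
      simp only [mulVec_add, hjj, ← sub_eq_add_neg, form_sub_right, MaxSub.sympForm_add_left,
        MaxSub.sympForm_add_right, w3, w4, w5, w6, hisom, MaxSub.sympForm_self]
      rw [MaxSub.sympForm_swap w (j *ᵥ w), hb'']
      linear_combination (sf u (j *ᵥ u)) * h3
  obtain ⟨z, hz⟩ : ∃ z, sf u₁ z = 1 := by
    obtain ⟨z, hz⟩ : ∃ z, sf u₁ z ≠ 0 := by
      by_contra h; push Not at h; exact hu₁0 (form_sep_left h)
    exact ⟨(sf u₁ z)⁻¹ • z, by rw [MaxSub.sympForm_smul_right, inv_mul_cancel₀ hz]⟩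
  obtain ⟨y, hy1, hy2⟩ : ∃ y, sf u₁ y = 1 ∧ sf u₁ (j *ᵥ y) = 0 := by
    obtain ⟨t, ht⟩ : ∃ t, t = sf u₁ (j *ᵥ z) := ⟨_, rfl⟩
    have hd : 1 + t * t ≠ 0 := fun h => one_ne_zero (hnr 1 t (by linear_combination h)).1
    refine ⟨(1 + t * t)⁻¹ • z + ((1 + t * t)⁻¹ * t) • (j *ᵥ z), ?_, ?_⟩
    · rw [MaxSub.sympForm_add_right, MaxSub.sympForm_smul_right, MaxSub.sympForm_smul_right, hz, ← ht,
        mul_assoc, ← mul_add, inv_mul_cancel₀ hd]
    · rw [mulVec_add, mulVec_smul, mulVec_smul, hjj, MaxSub.sympForm_add_right, MaxSub.sympForm_smul_right,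
        MaxSub.sympForm_smul_right, ← neg_one_smul F z, MaxSub.sympForm_smul_right, hz, ← ht]
      ring
  obtain ⟨u₂, hu₂⟩ : ∃ u₂, u₂ = y + sf y (j *ᵥ y) • (j *ᵥ u₁) := ⟨_, rfl⟩
  have hu12 : sf u₁ u₂ = 1 := by
    rw [hu₂, MaxSub.sympForm_add_right, MaxSub.sympForm_smul_right, hy1, hu₁, mul_zero, add_zero]
  have hu12' : sf u₁ (j *ᵥ u₂) = 0 := by
    rw [hu₂, mulVec_add, mulVec_smul, hjj, MaxSub.sympForm_add_right, MaxSub.sympForm_smul_right, hy2,
      ← neg_one_smul F u₁, MaxSub.sympForm_smul_right, MaxSub.sympForm_self]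
    ring
  have hu22 : sf u₂ (j *ᵥ u₂) = 0 := by
    have hyu : sf y u₁ = -1 := by rw [MaxSub.sympForm_swap, hy1]
    rw [hu₂, mulVec_add, mulVec_smul, hjj, MaxSub.sympForm_add_left, MaxSub.sympForm_add_right,
      MaxSub.sympForm_add_right, MaxSub.sympForm_smul_right, MaxSub.sympForm_smul_left,
      MaxSub.sympForm_smul_left, MaxSub.sympForm_smul_right, ← neg_one_smul F u₁,
      MaxSub.sympForm_smul_right, MaxSub.sympForm_smul_right, hyu, hisom, hy1, hskew, hu₁]
    linear_combination (sf y (j *ᵥ y)) * h3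
  let b : Fin 2 → ι₂ → F := ![u₁, u₂]
  let w : κ₂ → ι₂ → F := fun p => if p.2 = 0 then b p.1 else (-1 : F) • (j *ᵥ b p.1)
  have hb : ∀ a c, sf (b a) (b c) = Two.alt a c := fun a c => by
    fin_cases a <;> fin_cases c <;> simp [b, Two.alt, MaxSub.sympForm_self, hu12]
    rw [MaxSub.sympForm_swap, hu12]
  have hbj : ∀ a c, sf (b a) (j *ᵥ b c) = 0 := fun a c => by
    fin_cases a <;> fin_cases c
    · exact hu₁
    · exact hu12'
    · rw [hsym]; exact hu12'
    · exact hu22
  have hbj' : ∀ a c, sf (j *ᵥ b a) (b c) = 0 := fun a c => by rw [hskew, hbj, neg_zero]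
  obtain ⟨P, hP, hPw⟩ := exists_coords_of_gram e w alt_kron_one_unit (G := (Two.alt : M₂) ⊗ₖ (1 : M₂)) (by
    rintro ⟨a, i⟩ ⟨c, k⟩
    rw [kroneckerMap_apply]
    fin_cases i <;> fin_cases k <;>
      simp [w, hb, hbj, hbj', hisom, MaxSub.sympForm_smul_left, MaxSub.sympForm_smul_right, -neg_smul])
  refine ⟨P, hP, ?_⟩
  refine mat_ext fun u v => ?_
  obtain ⟨x, rfl⟩ := coords_surj e P v
  congr 1
  have hkey : ∀ p, j *ᵥ ((P : 𝕄) *ᵥ ((Pi.single p 1) ∘ e)) =
      tmat e P ((1 : M₂) ⊗ₖ Two.alt) *ᵥ ((P : 𝕄) *ᵥ ((Pi.single p 1) ∘ e)) := by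
    rintro ⟨a, i⟩
    rw [tmat_single, hPw, Fintype.sum_prod_type]
    simp only [hPw, Fin.sum_univ_two, kroneckerMap_apply]
    fin_cases a <;> fin_cases i <;> simp [w, Two.alt, hjj, Matrix.one_apply, mulVec_neg]
  have hx : (P : 𝕄) *ᵥ (x ∘ e) = ∑ p, x p • ((P : 𝕄) *ᵥ ((Pi.single p 1) ∘ e)) := by
    simp only [← mulVec_smul, ← mulVec_sum]
    congr 1
    funext i
    rw [Finset.sum_apply, Finset.sum_eq_single (e i)]
    · simp
    · intro r _ hr; simp [hr.symm]
    · simp
  simp only [hx, mulVec_sum, mulVec_smul, hkey]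

theorem commute_one_alt {U : Matrix κ₂ κ₂ F} (h : U * ((1 : M₂) ⊗ₖ Two.alt) = ((1 : M₂) ⊗ₖ Two.alt) * U) :
    ∃ A B : M₂, U = A ⊗ₖ (1 : M₂) + B ⊗ₖ Two.alt := by
  refine ⟨Matrix.of fun a c => U (a, 0) (c, 0), Matrix.of fun a c => U (a, 0) (c, 1), ?_⟩
  ext ⟨a, i⟩ ⟨c, k⟩
  have h0 := congrFun (congrFun h (a, 0)) (c, 0)
  have h1 := congrFun (congrFun h (a, 0)) (c, 1)
  simp [Two.alt, Matrix.mul_apply, Fintype.sum_prod_type, Fin.sum_univ_two, Matrix.one_apply] at h0 h1
  fin_cases i <;> fin_cases k <;> simp [Two.alt, Matrix.one_apply] <;>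
    first
      | linear_combination h0
      | linear_combination -h0
      | linear_combination h1
      | linear_combination -h1

theorem unitary_factor [Fintype F] (hq : Fintype.card F = 3) {U : Matrix κ₂ κ₂ F}
    (hG : Uᵀ * ((Two.alt : M₂) ⊗ₖ (1 : M₂)) * U = (Two.alt : M₂) ⊗ₖ (1 : M₂))
    (hj : U * ((1 : M₂) ⊗ₖ Two.alt) = ((1 : M₂) ⊗ₖ Two.alt) * U) : ∃ A B : M₂, U = A ⊗ₖ B := by
  classical
  obtain ⟨-, h2, -, -⟩ := MaxSub.TensorFrame.three hq
  obtain ⟨A, B, rfl⟩ := commute_one_alt hj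
  have hexp : (Aᵀ * Two.alt * A + Bᵀ * Two.alt * B) ⊗ₖ (1 : M₂) +
      (Aᵀ * Two.alt * B - Bᵀ * Two.alt * A) ⊗ₖ Two.alt = (Two.alt : M₂) ⊗ₖ (1 : M₂) := by
    conv_rhs => rw [← hG]
    rw [transpose_add, ← kroneckerMap_transpose, ← kroneckerMap_transpose, transpose_one, Two.alt_transpose]
    simp only [add_mul, mul_add, ← mul_kronecker_mul, mul_one, one_mul, neg_mul, Two.alt_sq, neg_neg]
    ext p q
    simp [kroneckerMap_apply]
    ring
  have e00 : ∀ a c, (Aᵀ * Two.alt * A + Bᵀ * Two.alt * B : M₂) a c = (Two.alt : M₂) a c := fun a c => by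
    have h := congrFun (congrFun hexp (a, 0)) (c, 0)
    simpa [Two.alt] using h
  have e01 : ∀ a c, (Aᵀ * Two.alt * B - Bᵀ * Two.alt * A : M₂) a c = 0 := fun a c => by
    have h := congrFun (congrFun hexp (a, 0)) (c, 1)
    simpa [Two.alt] using h
  obtain ⟨M, hM⟩ : ∃ M, M = Aᵀ * Two.alt * B := ⟨_, rfl⟩
  have hMt : Bᵀ * Two.alt * A = -Mᵀ := by
    rw [hM, transpose_mul, transpose_mul, transpose_transpose, Two.alt_transpose, neg_mul, mul_neg, neg_neg,
      mul_assoc]
  have hMskew : M = M 0 1 • (Two.alt : M₂) := by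
    have h' : ∀ a c, M a c + M c a = 0 := fun a c => by
      have h := e01 a c
      rw [← hM, hMt, Matrix.sub_apply, Matrix.neg_apply, transpose_apply] at h
      linear_combination h
    have d0 : M 0 0 = 0 := (mul_eq_zero.1 (show (2 : F) * M 0 0 = 0 by linear_combination h' 0 0)).resolve_left h2
    have d1 : M 1 1 = 0 := (mul_eq_zero.1 (show (2 : F) * M 1 1 = 0 by linear_combination h' 1 1)).resolve_left h2
    ext a c
    fin_cases a <;> fin_cases c <;> simp [Two.alt, d0, d1] <;> linear_combination h' 1 0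
  rcases eq_or_ne A.det 0 with hA | hA
  · refine ⟨B, Two.alt, ?_⟩
    have hx : M 0 1 = 0 := by
      have h := congrArg Matrix.det hMskew
      rw [hM, det_mul, det_mul, det_transpose, hA, zero_mul, zero_mul] at h
      rw [det_smul, Fintype.card_fin, ← hM] at h
      simp [Two.alt, Matrix.det_fin_two] at h
      exact (pow_eq_zero_iff two_ne_zero).1 h.symm
    have hdB : B.det = 1 := by
      have h := e00 0 1
      rw [Two.alt_conj, Two.alt_conj, hA, zero_smul, zero_add] at h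
      simpa [Two.alt] using h
    have hBu : IsUnit B := (Matrix.isUnit_iff_isUnit_det _).2 (hdB ▸ isUnit_one)
    have hAS : Aᵀ * Two.alt = 0 := by
      refine hBu.mul_right_cancel ?_
      rw [← hM, hMskew, hx, zero_smul, zero_mul]
    have hA0 : A = 0 := by
      have h := congrArg (· * (Two.alt : M₂)) hAS
      simp only [mul_assoc, Two.alt_sq, mul_neg, mul_one, zero_mul, neg_eq_zero] at h
      exact transpose_eq_zero.1 h
    rw [hA0, zero_kronecker, zero_add]
  · refine ⟨A, 1 + (M 0 1 / A.det) • Two.alt, ?_⟩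
    have hu : IsUnit (Aᵀ * Two.alt) := by
      refine ((Matrix.isUnit_iff_isUnit_det _).2 ?_).mul (IsUnit.of_mul_eq_one (-Two.alt : M₂) (by
        rw [mul_neg, Two.alt_sq, neg_neg]))
      rw [det_transpose]; exact isUnit_iff_ne_zero.2 hA
    have hB : B = (M 0 1 / A.det) • A := by
      refine hu.mul_left_cancel ?_
      rw [Matrix.mul_smul, Two.alt_conj, smul_smul, div_mul_cancel₀ _ hA, ← hM]
      exact hMskew
    conv_lhs => rw [hB]
    rw [kronecker_add, kronecker_smul, smul_kronecker]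

/-- Over three elements the normaliser of a skew quadratic extension lies in a member of class 6. -/
theorem symp_of_unitary [Fintype F] (hq : Fintype.card F = 3) {H : Subgroup (GL ι₂ F)}
    (hH : H ≤ Cfsg.spGL 2 F) {K : Subalgebra F 𝕄} (hK : IsFieldSubalgebra 2 K)
    (hac : IsAdjointClosedFor (Cfsg.sympForm 2 F) K) (hns : ¬ IsSelfAdjointFor (Cfsg.sympForm 2 F) K)
    (hle : H ≤ subalgebraNormalizer K) :
    ∃ R : Subgroup (GL ι₂ F), IsSymplecticTypeGroup 2 R ∧ ActsAbsolutelyIrreducibly (matrixSet R) ∧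
      R ≤ similarityGroup (Cfsg.sympForm 2 F) ∧ Nat.card R = 2 ^ (1 + 2 * 2) ∧
      Nat.card (Subgroup.center R) = 2 ∧ IsOfMinusType 2 R ∧ H ≤ subgroupNormalizer R ∧
      ¬ Cfsg.spGL 2 F ≤ subgroupNormalizer R := by
  classical
  obtain ⟨h3, h2, -, -⟩ := MaxSub.TensorFrame.three hq
  obtain ⟨j, hjK, hjs, hj2, hrep⟩ := exists_root hq hK hac hns
  obtain ⟨e⟩ := exists_equiv_four
  obtain ⟨P, hgram, hjP⟩ := exists_root_coords hq hjs hj2 e
  have h1ne := one_ne_zero_mat (F := F) (m := 2) two_pos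
  have hfactor : ∀ g ∈ H, ∃ A B : M₂, (g : 𝕄) = tmat e P (A ⊗ₖ B) := by
    intro g hg
    have hgS := hH hg
    obtain ⟨U, hU⟩ : ∃ U, (g : 𝕄) = tmat e P U := ⟨_, ((tmat e P).apply_symm_apply _).symm⟩
    have hG := gram_invariant e P hgS hU
    rw [hgram] at hG
    have hcj : cj g j = j ∨ cj g j = -j := by
      obtain ⟨a, b, hab⟩ := hrep (cj g j) ((hle hg j).1 hjK)
      have hs : adj (cj g j) = -cj g j := by
        rw [adj_cj (spGL_le_similarityGroup hgS), hjs, map_neg]
      rw [hab, adj_add, adj_smul, adj_smul, adj_one, hjs, smul_neg, neg_add] at hs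
      have ha : a = 0 := by
        have h' : ((2 : F) * a) • (1 : 𝕄) = 0 := by
          rw [mul_smul, two_smul]
          calc a • (1 : 𝕄) + a • 1 = (a • (1 : 𝕄) + -(b • j)) - (-(a • 1) + -(b • j)) := by abel
            _ = 0 := by rw [hs, sub_self]
        exact (mul_eq_zero.1 ((smul_eq_zero.1 h').resolve_right h1ne)).resolve_left h2
      rw [ha, zero_smul, zero_add] at hab
      have hb2 : b * b = 1 := by
        have h := congrArg (fun x => x * x) hab
        rw [← map_mul, hj2, map_neg, map_one, Matrix.smul_mul, Matrix.mul_smul, smul_smul, hj2, smul_neg] at h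
        exact (smul_left_injective F h1ne ((one_smul F (1 : 𝕄)).trans (neg_inj.1 h))).symm
      rcases mul_self_eq_one_iff.1 hb2 with rfl | rfl
      · left; rw [hab, one_smul]
      · right; rw [hab, neg_one_smul]
    have htr : ∀ c : F, cj g j = c • j →
        U * ((1 : M₂) ⊗ₖ Two.alt) = c • (((1 : M₂) ⊗ₖ Two.alt) * U) := by
      intro c hc
      apply (tmat e P).injective
      rw [map_mul, map_smul, map_mul, ← hU, ← hjP]
      have h := congrArg (· * (g : 𝕄)) hc
      simp only [cj_apply] at h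
      rwa [mul_assoc, ← Units.val_mul, inv_mul_cancel, Units.val_one, mul_one, Matrix.smul_mul] at h
    rcases hcj with h | h
    · obtain ⟨A, B, hAB⟩ := unitary_factor hq hG (by
        have := htr 1 (by rw [h, one_smul]); rwa [one_smul] at this)
      exact ⟨A, B, by rw [hU, hAB]⟩
    · obtain ⟨d, hd⟩ : ∃ d : M₂, d = !![1, 0; 0, -1] := ⟨_, rfl⟩
      have hdd : d * d = 1 := by rw [hd]; ext a c; fin_cases a <;> fin_cases c <;> simp
      have hdo : dᵀ * d = 1 := hd ▸ Two.dih_orth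
      have hda : d * Two.alt = -(Two.alt * d) := by
        rw [hd]; ext a c; fin_cases a <;> fin_cases c <;> simp [Two.alt]
      obtain ⟨A, B, hAB⟩ := unitary_factor hq (U := U * ((1 : M₂) ⊗ₖ d)) (by
        rw [transpose_mul, ← kroneckerMap_transpose, transpose_one]
        calc ((1 : M₂) ⊗ₖ dᵀ * Uᵀ) * ((Two.alt : M₂) ⊗ₖ (1 : M₂)) * (U * ((1 : M₂) ⊗ₖ d))
            = (1 : M₂) ⊗ₖ dᵀ * (Uᵀ * ((Two.alt : M₂) ⊗ₖ (1 : M₂)) * U) * ((1 : M₂) ⊗ₖ d) := by
              simp only [mul_assoc]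
          _ = _ := by rw [hG, ← mul_kronecker_mul, ← mul_kronecker_mul, one_mul, mul_one, mul_one, hdo]) (by
        have h' := htr (-1) (by rw [h, neg_one_smul])
        have hd' : ((1 : M₂) ⊗ₖ d) * ((1 : M₂) ⊗ₖ Two.alt) =
            (-1 : F) • (((1 : M₂) ⊗ₖ Two.alt) * ((1 : M₂) ⊗ₖ d)) := by
          rw [← mul_kronecker_mul, ← mul_kronecker_mul, hda, ← neg_one_smul F (Two.alt * d), kronecker_smul]
        rw [mul_assoc, hd', Matrix.mul_smul, ← mul_assoc, h', Matrix.smul_mul, smul_smul, mul_assoc]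
        simp)
      refine ⟨A, B * d, ?_⟩
      rw [hU]
      congr 1
      calc U = U * ((1 : M₂) ⊗ₖ d) * ((1 : M₂) ⊗ₖ d) := by
            rw [mul_assoc, ← mul_kronecker_mul, hdd, mul_one, one_kronecker_one, mul_one]
        _ = A ⊗ₖ (B * d) := by rw [hAB, ← mul_kronecker_mul, mul_one]
  let S : Set (GL ι₂ F) := {g | (∃ q : M₂, q * q = -1 ∧ (g : 𝕄) = tmat e P (q ⊗ₖ (1 : M₂))) ∨
    ∃ d : M₂, dᵀ * d = 1 ∧ (g : 𝕄) = tmat e P ((1 : M₂) ⊗ₖ d)}
  refine symp_of_gens le_rfl h2 (by norm_num) S ?_ ?_ ?_ ?_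
  · rintro g (⟨q, hq', hg⟩ | ⟨d, hd, hg⟩)
    · refine tmat_mem_spGL e P hg ?_
      rw [hgram, ← kroneckerMap_transpose, ← mul_kronecker_mul, ← mul_kronecker_mul, transpose_one, one_mul,
        one_mul, Two.alt_conj, Two.det_of_sq hq hq', one_smul]
    · refine tmat_mem_spGL e P hg ?_
      rw [hgram, ← kroneckerMap_transpose, ← mul_kronecker_mul, ← mul_kronecker_mul, transpose_one, one_mul,
        mul_one, mul_one, hd]
  · intro x hx y hy
    show (x : 𝕄) * y = y * x ∨ (x : 𝕄) * y = -((y : 𝕄) * x)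
    rcases hx with ⟨q, hq', hg⟩ | ⟨d, hd, hg⟩ <;> rcases hy with ⟨q', hq'', hg'⟩ | ⟨d', hd', hg'⟩ <;>
      rw [hg, hg', ← map_mul, ← map_mul, ← mul_kronecker_mul, ← mul_kronecker_mul]
    · rcases Two.pm_of_sq hq hq' hq'' with h | h
      · exact Or.inl (by rw [h])
      · exact Or.inr (by rw [h, ← neg_one_smul F (q' * q), smul_kronecker, map_smul, neg_one_smul])
    · exact Or.inl (by rw [one_mul, mul_one, mul_one, one_mul])
    · exact Or.inl (by rw [one_mul, mul_one, mul_one, one_mul])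
    · rcases Two.pm_of_orth hq hd hd' with h | h
      · exact Or.inl (by rw [h])
      · exact Or.inr (by rw [h, ← neg_one_smul F (d' * d), kronecker_smul, map_smul, neg_one_smul])
  · obtain ⟨A, hA⟩ : ∃ A, A = Algebra.adjoin F ((fun g : GL ι₂ F => (g : 𝕄)) '' S) := ⟨_, rfl⟩
    rw [← hA]
    let L : Subalgebra F M₂ :=
      { carrier := {x | tmat e P (x ⊗ₖ (1 : M₂)) ∈ A}
        mul_mem' := fun {x y} hx hy => by
          show tmat e P ((x * y) ⊗ₖ (1 : M₂)) ∈ A
          rw [← mul_one (1 : M₂), mul_kronecker_mul, map_mul]; exact A.mul_mem hx hy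
        add_mem' := fun {x y} hx hy => by
          show tmat e P ((x + y) ⊗ₖ (1 : M₂)) ∈ A
          rw [add_kronecker, map_add]; exact A.add_mem hx hy
        algebraMap_mem' := fun r => by
          show tmat e P ((algebraMap F M₂ r) ⊗ₖ (1 : M₂)) ∈ A
          rw [Algebra.algebraMap_eq_smul_one, smul_kronecker, one_kronecker_one, map_smul, map_one]
          exact A.smul_mem A.one_mem r }
    let R : Subalgebra F M₂ :=
      { carrier := {x | tmat e P ((1 : M₂) ⊗ₖ x) ∈ A}
        mul_mem' := fun {x y} hx hy => by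
          show tmat e P ((1 : M₂) ⊗ₖ (x * y)) ∈ A
          rw [← mul_one (1 : M₂), mul_kronecker_mul, map_mul]; exact A.mul_mem hx hy
        add_mem' := fun {x y} hx hy => by
          show tmat e P ((1 : M₂) ⊗ₖ (x + y)) ∈ A
          rw [kronecker_add, map_add]; exact A.add_mem hx hy
        algebraMap_mem' := fun r => by
          show tmat e P ((1 : M₂) ⊗ₖ (algebraMap F M₂ r)) ∈ A
          rw [Algebra.algebraMap_eq_smul_one, kronecker_smul, one_kronecker_one, map_smul, map_one]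
          exact A.smul_mem A.one_mem r }
    have hLmem : ∀ q : M₂, q * q = -1 → q ∈ L := fun q hq' => by
      obtain ⟨g, hg⟩ := exists_gl_tmat e P (X := q ⊗ₖ (1 : M₂))
        (IsUnit.of_mul_eq_one (-(q ⊗ₖ (1 : M₂))) (by
          rw [mul_neg, ← mul_kronecker_mul, hq', one_mul, ← neg_one_smul F (1 : M₂), smul_kronecker,
            one_kronecker_one, neg_one_smul, neg_neg]))
      show tmat e P (q ⊗ₖ (1 : M₂)) ∈ A
      rw [← hg, hA]; exact Algebra.subset_adjoin ⟨g, Or.inl ⟨q, hq', hg⟩, rfl⟩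
    have hRmem : ∀ d : M₂, dᵀ * d = 1 → d ∈ R := fun d hd => by
      obtain ⟨g, hg⟩ := exists_gl_tmat e P (X := (1 : M₂) ⊗ₖ d)
        ((Matrix.isUnit_iff_isUnit_det _).2 (by
          rw [det_kronecker, det_one, one_pow, one_mul]
          refine IsUnit.pow _ ?_
          have h := congrArg Matrix.det hd
          rw [det_mul, det_transpose, det_one] at h
          exact IsUnit.of_mul_eq_one _ h))
      show tmat e P ((1 : M₂) ⊗ₖ d) ∈ A
      rw [← hg, hA]; exact Algebra.subset_adjoin ⟨g, Or.inr ⟨d, hd, hg⟩, rfl⟩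
    have hLtop := Two.top_of_quat h2 L (hLmem _ Two.alt_sq) (hLmem _ (Two.quat_sq h3))
    have hRtop := Two.top_of_dihedral h2 R (hRmem _ Two.alt_orth) (hRmem _ Two.dih_orth)
    rw [eq_top_iff]
    intro X _
    obtain ⟨Y, rfl⟩ := (tmat e P).surjective X
    rw [Matrix.matrix_eq_sum_single Y, map_sum]
    refine A.sum_mem fun p _ => ?_
    rw [map_sum]
    refine A.sum_mem fun q _ => ?_
    have hsingle : Matrix.single p q (Y p q) =
        (Matrix.single p.1 q.1 (Y p q) ⊗ₖ (1 : M₂)) * ((1 : M₂) ⊗ₖ Matrix.single p.2 q.2 (1 : F)) := by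
      rw [← mul_kronecker_mul, mul_one, one_mul]
      ext r s
      rw [kroneckerMap_apply, Matrix.single_apply, Matrix.single_apply, Matrix.single_apply]
      by_cases h1 : p.1 = r.1 <;> by_cases h2' : q.1 = s.1 <;> by_cases h3' : p.2 = r.2 <;>
        by_cases h4 : q.2 = s.2 <;> simp [h1, h2', h3', h4, Prod.ext_iff]
    rw [hsingle, map_mul]
    exact A.mul_mem (show Matrix.single p.1 q.1 (Y p q) ∈ L by rw [hLtop]; exact Algebra.mem_top)
      (show Matrix.single p.2 q.2 (1 : F) ∈ R by rw [hRtop]; exact Algebra.mem_top)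
  · intro g hg x hx
    refine Subgroup.subset_closure ?_
    obtain ⟨A, B, hAB⟩ := hfactor g hg
    have hG := gram_invariant e P (hH hg) hAB
    rw [hgram, ← kroneckerMap_transpose, ← mul_kronecker_mul, ← mul_kronecker_mul, mul_one, Two.alt_conj] at hG
    have hABu : IsUnit (A ⊗ₖ B) := by
      have h : IsUnit ((g : 𝕄)) := g.isUnit
      rw [hAB] at h
      simpa using h.map (tmat e P).symm
    obtain ⟨⟨a, rfl⟩, ⟨b, rfl⟩⟩ := isUnit_kron_factors hABu
    obtain ⟨t, ht, htA, htB⟩ := kron_cancel hG.symm (fun h => by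
      have := congrFun (congrFun h 0) 1; simp [Two.alt] at this) one_ne_zero
    have hcoe : ((g * x * g⁻¹ : GL ι₂ F) : 𝕄) = cj g (x : 𝕄) := by
      rw [cj_apply, Units.val_mul, Units.val_mul]
    rcases hx with ⟨q, hq', hgx⟩ | ⟨d, hd, hgx⟩
    · refine Or.inl ⟨cj a q, by rw [← map_mul, hq', map_neg, map_one], ?_⟩
      rw [hcoe, hgx]
      refine cj_tmat e P hAB ?_
      rw [← mul_kronecker_mul, ← mul_kronecker_mul, mul_one, one_mul, cj_apply, mul_assoc, Units.inv_mul,
        mul_one]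
    · refine Or.inr ⟨cj b d, ?_, ?_⟩
      · have hbi : ((b⁻¹ : GL (Fin 2) F) : M₂) = t • (b : M₂)ᵀ := by
          refine Units.inv_eq_of_mul_eq_one_left ?_
          rw [Matrix.smul_mul, htB, smul_smul, mul_inv_cancel₀ ht, one_smul]
        rw [cj_apply, hbi]
        simp only [Matrix.transpose_mul, Matrix.transpose_smul, Matrix.transpose_transpose, Matrix.mul_smul,
          Matrix.smul_mul, smul_smul]
        calc (t * t) • ((b : M₂) * (dᵀ * (b : M₂)ᵀ) * ((b : M₂) * d * (b : M₂)ᵀ))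
            = (t * t) • ((b : M₂) * dᵀ * ((b : M₂)ᵀ * (b : M₂)) * d * (b : M₂)ᵀ) := by simp only [mul_assoc]
          _ = t • ((b : M₂) * (dᵀ * d) * (b : M₂)ᵀ) := by
              rw [htB]; simp only [Matrix.mul_smul, Matrix.smul_mul, smul_smul, mul_one, mul_assoc]
              congr 1; field_simp
          _ = _ := by
              rw [hd, mul_one]
              have hbb : (b : M₂) * (t • (b : M₂)ᵀ) = 1 := by rw [← hbi]; exact b.mul_inv
              rwa [Matrix.mul_smul] at hbb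
      · rw [hcoe, hgx]
        refine cj_tmat e P hAB ?_
        rw [← mul_kronecker_mul, ← mul_kronecker_mul, mul_one, one_mul, cj_apply, mul_assoc, Units.inv_mul,
          mul_one]

end CfsgLib.AschSp
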